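import Mathlib

/-!
# Orbit and Sylow lemmas for subgroups of an acting group
-/

set_option autoImplicit false
set_option linter.unusedSectionVars false
set_option linter.style.haveILetI false

namespace Cfsg.Lib.Plane

open MulAction

variable {Γ : Type*} [Group Γ] {α : Type*} [MulAction Γ α]

/-- The orbit of `x` under the subgroup `K`. -/
def orb (K : Subgroup Γ) (x : α) : Set α := {y | ∃ k ∈ K, k • x = y}

theorem self_mem_orb (K : Subgroup Γ) (x : α) : x ∈ orb K x := ⟨1, one_mem K, one_smul Γ x⟩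

theorem orb_mono {H K : Subgroup Γ} (h : H ≤ K) (x : α) : orb H x ⊆ orb K x :=
  fun _ ⟨k, hk, e⟩ => ⟨k, h hk, e⟩

theorem orb_symm {K : Subgroup Γ} {x y : α} (h : y ∈ orb K x) : x ∈ orb K y := by
  obtain ⟨k, hk, rfl⟩ := h
  exact ⟨k⁻¹, inv_mem hk, inv_smul_smul k x⟩

theorem orb_trans {K : Subgroup Γ} {x y z : α} (h : y ∈ orb K x) (h' : z ∈ orb K y) :
    z ∈ orb K x := by
  obtain ⟨k, hk, rfl⟩ := h
  obtain ⟨j, hj, rfl⟩ := h'
  exact ⟨j * k, mul_mem hj hk, mul_smul j k x⟩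

theorem orb_pair {K : Subgroup Γ} {x y z : α} (hy : y ∈ orb K x) (hz : z ∈ orb K x) :
    ∃ k ∈ K, k • y = z := orb_trans (orb_symm hy) hz

theorem card_orb_eq_orbit (K : Subgroup Γ) (x : α) :
    Nat.card ↥(orb K x) = Nat.card ↥(MulAction.orbit K x) :=
  Nat.card_congr (Equiv.subtypeEquivRight fun y =>
    ⟨fun ⟨k, hk, e⟩ => ⟨⟨k, hk⟩, e⟩, fun ⟨k, e⟩ => ⟨k, k.2, e⟩⟩)

theorem subgroupOf_stabilizer (K : Subgroup Γ) (x : α) :
    (stabilizer Γ x).subgroupOf K = stabilizer K x := by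
  ext k
  exact Iff.rfl

theorem card_orb_mul (K : Subgroup Γ) (x : α) :
    Nat.card ↥(orb K x) * Nat.card ↥(K ⊓ stabilizer Γ x) = Nat.card K := by
  rw [card_orb_eq_orbit, ← Subgroup.subgroupOf_map_subtype (stabilizer Γ x) K |>.trans (inf_comm _ _),
    subgroupOf_stabilizer, Subgroup.card_map_of_injective K.subtype_injective, mul_comm]
  rw [Nat.card_congr (orbitEquivQuotientStabilizer K x)]
  exact Subgroup.card_mul_index (stabilizer K x)

theorem relIndex_stabilizer (K : Subgroup Γ) (x : α) :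
    (K ⊓ stabilizer Γ x).relIndex K = Nat.card ↥(orb K x) := by
  rw [inf_comm, Subgroup.inf_relIndex_right, Subgroup.relIndex, subgroupOf_stabilizer,
    index_stabilizer, ← Nat.card_coe_set_eq, card_orb_eq_orbit]

variable [Finite Γ]

theorem card_orb_pos (K : Subgroup Γ) (x : α) : 0 < Nat.card ↥(orb K x) := by
  have h := card_orb_mul K x
  have h2 : 0 < Nat.card K := Nat.card_pos
  rcases Nat.eq_zero_or_pos (Nat.card ↥(orb K x)) with e | e
  · rw [e, zero_mul] at h; omega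
  · exact e

theorem card_eq_mul_relIndex {H K : Subgroup Γ} (h : H ≤ K) :
    Nat.card K = Nat.card H * H.relIndex K := by
  rw [Subgroup.relIndex, ← Nat.card_congr (Subgroup.subgroupOfEquivOfLe h).toEquiv,
    Subgroup.card_mul_index]

/-- Divisors of an orbit size prime to the index survive in the orbit of the subgroup. -/
theorem dvd_orb_of_coprime {H K : Subgroup Γ} (hHK : H ≤ K) (x : α) {d : ℕ}
    (hd : d ∣ Nat.card ↥(orb K x)) (hcop : Nat.Coprime d (H.relIndex K)) :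
    d ∣ Nat.card ↥(orb H x) := by
  have h1 := card_orb_mul K x
  have h2 := card_orb_mul H x
  have h3 := card_eq_mul_relIndex hHK
  obtain ⟨j, hj⟩ := Subgroup.card_dvd_of_le
    (inf_le_inf_right (stabilizer Γ x) hHK : H ⊓ stabilizer Γ x ≤ K ⊓ stabilizer Γ x)
  have h4 : 0 < Nat.card ↥(H ⊓ stabilizer Γ x) := Nat.card_pos
  have h5 : Nat.card ↥(orb K x) * j = Nat.card ↥(orb H x) * H.relIndex K := by
    rw [h3, ← h2, hj] at h1
    apply Nat.eq_of_mul_eq_mul_left h4
    linarith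
  exact hcop.dvd_of_dvd_mul_right (h5 ▸ hd.mul_right j)

/-- A subgroup of index prime to the orbit size is transitive on the orbit. -/
theorem orb_eq_of_coprime [Finite α] {H K : Subgroup Γ} (hHK : H ≤ K) (x : α)
    (hcop : Nat.Coprime (Nat.card ↥(orb K x)) (H.relIndex K)) : orb H x = orb K x := by
  have h := dvd_orb_of_coprime hHK x dvd_rfl hcop
  rw [Nat.card_coe_set_eq, Nat.card_coe_set_eq] at h
  refine Set.eq_of_subset_of_ncard_le (orb_mono hHK x) (Nat.le_of_dvd ?_ h) (Set.toFinite _)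
  exact (Set.ncard_pos (Set.toFinite _)).mpr ⟨x, self_mem_orb H x⟩

/-- A group of prime power order has orbits of prime power size. -/
theorem card_orb_prime_pow {p : ℕ} [hp : Fact p.Prime] {K : Subgroup Γ} (hK : IsPGroup p K)
    (x : α) : ∃ b, Nat.card ↥(orb K x) = p ^ b := by
  obtain ⟨m, hm⟩ := IsPGroup.iff_card.mp hK
  obtain ⟨b, -, hb⟩ := (Nat.dvd_prime_pow hp.out).mp
    (hm ▸ Dvd.intro _ (card_orb_mul K x) : Nat.card ↥(orb K x) ∣ p ^ m)
  exact ⟨b, hb⟩

/-- `X` is a Sylow `p`-subgroup of `K`. -/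
structure IsSyl (p : ℕ) (X K : Subgroup Γ) : Prop where
  le : X ≤ K
  isPGroup : IsPGroup p X
  not_dvd : ¬p ∣ X.relIndex K

theorem exists_isSyl_ge (p : ℕ) [Fact p.Prime] {Y K : Subgroup Γ} (hY : IsPGroup p Y)
    (hYK : Y ≤ K) : ∃ X, IsSyl p X K ∧ Y ≤ X := by
  obtain ⟨S, hS⟩ := (hY.of_equiv (Subgroup.subgroupOfEquivOfLe hYK).symm).exists_le_sylow
  refine ⟨(S : Subgroup K).map K.subtype, ⟨Subgroup.map_subtype_le _, ?_, ?_⟩, ?_⟩
  · exact S.2.map _
  · rw [Subgroup.relIndex,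
      show ((S : Subgroup K).map K.subtype).subgroupOf K = (S : Subgroup K) from
        Subgroup.comap_map_eq_self_of_injective K.subtype_injective _]
    exact S.not_dvd_index
  · intro y hy
    exact ⟨⟨y, hYK hy⟩, hS (show (⟨y, hYK hy⟩ : K) ∈ Y.subgroupOf K from hy), rfl⟩

theorem exists_isSyl (p : ℕ) [Fact p.Prime] (K : Subgroup Γ) : ∃ X, IsSyl p X K := by
  obtain ⟨X, hX, -⟩ := exists_isSyl_ge p (K := K) (IsPGroup.of_bot (p := p)) bot_le
  exact ⟨X, hX⟩

theorem IsSyl.coprime {p : ℕ} [hp : Fact p.Prime] {X K : Subgroup Γ} (h : IsSyl p X K) (a : ℕ) :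
    Nat.Coprime (p ^ a) (X.relIndex K) :=
  Nat.Coprime.pow_left a (hp.out.coprime_iff_not_dvd.mpr h.not_dvd)

theorem IsSyl.of_le {p : ℕ} {X K M : Subgroup Γ} (h : IsSyl p X M) (hXK : X ≤ K) (hKM : K ≤ M) :
    IsSyl p X K :=
  ⟨hXK, h.isPGroup, fun hd => h.not_dvd
    (hd.trans ⟨K.relIndex M, (Subgroup.relIndex_mul_relIndex X K M hXK hKM).symm⟩)⟩

/-- A Sylow subgroup has maximal order among the `p`-subgroups. -/
theorem IsSyl.card_le {p : ℕ} [hp : Fact p.Prime] {X Y K : Subgroup Γ} (h : IsSyl p X K)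
    (hY : IsPGroup p Y) (hYK : Y ≤ K) : Nat.card Y ≤ Nat.card X := by
  obtain ⟨a, ha⟩ := IsPGroup.iff_card.mp hY
  have h1 : p ^ a ∣ Nat.card X * X.relIndex K := by
    rw [← card_eq_mul_relIndex h.le, ← ha]
    exact Subgroup.card_dvd_of_le hYK
  rw [ha]
  exact Nat.le_of_dvd Nat.card_pos ((h.coprime a).dvd_of_dvd_mul_right h1)

theorem IsSyl.eq_of_le {p : ℕ} [Fact p.Prime] {X Y K : Subgroup Γ} (h : IsSyl p X K)
    (hY : IsPGroup p Y) (hYK : Y ≤ K) (hXY : X ≤ Y) : X = Y :=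
  Subgroup.eq_of_le_of_card_ge hXY (h.card_le hY hYK)

/-- Witt: the normalizer of a Sylow subgroup of a point stabilizer moves `x` to each of its fixed
points in the orbit of `x`. -/
theorem witt {p : ℕ} [Fact p.Prime] {G X : Subgroup Γ} {x y : α}
    (hX : IsSyl p X (G ⊓ stabilizer Γ x)) (hy : y ∈ orb G x) (hfix : ∀ h ∈ X, h • y = y) :
    ∃ n ∈ G, n ∈ Subgroup.normalizer (X : Set Γ) ∧ n • x = y := by
  obtain ⟨g, hg, hgx⟩ := hy
  set K := G ⊓ stabilizer Γ x with hK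
  set X' := X.map (MulAut.conj g⁻¹).toMonoidHom with hX'
  have hX'K : X' ≤ K := by
    rintro _ ⟨h, hh, rfl⟩
    refine ⟨G.mul_mem (G.mul_mem (G.inv_mem hg) (hX.le hh).1) (G.inv_mem (G.inv_mem hg)), ?_⟩
    change (g⁻¹ * h * g⁻¹⁻¹) • x = x
    rw [inv_inv, mul_smul, mul_smul, hgx, hfix h hh, ← hgx, inv_smul_smul]
  have hcard : Nat.card X' = Nat.card X :=
    Subgroup.card_map_of_injective (MulAut.conj g⁻¹).injective
  have hidx : X'.relIndex K = X.relIndex K := by
    have h1 := card_eq_mul_relIndex hX.le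
    rw [card_eq_mul_relIndex hX'K, hcard] at h1
    exact Nat.eq_of_mul_eq_mul_left Nat.card_pos h1
  set SX : Sylow p K := IsPGroup.toSylow
    (hX.isPGroup.of_equiv (Subgroup.subgroupOfEquivOfLe hX.le).symm) hX.not_dvd with hSX
  set SY : Sylow p K := IsPGroup.toSylow
    ((hX.isPGroup.map (MulAut.conj g⁻¹).toMonoidHom).of_equiv
      (Subgroup.subgroupOfEquivOfLe hX'K).symm)
    (fun h => hX.not_dvd (by rw [← hidx]; exact h)) with hSY
  obtain ⟨k, hk⟩ := MulAction.exists_smul_eq K SX SY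
  refine ⟨g * k, mul_mem hg k.2.1, ?_, ?_⟩
  · have e : (X.subgroupOf K).map (MulAut.conj k).toMonoidHom = X'.subgroupOf K := by
      have e2 := congrArg (fun S : Sylow p K => (S : Subgroup K)) hk
      simp only [Sylow.coe_subgroup_smul, hSX, hSY, IsPGroup.toSylow_coe] at e2
      exact e2
    have hmem : ∀ h ∈ X, g * k * h * (g * k : Γ)⁻¹ ∈ X := by
      intro h hh
      have h1 : (MulAut.conj k) (⟨h, hX.le hh⟩ : K) ∈ X'.subgroupOf K :=
        e ▸ Subgroup.mem_map_of_mem _ (show (⟨h, hX.le hh⟩ : K) ∈ X.subgroupOf K from hh)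
      obtain ⟨h', hh', e'⟩ := (show ((k * ⟨h, hX.le hh⟩ * k⁻¹ : K) : Γ) ∈ X' from h1)
      have e3 : g⁻¹ * h' * g⁻¹⁻¹ = (k : Γ) * h * (k : Γ)⁻¹ := e'
      have : g * k * h * (g * k : Γ)⁻¹ = h' := by
        rw [inv_inv] at e3
        calc g * k * h * (g * k : Γ)⁻¹ = g * ((k : Γ) * h * (k : Γ)⁻¹) * g⁻¹ := by group
          _ = h' := by rw [← e3]; group
      rw [this]; exact hh'
    exact Subgroup.mem_normalizer_iff.mpr fun h => ⟨hmem h, fun hh => by
      have hbij : ∀ a ∈ X, ∃ b ∈ X, g * k * b * (g * k : Γ)⁻¹ = a := by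
        intro a ha
        obtain ⟨b, hb⟩ := Finite.surjective_of_injective
          (f := fun b : X => (⟨_, hmem b b.2⟩ : X))
          (fun b c hbc => Subtype.ext (by simpa using congrArg Subtype.val hbc)) ⟨a, ha⟩
        exact ⟨b, b.2, congrArg Subtype.val hb⟩
      obtain ⟨b, hb, e4⟩ := hbij _ hh
      have : b = h := mul_left_cancel (mul_right_cancel e4)
      exact this ▸ hb⟩
  · rw [mul_smul]
    have : (k : Γ) • x = x := k.2.2
    rw [this, hgx]

/-- In a finite `p`-group proper subgroups grow in their normalizers. -/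
theorem exists_normalizer_not_mem {p : ℕ} [Fact p.Prime] {Y X : Subgroup Γ} (hX : IsPGroup p X)
    (hYX : Y ≤ X) (hne : Y ≠ X) : ∃ g ∈ X, g ∉ Y ∧ g ∈ Subgroup.normalizer (Y : Set Γ) := by
  haveI := hX.isNilpotent
  have hlt : Y.subgroupOf X < ⊤ := lt_top_iff_ne_top.mpr fun h => hne
    (le_antisymm hYX (Subgroup.subgroupOf_eq_top.mp h))
  obtain ⟨g, hgn, hgY⟩ := SetLike.exists_of_lt (Group.normalizerCondition_of_isNilpotent _ hlt)
  refine ⟨g, g.2, hgY, Subgroup.mem_normalizer_iff.mpr fun h => ?_⟩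
  have key := Subgroup.mem_normalizer_iff.mp hgn
  constructor
  · intro hh; exact (key ⟨h, hYX hh⟩).mp hh
  · intro hh
    have hhX : h ∈ X := by
      have := mul_mem (mul_mem (inv_mem g.2) (hYX hh)) g.2
      simpa [mul_assoc] using this
    exact (key ⟨h, hhX⟩).mpr hh

end Cfsg.Lib.Plane
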