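import Cfsg.Agent.Lib.Plane.NoPair

/-!
# An additive space of invertible maps closed under harmonic sums is a field
-/

set_option autoImplicit false
set_option linter.unusedSectionVars false
set_option linter.style.haveILetI false

namespace Cfsg.Lib.Plane

variable {W : Type*} [AddCommGroup W] [Finite W] [Nontrivial W]

theorem finite_end : Finite (AddMonoid.End W) :=
  Finite.of_injective (fun f : AddMonoid.End W => (f : W → W)) DFunLike.coe_injective

/-- The hypotheses on a spread space. -/
structure HarmonicSpace (S : AddSubgroup (AddMonoid.End W)) : Prop where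
  one_mem : (1 : AddMonoid.End W) ∈ S
  unit : ∀ A ∈ S, A ≠ 0 → IsUnit A
  harmonic : ∀ A ∈ S, ∀ B ∈ S, A ≠ 0 → B ≠ 0 →
    Ring.inverse (Ring.inverse A + Ring.inverse B) ∈ S

theorem HarmonicSpace.conj_inverse {S : AddSubgroup (AddMonoid.End W)} (h : HarmonicSpace S)
    {A D : AddMonoid.End W} (hA : A ∈ S) (hD : D ∈ S) (hA0 : A ≠ 0) (hD0 : D ≠ 0) :
    A * Ring.inverse D * A ∈ S := by
  by_cases hDA : D = A
  · subst hDA
    rw [Ring.mul_inverse_cancel _ (h.unit D hD hD0), one_mul]
    exact hD
  have hE : D - A ∈ S := sub_mem hD hA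
  have hE0 : D - A ≠ 0 := sub_ne_zero.mpr hDA
  obtain ⟨u, rfl⟩ := h.unit A hA hA0
  obtain ⟨v, hv⟩ := h.unit (D - u) hE hE0
  obtain ⟨w, hw⟩ := h.unit D hD hD0
  have key := h.harmonic _ hA _ hE hA0 hE0
  rw [← hv, Ring.inverse_unit, Ring.inverse_unit] at key
  have e : (↑u⁻¹ + ↑v⁻¹ : AddMonoid.End W) = ↑(u⁻¹ * w * v⁻¹) := by
    push_cast
    rw [hw, show D = (v : AddMonoid.End W) + u from by rw [hv, sub_add_cancel], mul_add, add_mul,
      mul_assoc, Units.mul_inv, mul_one, Units.inv_mul, one_mul]
  rw [e, Ring.inverse_unit] at key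
  have e2 : ((u⁻¹ * w * v⁻¹)⁻¹ : (AddMonoid.End W)ˣ) = v * w⁻¹ * u := by group
  rw [e2] at key
  push_cast at key
  rw [hv] at key
  have e3 : (u : AddMonoid.End W) * Ring.inverse D * u =
      u - (D - u) * ↑w⁻¹ * u := by
    rw [← hw, Ring.inverse_unit, sub_mul, sub_mul, Units.mul_inv, one_mul, sub_sub_cancel]
  rw [e3]
  exact sub_mem hA key

theorem HarmonicSpace.inverse_mem {S : AddSubgroup (AddMonoid.End W)} (h : HarmonicSpace S)
    {D : AddMonoid.End W} (hD : D ∈ S) : Ring.inverse D ∈ S := by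
  by_cases hD0 : D = 0
  · rw [hD0, Ring.inverse_zero]; exact zero_mem S
  haveI : Nontrivial (AddMonoid.End W) := by
    obtain ⟨x, hx⟩ := exists_ne (0 : W)
    exact ⟨⟨1, 0, fun e => hx (DFunLike.congr_fun e x)⟩⟩
  simpa using h.conj_inverse h.one_mem hD one_ne_zero hD0

theorem HarmonicSpace.jordan {S : AddSubgroup (AddMonoid.End W)} (h : HarmonicSpace S)
    {A B : AddMonoid.End W} (hA : A ∈ S) (hB : B ∈ S) : A * B * A ∈ S := by
  by_cases hA0 : A = 0
  · rw [hA0, zero_mul, zero_mul]; exact zero_mem S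
  by_cases hB0 : B = 0
  · rw [hB0, mul_zero, zero_mul]; exact zero_mem S
  obtain ⟨u, rfl⟩ := h.unit B hB hB0
  have h1 := h.inverse_mem hB
  rw [Ring.inverse_unit] at h1
  have hne : (↑u⁻¹ : AddMonoid.End W) ≠ 0 := by
    intro e
    apply hB0
    calc (u : AddMonoid.End W) = u * (↑u⁻¹ * u) := by rw [Units.inv_mul, mul_one]
      _ = 0 := by rw [e, zero_mul, mul_zero]
  have := h.conj_inverse hA h1 hA0 hne
  rwa [Ring.inverse_unit, inv_inv] at this

theorem HarmonicSpace.pow_mem {S : AddSubgroup (AddMonoid.End W)} (h : HarmonicSpace S)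
    {A : AddMonoid.End W} (hA : A ∈ S) : ∀ j : ℕ, A ^ j ∈ S
  | 0 => by simpa using h.one_mem
  | 1 => by simpa using hA
  | j + 2 => by
    have := h.jordan hA (h.pow_mem hA j)
    rwa [← pow_succ' A j, ← pow_succ] at this

theorem HarmonicSpace.closure_le {S : AddSubgroup (AddMonoid.End W)} (h : HarmonicSpace S)
    {A : AddMonoid.End W} (hA : A ∈ S) {x : AddMonoid.End W}
    (hx : x ∈ Subring.closure ({A} : Set (AddMonoid.End W))) : x ∈ S := by
  rw [Subring.mem_closure_iff] at hx
  induction hx using AddSubgroup.closure_induction with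
  | mem x hx =>
    obtain ⟨j, rfl⟩ := Submonoid.mem_closure_singleton.mp hx
    exact h.pow_mem hA j
  | zero => exact zero_mem S
  | add x y _ _ hx hy => exact add_mem hx hy
  | neg x _ hx => exact neg_mem hx

set_option maxHeartbeats 1000000 in
/-- A harmonic space of invertible maps is a commutative ring. -/
theorem HarmonicSpace.commutative {S : AddSubgroup (AddMonoid.End W)} (h : HarmonicSpace S) :
    ∀ A ∈ S, ∀ B ∈ S, A * B = B * A ∧ A * B ∈ S := by
  classical
  haveI := finite_end (W := W)
  haveI : Nontrivial (AddMonoid.End W) := by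
    obtain ⟨x, hx⟩ := exists_ne (0 : W)
    exact ⟨⟨1, 0, fun e => hx (DFunLike.congr_fun e x)⟩⟩
  haveI : Nonempty S := ⟨⟨0, zero_mem S⟩⟩
  obtain ⟨⟨A₀, hA₀⟩, hmax⟩ := Finite.exists_max
    (fun A : S => Nat.card (Subring.closure ({(A : AddMonoid.End W)} : Set (AddMonoid.End W))))
  set E := Subring.closure ({A₀} : Set (AddMonoid.End W)) with hE
  have hES : ∀ x ∈ E, x ∈ S := fun x hx => h.closure_le hA₀ hx
  have dom : ∀ (R : Subring (AddMonoid.End W)), (∀ x ∈ R, x ∈ S) → NoZeroDivisors R := by
    intro R hR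
    refine ⟨fun {x y} hxy => ?_⟩
    by_contra hno
    push Not at hno
    apply hno.2
    obtain ⟨u, hu⟩ := h.unit _ (hR _ x.2) (fun e => hno.1 (Subtype.ext e))
    apply Subtype.ext
    have h1 : (x : AddMonoid.End W) * y = 0 := congrArg Subtype.val hxy
    rw [← hu, Units.mul_right_eq_zero] at h1
    exact h1
  letI : CommRing E := Subring.closureCommRingOfComm fun a ha b hb => by
    rw [Set.mem_singleton_iff.mp ha, Set.mem_singleton_iff.mp hb]
  haveI : Nontrivial E := ⟨⟨0, 1, fun e => zero_ne_one (congrArg Subtype.val e)⟩⟩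
  haveI := dom E hES
  haveI : IsDomain E := NoZeroDivisors.to_isDomain _
  letI := Fintype.ofFinite E
  letI : Field E := Fintype.fieldOfDomain E
  let ρ : E →+* AddMonoid.End W := E.subtype
  have sq_span : ∀ a : E, ∃ s : Bool × E × E, (s.1 = true → a = s.2.1 * s.2.1) ∧
      (s.1 = false → a = s.2.1 * s.2.1 - s.2.2 * s.2.2) := by
    intro a
    by_cases h2 : (2 : E) = 0
    · haveI : CharP E 2 := by
        obtain ⟨p, hp⟩ := CharP.exists E
        have h2' : ((2 : ℕ) : E) = 0 := by exact_mod_cast h2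
        rw [CharP.cast_eq_zero_iff E p] at h2'
        rcases (Nat.dvd_prime Nat.prime_two).mp h2' with h' | h'
        · subst h'; exact absurd rfl (CharP.char_ne_one E 1)
        · subst h'; exact hp
      obtain ⟨s, hs⟩ := FiniteField.isSquare_of_char_two (ringChar.eq E 2) a
      exact ⟨(true, s, 0), fun _ => hs, fun e => Bool.noConfusion e⟩
    · refine ⟨(false, (a + 1) / 2, (a - 1) / 2), fun e => Bool.noConfusion e, fun _ => ?_⟩
      field_simp
      ring
  have hmaxS : ∀ X ∈ S, IsComp ρ 1 X → ∃ a, ρ a = X := by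
    intro X hX hXc
    have hXa : ∀ a : E, Commute X (a : AddMonoid.End W) := fun a => hXc a
    have hmem : ∀ (a : E) (j : ℕ), (a : AddMonoid.End W) * X ^ j ∈ S := by
      intro a j
      have hsq : ∀ s : E, ((s * s : E) : AddMonoid.End W) * X ^ j ∈ S := by
        intro s
        have h1 := h.jordan (hES _ s.2) (h.pow_mem hX j)
        rw [mul_assoc, ((hXa s).pow_left j).eq, ← mul_assoc] at h1
        exact h1
      obtain ⟨⟨b, s, t⟩, h1, h2⟩ := sq_span a
      cases b with
      | true => rw [h1 rfl]; exact hsq s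
      | false =>
        rw [h2 rfl]
        change (((s * s : E) : AddMonoid.End W) - ((t * t : E) : AddMonoid.End W)) * X ^ j ∈ S
        rw [sub_mul]
        exact sub_mem (hsq s) (hsq t)
    let T : Set (AddMonoid.End W) := {Z | ∃ (a : E) (j : ℕ), Z = (a : AddMonoid.End W) * X ^ j}
    have hTS : ∀ Z ∈ AddSubgroup.closure T, Z ∈ S := by
      intro Z hZ
      induction hZ using AddSubgroup.closure_induction with
      | mem Z hZ => obtain ⟨a, j, rfl⟩ := hZ; exact hmem a j
      | zero => exact zero_mem S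
      | add x y _ _ hx hy => exact add_mem hx hy
      | neg x _ hx => exact neg_mem hx
    let M : Submonoid (AddMonoid.End W) :=
      { carrier := T
        one_mem' := ⟨1, 0, by simp⟩
        mul_mem' := by
          rintro _ _ ⟨a, i, rfl⟩ ⟨b, j, rfl⟩
          refine ⟨a * b, i + j, ?_⟩
          change (a : AddMonoid.End W) * X ^ i * ((b : AddMonoid.End W) * X ^ j) =
            ((a : AddMonoid.End W) * (b : AddMonoid.End W)) * X ^ (i + j)
          rw [mul_assoc, ← mul_assoc (X ^ i), ((hXa b).pow_left i).eq, pow_add]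
          simp only [mul_assoc] }
    let E' : Subring (AddMonoid.End W) := Subring.closure T
    have hE'S : ∀ x ∈ E', x ∈ S := by
      intro x hx
      rw [Subring.mem_closure_iff] at hx
      refine hTS x (AddSubgroup.closure_mono ?_ hx)
      exact fun y hy => (Submonoid.closure_le (S := M)).mpr subset_rfl hy
    have hcomm : ∀ a ∈ T, ∀ b ∈ T, a * b = b * a := by
      rintro _ ⟨a, i, rfl⟩ _ ⟨b, j, rfl⟩
      have hab : Commute (a : AddMonoid.End W) (b : AddMonoid.End W) :=
        congrArg Subtype.val (mul_comm a b)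
      have c1 : Commute ((a : AddMonoid.End W) * X ^ i) (b : AddMonoid.End W) :=
        hab.mul_left ((hXa b).pow_left i)
      have c2 : Commute ((a : AddMonoid.End W) * X ^ i) (X ^ j) :=
        ((hXa a).pow_left j).symm.mul_left (Commute.pow_pow_self X i j)
      exact (c1.mul_right c2).eq
    letI : CommRing E' := Subring.closureCommRingOfComm hcomm
    haveI : Nontrivial E' := ⟨⟨0, 1, fun e => zero_ne_one (congrArg Subtype.val e)⟩⟩
    haveI := dom E' hE'S
    haveI : IsDomain E' := NoZeroDivisors.to_isDomain _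
    letI := Fintype.ofFinite E'
    letI : Field E' := Fintype.fieldOfDomain E'
    obtain ⟨B, -, hB⟩ := exists_gen (K := E')
    have hle : E' ≤ Subring.closure ({(B : AddMonoid.End W)} : Set (AddMonoid.End W)) := by
      intro z hz
      by_cases hz0 : (⟨z, hz⟩ : E') = 0
      · have hz' : z = 0 := congrArg Subtype.val hz0
        rw [hz']
        exact zero_mem _
      · obtain ⟨m, hm⟩ := hB _ hz0
        have hm' : (B : AddMonoid.End W) ^ m = z := congrArg Subtype.val hm
        rw [← hm']
        exact Subring.pow_mem _ (Subring.subset_closure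
          (s := ({(B : AddMonoid.End W)} : Set (AddMonoid.End W))) (Set.mem_singleton _)) m
    have hEE' : E ≤ E' := by
      intro z hz
      refine Subring.subset_closure (s := T) ?_
      refine ⟨⟨z, hz⟩, 0, ?_⟩
      rw [pow_zero, mul_one]
    have hcard := hmax ⟨(B : AddMonoid.End W), hE'S _ B.2⟩
    have heq : (E : Set (AddMonoid.End W)) =
        (Subring.closure ({(B : AddMonoid.End W)} : Set (AddMonoid.End W)) : Set _) :=
      Set.Finite.eq_of_subset_of_card_le (Set.toFinite _) (fun z hz => hle (hEE' hz)) hcard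
    have hXE' : X ∈ E' := Subring.subset_closure (s := T) ⟨1, 1, by rw [pow_one, OneMemClass.coe_one, one_mul]⟩
    have hXE : X ∈ E := by
      change X ∈ (E : Set (AddMonoid.End W))
      rw [heq]
      exact hle hXE'
    exact ⟨⟨X, hXE⟩, rfl⟩
  have hdata : SpaceData ρ S :=
    { scalar := fun a => hES _ a.2
      unit := h.unit
      jordan := fun A hA B hB => h.jordan hA hB
      maximal := hmaxS }
  intro A hA B hB
  obtain ⟨a, rfl⟩ := mem_range_of_mem hdata hA
  obtain ⟨b, rfl⟩ := mem_range_of_mem hdata hB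
  refine ⟨?_, ?_⟩
  · rw [← map_mul, mul_comm, map_mul]
  · rw [← map_mul]
    exact hES _ (a * b).2

end Cfsg.Lib.Plane
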