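import Cfsg.Agent.Lib.Plane.Translations
import Cfsg.Agent.Lib.Plane.JordanField

/-!
# A plane with all translations is a plane over a finite field
-/

set_option autoImplicit false
set_option linter.unusedSectionVars false
set_option linter.style.haveILetI false

namespace Cfsg.Lib.Plane

open Configuration

universe u v

variable {P : Type u} {L : Type v} [Membership P L] [ProjectivePlane P L] [Finite P] [Finite L]
variable {G : Subgroup (Coll P L)}

theorem AllTrans.exists_elat (h : AllTrans G) {l : L} {x y : P} (hx : x ∉ l) (hy : y ∉ l) :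
    ∃ t ∈ elat G l, t • x = y := by
  obtain ⟨g, h1, h2, h3, h4⟩ := h l x y hx hy
  exact ⟨g, ⟨h1, h2, h3⟩, h4⟩

theorem elat_smul_notMem {l : L} {g : Coll P L} (hg : g ∈ elat G l) {x : P} (hx : x ∉ l) :
    g • x ∉ l := fun h' =>
  smul_notMem g hx (mem_of_eq_ln h' (axis_fixed_line hg.2.1).symm)

theorem AllTrans.card_elat (h : AllTrans G) (l : L) : Nat.card (elat G l) = ord P L ^ 2 := by
  obtain ⟨O, hO⟩ := Nondegenerate.exists_point (P := P) l
  rw [← card_off l]
  refine Nat.card_congr (Equiv.ofBijective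
    (fun g : elat G l => (⟨(g : Coll P L) • O, elat_smul_notMem g.2 hO⟩ : {p : P // p ∉ l}))
    ⟨fun a b e => Subtype.ext (elat_eq_of_smul a.2 b.2 hO (congrArg Subtype.val e)), fun p => ?_⟩)
  obtain ⟨t, ht, e⟩ := h.exists_elat hO p.2
  exact ⟨⟨t, ht⟩, Subtype.ext e⟩

theorem AllTrans.card_elatC (h : AllTrans G) {l : L} {c : P} (hc : c ∈ l) :
    Nat.card (elatC G c l) = ord P L := by
  obtain ⟨O, hO⟩ := Nondegenerate.exists_point (P := P) l
  have hcO : c ≠ O := fun e => hO (e ▸ hc)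
  set m := join L c O with hm
  have hml : m ≠ l := fun e => hO (e ▸ join_right hcO)
  rw [← card_mem_ne (P := P) (l := m) (join_left hcO)]
  refine Nat.card_congr (Equiv.ofBijective
    (fun g : elatC G c l => (⟨(g : Coll P L) • O,
      smul_mem_line_centre g.2.2 (join_left hcO) (join_right hcO),
      fun e => elat_smul_notMem g.2.1 hO (mem_of_eq_pt e hc)⟩ : {p : P // p ∈ m ∧ p ≠ c}))
    ⟨fun a b e => Subtype.ext (elat_eq_of_smul a.2.1 b.2.1 hO (congrArg Subtype.val e)),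
      fun p => ?_⟩)
  obtain ⟨t, ht, e⟩ := h.exists_elatC hc hO
    (fun e => p.2.2 (point_unique hml p.2.1 (join_left hcO) e hc))
    ⟨m, join_left hcO, join_right hcO, p.2.1⟩
  exact ⟨⟨t, ht⟩, Subtype.ext e⟩

theorem AllTrans.elat_comm (h : AllTrans G) {l : L} {a b : Coll P L} (ha : a ∈ elat G l)
    (hb : b ∈ elat G l) : Commute a b := by
  by_cases ha1 : a = 1
  · subst ha1; exact Commute.one_left b
  by_cases hb1 : b = 1
  · subst hb1; exact Commute.one_right a
  obtain ⟨c, hc, hac⟩ := ha.2.exists_centre ha1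
  obtain ⟨d, hd, hbd⟩ := hb.2.exists_centre hb1
  by_cases hcd : c = d
  swap
  · exact elatC_commute hc hd hcd ⟨ha, hac⟩ ⟨hb, hbd⟩
  obtain ⟨e, he, hec, -⟩ := exists_mem_ne_ne l c c
  obtain ⟨k, hk, hk1⟩ : ∃ k ∈ elatC G e l, k ≠ 1 := by
    by_contra hno
    push Not at hno
    have h1 := h.card_elatC he
    rw [(Subgroup.eq_bot_iff_forall _).mpr hno, Subgroup.card_bot] at h1
    have := one_lt_ord (P := P) (L := L)
    omega
  have c1 : Commute a k := elatC_commute hc he (Ne.symm hec) ⟨ha, hac⟩ hk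
  have hbk : b * k ∈ elat G l := mul_mem hb hk.1
  have hbk1 : b * k ≠ 1 := by
    intro e1
    have h1 : k ∈ elatC G e l ⊓ elatC G c l :=
      ⟨hk, by
        rw [← inv_eq_of_mul_eq_one_right e1]
        exact Subgroup.inv_mem _ (show b ∈ elatC G c l from ⟨hb, hcd ▸ hbd⟩)⟩
    rw [elatC_inf_eq_bot G l hec, Subgroup.mem_bot] at h1
    exact hk1 h1
  obtain ⟨f, hf, hbkf⟩ := hbk.2.exists_centre hbk1
  have hfc : f ≠ c := by
    intro e1
    have h1 : k ∈ elatC G e l ⊓ elatC G c l := by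
      refine ⟨hk, ?_⟩
      have h2 : b * k ∈ elatC G c l := ⟨hbk, e1 ▸ hbkf⟩
      have h3 := mul_mem (inv_mem (show b ∈ elatC G c l from ⟨hb, hcd ▸ hbd⟩)) h2
      rwa [inv_mul_cancel_left] at h3
    rw [elatC_inf_eq_bot G l hec, Subgroup.mem_bot] at h1
    exact hk1 h1
  have c2 : Commute a (b * k) := elatC_commute hc hf hfc.symm ⟨ha, hac⟩ ⟨hbk, hbkf⟩
  have c3 := c2.mul_right c1.inv_right
  rwa [mul_inv_cancel_right] at c3

/-- A coordinate frame. -/
structure Frame (G : Subgroup (Coll P L)) where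
  all : AllTrans G
  l : L
  O : P
  X : P
  Y : P
  I : P
  hO : O ∉ l
  hX : X ∈ l
  hY : Y ∈ l
  hI : I ∈ l
  hXY : X ≠ Y
  hIX : I ≠ X
  hIY : I ≠ Y

theorem Frame.nonempty (h : AllTrans G) : Nonempty (Frame G) := by
  obtain ⟨l⟩ := nonempty_line (L := L) P
  obtain ⟨O, hO⟩ := Nondegenerate.exists_point (P := P) l
  obtain ⟨X, hX, -, -⟩ := exists_mem_ne_ne l O O
  obtain ⟨Y, hY, hYX, -⟩ := exists_mem_ne_ne l X X
  obtain ⟨I, hI, hIX, hIY⟩ := exists_mem_ne_ne l X Y
  exact ⟨⟨h, l, O, X, Y, I, hO, hX, hY, hI, hYX.symm, hIX, hIY⟩⟩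

namespace Frame

variable (f : Frame G)

/-- Translations along the first axis. -/
def TX : Subgroup (Coll P L) := elatC G f.X f.l

/-- Translations along the second axis. -/
def TY : Subgroup (Coll P L) := elatC G f.Y f.l

theorem tx_le {a : Coll P L} (ha : a ∈ f.TX) : a ∈ elat G f.l := ha.1

theorem ty_le {a : Coll P L} (ha : a ∈ f.TY) : a ∈ elat G f.l := ha.1

instance txCommGroup : CommGroup f.TX :=
  { (inferInstance : Group f.TX) with
    mul_comm := fun a b => Subtype.ext (f.all.elat_comm a.2.1 b.2.1).eq }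

/-- The coordinate group. -/
abbrev W : Type _ := Additive f.TX

theorem pair_unique {a a' b b' : Coll P L} (ha : a ∈ f.TX) (ha' : a' ∈ f.TX) (hb : b ∈ f.TY)
    (hb' : b' ∈ f.TY) (e : a * b = a' * b') : a = a' ∧ b = b' := by
  have e2 : a'⁻¹ * a = b' * b⁻¹ := by
    rw [eq_mul_inv_iff_mul_eq, mul_assoc, e, inv_mul_cancel_left]
  have hm : a'⁻¹ * a ∈ elatC G f.X f.l ⊓ elatC G f.Y f.l :=
    ⟨Subgroup.mul_mem _ (Subgroup.inv_mem _ ha') ha,
      e2 ▸ Subgroup.mul_mem _ hb' (Subgroup.inv_mem _ hb)⟩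
  rw [elatC_inf_eq_bot G f.l f.hXY, Subgroup.mem_bot] at hm
  have h1 : a = a' := (inv_mul_eq_one.mp hm).symm
  exact ⟨h1, mul_left_cancel (h1 ▸ e)⟩

theorem exists_pair {t : Coll P L} (ht : t ∈ elat G f.l) :
    ∃ a ∈ f.TX, ∃ b ∈ f.TY, t = a * b := by
  let g : f.TX × f.TY → elat G f.l := fun z => ⟨z.1.1 * z.2.1, mul_mem z.1.2.1 z.2.2.1⟩
  have hinj : Function.Injective g := fun z w e => by
    have := f.pair_unique z.1.2 w.1.2 z.2.2 w.2.2 (congrArg Subtype.val e)
    exact Prod.ext (Subtype.ext this.1) (Subtype.ext this.2)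
  have hbij := (Nat.bijective_iff_injective_and_card g).mpr ⟨hinj, by
    rw [Nat.card_prod, f.all.card_elat]
    change Nat.card (elatC G f.X f.l) * Nat.card (elatC G f.Y f.l) = _
    rw [f.all.card_elatC f.hX, f.all.card_elatC f.hY, pow_two]⟩
  obtain ⟨z, hz⟩ := hbij.2 ⟨t, ht⟩
  exact ⟨z.1, z.1.2, z.2, z.2.2, (congrArg Subtype.val hz).symm⟩

theorem exists_graph {c : P} (hc : c ∈ f.l) (hcY : c ≠ f.Y) (a : f.TX) :
    ∃ b : f.TY, (a : Coll P L) * b ∈ elatC G c f.l := by
  choose p hp q hq hpq using fun t : elatC G c f.l => f.exists_pair t.2.1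
  have hinj : Function.Injective (fun t : elatC G c f.l => (⟨p t, hp t⟩ : f.TX)) := by
    intro t s e
    have e1 : p t = p s := congrArg Subtype.val e
    have h1 : (t : Coll P L)⁻¹ * s ∈ elatC G c f.l ⊓ elatC G f.Y f.l := by
      refine ⟨Subgroup.mul_mem _ (Subgroup.inv_mem _ t.2) s.2, ?_⟩
      rw [hpq t, hpq s, e1, mul_inv_rev, mul_assoc, inv_mul_cancel_left]
      exact Subgroup.mul_mem _ (Subgroup.inv_mem _ (hq t)) (hq s)
    rw [elatC_inf_eq_bot G f.l hcY, Subgroup.mem_bot] at h1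
    exact Subtype.ext (inv_mul_eq_one.mp h1)
  have hbij := (Nat.bijective_iff_injective_and_card _).mpr ⟨hinj, by
    change _ = Nat.card (elatC G f.X f.l)
    rw [f.all.card_elatC hc, f.all.card_elatC f.hX]⟩
  obtain ⟨t, ht⟩ := hbij.2 a
  refine ⟨⟨q t, hq t⟩, ?_⟩
  have e : p t = (a : Coll P L) := congrArg Subtype.val ht
  rw [← e, ← hpq t]
  exact t.2

theorem graph_unique {c : P} (hcY : c ≠ f.Y) {a : f.TX} {b b' : f.TY}
    (h : (a : Coll P L) * b ∈ elatC G c f.l) (h' : (a : Coll P L) * b' ∈ elatC G c f.l) :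
    b = b' := by
  have h1 : (b : Coll P L)⁻¹ * b' ∈ elatC G c f.l ⊓ elatC G f.Y f.l := by
    refine ⟨?_, Subgroup.mul_mem _ (Subgroup.inv_mem _ b.2) b'.2⟩
    have := Subgroup.mul_mem _ (Subgroup.inv_mem _ h) h'
    rwa [mul_inv_rev, mul_assoc, inv_mul_cancel_left] at this
  rw [elatC_inf_eq_bot G f.l hcY, Subgroup.mem_bot] at h1
  exact Subtype.ext (inv_mul_eq_one.mp h1)

/-- The graph map of a direction. -/
noncomputable def mu {c : P} (hc : c ∈ f.l) (hcY : c ≠ f.Y) : f.TX →* f.TY where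
  toFun a := (f.exists_graph hc hcY a).choose
  map_one' := f.graph_unique hcY (f.exists_graph hc hcY 1).choose_spec (by
    rw [OneMemClass.coe_one, OneMemClass.coe_one, one_mul]; exact one_mem _)
  map_mul' a b := f.graph_unique hcY (f.exists_graph hc hcY (a * b)).choose_spec (by
    set p := (f.exists_graph hc hcY a).choose with hp
    set q := (f.exists_graph hc hcY b).choose with hq
    have e : ((a * b : f.TX) : Coll P L) * ((p * q : f.TY) : Coll P L) =
        (a : Coll P L) * p * ((b : Coll P L) * q) := by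
      rw [Subgroup.coe_mul, Subgroup.coe_mul]
      have hcom := (f.all.elat_comm (f.tx_le b.2) (f.ty_le p.2)).eq
      calc (a : Coll P L) * b * (p * q) = a * ((b : Coll P L) * p) * q := by group
        _ = (a : Coll P L) * p * ((b : Coll P L) * q) := by rw [hcom]; group
    rw [e]
    exact mul_mem (f.exists_graph hc hcY a).choose_spec (f.exists_graph hc hcY b).choose_spec)

theorem mu_spec {c : P} (hc : c ∈ f.l) (hcY : c ≠ f.Y) (a : f.TX) :
    (a : Coll P L) * f.mu hc hcY a ∈ elatC G c f.l := (f.exists_graph hc hcY a).choose_spec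

theorem mu_injective {c : P} (hc : c ∈ f.l) (hcY : c ≠ f.Y) (hcX : c ≠ f.X) :
    Function.Injective (f.mu hc hcY) := by
  rw [injective_iff_map_eq_one]
  intro a ha
  have h1 := f.mu_spec hc hcY a
  rw [ha, OneMemClass.coe_one, mul_one] at h1
  have h2 : (a : Coll P L) ∈ elatC G c f.l ⊓ elatC G f.X f.l := ⟨h1, a.2⟩
  rw [elatC_inf_eq_bot G f.l hcX, Subgroup.mem_bot] at h2
  exact Subtype.ext h2

theorem card_tx : Nat.card f.TX = ord P L := f.all.card_elatC f.hX

theorem card_ty : Nat.card f.TY = ord P L := f.all.card_elatC f.hY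

/-- The identification of the two axes. -/
noncomputable def J : f.TX ≃* f.TY :=
  MulEquiv.ofBijective (f.mu f.hI f.hIY) ((Nat.bijective_iff_injective_and_card _).mpr
    ⟨f.mu_injective f.hI f.hIY f.hIX, f.card_tx.trans f.card_ty.symm⟩)

/-- The translation with coordinates `(u, v)`. -/
noncomputable def gr (u v : f.W) : Coll P L :=
  (u.toMul : Coll P L) * (f.J v.toMul : Coll P L)

theorem gr_mem (u v : f.W) : f.gr u v ∈ elat G f.l :=
  mul_mem (f.tx_le u.toMul.2) (f.ty_le (f.J v.toMul).2)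

theorem gr_inj {u v u' v' : f.W} (e : f.gr u v = f.gr u' v') : u = u' ∧ v = v' := by
  obtain ⟨h1, h2⟩ := f.pair_unique u.toMul.2 u'.toMul.2 (f.J v.toMul).2 (f.J v'.toMul).2 e
  exact ⟨Additive.toMul.injective (Subtype.ext h1),
    Additive.toMul.injective (f.J.injective (Subtype.ext h2))⟩

theorem gr_surj {t : Coll P L} (ht : t ∈ elat G f.l) : ∃ u v, f.gr u v = t := by
  obtain ⟨a, ha, b, hb, e⟩ := f.exists_pair ht
  refine ⟨Additive.ofMul ⟨a, ha⟩, Additive.ofMul (f.J.symm ⟨b, hb⟩), ?_⟩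
  rw [gr, toMul_ofMul, toMul_ofMul, MulEquiv.apply_symm_apply]
  exact e.symm

theorem gr_add (u v u' v' : f.W) : f.gr (u + u') (v + v') = f.gr u v * f.gr u' v' := by
  simp only [gr, toMul_add, map_mul, Subgroup.coe_mul]
  have hcom := (f.all.elat_comm (f.tx_le u'.toMul.2) (f.ty_le (f.J v.toMul).2)).eq
  calc (u.toMul : Coll P L) * u'.toMul * ((f.J v.toMul : Coll P L) * f.J v'.toMul)
      = u.toMul * ((u'.toMul : Coll P L) * f.J v.toMul) * f.J v'.toMul := by group
    _ = _ := by rw [hcom]; group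

theorem gr_zero : f.gr 0 0 = 1 := by
  simp [gr]

theorem gr_sub_mul (u v u' v' : f.W) : f.gr (u - u') (v - v') * f.gr u' v' = f.gr u v := by
  rw [← gr_add, sub_add_cancel, sub_add_cancel]

/-- The affine point with coordinates `(u, v)`. -/
noncomputable def pt (u v : f.W) : P := f.gr u v • f.O

theorem pt_off (u v : f.W) : f.pt u v ∉ f.l := elat_smul_notMem (f.gr_mem u v) f.hO

theorem pt_inj {u v u' v' : f.W} (e : f.pt u v = f.pt u' v') : u = u' ∧ v = v' :=
  f.gr_inj (elat_eq_of_smul (f.gr_mem u v) (f.gr_mem u' v') f.hO e)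

theorem pt_surj {p : P} (hp : p ∉ f.l) : ∃ u v, f.pt u v = p := by
  obtain ⟨t, ht, e⟩ := f.all.exists_elat f.hO hp
  obtain ⟨u, v, rfl⟩ := f.gr_surj ht
  exact ⟨u, v, e⟩

/-- The directions other than `Y`. -/
abbrev Sl : Type _ := {c : P // c ∈ f.l ∧ c ≠ f.Y}

/-- The slope map of a direction. -/
noncomputable def slope (c : f.Sl) : AddMonoid.End f.W :=
  MonoidHom.toAdditive (f.J.symm.toMonoidHom.comp (f.mu c.2.1 c.2.2))

theorem gr_slope (c : f.Sl) (u : f.W) :
    f.gr u (f.slope c u) = (u.toMul : Coll P L) * f.mu c.2.1 c.2.2 u.toMul := by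
  change (u.toMul : Coll P L) * (f.J (f.J.symm (f.mu c.2.1 c.2.2 u.toMul)) : Coll P L) = _
  rw [MulEquiv.apply_symm_apply]

theorem gr_mem_dir (c : f.Sl) {u v : f.W} :
    f.gr u v ∈ elatC G c.1 f.l ↔ v = f.slope c u := by
  constructor
  · intro h
    have h1 : f.J v.toMul = f.mu c.2.1 c.2.2 u.toMul :=
      f.graph_unique c.2.2 h (f.mu_spec c.2.1 c.2.2 _)
    apply Additive.toMul.injective
    apply f.J.injective
    rw [h1]
    change _ = f.J (f.J.symm (f.mu c.2.1 c.2.2 u.toMul))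
    rw [MulEquiv.apply_symm_apply]
  · rintro rfl
    rw [gr_slope]
    exact f.mu_spec c.2.1 c.2.2 _

theorem gr_mem_ty {u v : f.W} : f.gr u v ∈ elatC G f.Y f.l ↔ u = 0 := by
  constructor
  · intro h
    have h2 : (u.toMul : Coll P L) * (f.J v.toMul : Coll P L) = 1 * f.gr u v := by
      rw [one_mul, gr]
    have := (f.pair_unique u.toMul.2 (one_mem _) (f.J v.toMul).2 h h2).1
    exact Additive.toMul.injective (Subtype.ext this)
  · rintro rfl
    rw [gr, toMul_zero, OneMemClass.coe_one, one_mul]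
    exact (f.J v.toMul).2

/-- The direction `X`. -/
def cX : f.Sl := ⟨f.X, f.hX, f.hXY⟩

/-- The direction `I`. -/
def cI : f.Sl := ⟨f.I, f.hI, f.hIY⟩

theorem slope_cX : f.slope f.cX = 0 := by
  refine AddMonoidHom.ext fun u => ?_
  refine ((f.gr_mem_dir f.cX (u := u) (v := 0)).mp ?_).symm
  rw [gr, toMul_zero, map_one, OneMemClass.coe_one, mul_one]
  exact u.toMul.2

theorem slope_cI : f.slope f.cI = 1 := by
  refine AddMonoidHom.ext fun u => ?_
  exact ((f.gr_mem_dir f.cI (u := u) (v := u)).mp (f.mu_spec f.hI f.hIY u.toMul)).symm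

instance : Nontrivial f.W := by
  have h1 : 1 < Nat.card f.TX := by rw [card_tx]; exact one_lt_ord
  haveI : Nontrivial f.TX := Finite.one_lt_card_iff_nontrivial.mp h1
  exact inferInstanceAs (Nontrivial (Additive f.TX))

theorem slope_injective : Function.Injective f.slope := by
  intro c d e
  obtain ⟨u, hu⟩ := exists_ne (0 : f.W)
  have h1 : f.gr u (f.slope c u) ∈ elatC G c.1 f.l := (f.gr_mem_dir c).mpr rfl
  have h2 : f.gr u (f.slope c u) ∈ elatC G d.1 f.l := (f.gr_mem_dir d).mpr (by rw [e])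
  have hne : f.gr u (f.slope c u) ≠ 1 := fun e' =>
    hu (f.gr_inj (e'.trans f.gr_zero.symm)).1
  exact Subtype.ext (centre_unique h1.1.2.1 h1.2 h2.2 hne)

theorem slope_unit {c : f.Sl} (hc : c.1 ≠ f.X) : IsUnit (f.slope c) := by
  have hinj : Function.Injective (f.slope c) := fun u v e =>
    Additive.toMul.injective (f.mu_injective c.2.1 c.2.2 hc (f.J.symm.injective e))
  have hbij : Function.Bijective (f.slope c) := Finite.injective_iff_bijective.mp hinj
  refine ⟨⟨f.slope c, ((AddEquiv.ofBijective (f.slope c) hbij).symm : f.W →+ f.W), ?_, ?_⟩, rfl⟩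
  · exact AddMonoidHom.ext fun u => (AddEquiv.ofBijective (f.slope c) hbij).apply_symm_apply u
  · exact AddMonoidHom.ext fun u => (AddEquiv.ofBijective (f.slope c) hbij).symm_apply_apply u

theorem conj_mem {s t : Coll P L} (hsG : s ∈ G) (hs : s • f.l = f.l) (ht : t ∈ elat G f.l) :
    s * t * s⁻¹ ∈ elat G f.l :=
  ⟨mul_mem (mul_mem hsG ht.1) (inv_mem hsG), hs ▸ ht.2.conj s⟩

theorem conj_mem_dir {s t : Coll P L} {c : P} (hsG : s ∈ G) (hs : s • f.l = f.l)
    (ht : t ∈ elatC G c f.l) : s * t * s⁻¹ ∈ elatC G (s • c) f.l :=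
  ⟨f.conj_mem hsG hs ht.1, ht.2.conj s⟩

/-- Conjugation by a shear with centre `Z`, for two axis directions `Z` and `Z'`. -/
theorem shear_conj {Z Z' c : P} (hZ : Z ∈ f.l) (hZ' : Z' ∈ f.l) (hne : Z' ≠ Z) (hc : c ∈ f.l)
    (hcZ : c ≠ Z) :
    ∃ s ∈ G, s • f.l = f.l ∧ s • Z' = c ∧ (∀ x : P, x ∈ f.l → s • x = Z → x = Z) ∧
      (∀ t ∈ elatC G Z f.l, s * t * s⁻¹ = t) ∧
      ∀ t ∈ elatC G Z' f.l, ∃ k ∈ elatC G Z f.l, s * t * s⁻¹ = t * k ∧
        t * k ∈ elatC G c f.l := by
  have hOZ : f.O ≠ Z := fun e => f.hO (e ▸ hZ)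
  set m := join L f.O Z with hm
  have hml : m ≠ f.l := fun e => f.hO (e ▸ join_left hOZ)
  have hnot : ∀ {x : P}, x ∈ f.l → x ≠ Z → x ∉ m := fun hx hxZ h' =>
    hxZ (point_unique hml h' (join_right hOZ) hx hZ)
  obtain ⟨s, hs, hsc⟩ := f.all.exists_elatC (l := m) (c := Z) (x := Z') (y := c)
    (join_right hOZ) (hnot hZ' hne) (hnot hc hcZ) ⟨f.l, hZ, hZ', hc⟩
  have hsl : s • f.l = f.l := hs.2 f.l hZ
  have hsO : s • f.O = f.O := hs.1.2.1 _ (join_left hOZ)
  have hsZ : s • Z = Z := centre_fixed_point hs.2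
  have hval : ∀ t : Coll P L, (s * t * s⁻¹) • f.O = s • t • f.O := fun t => by
    rw [mul_smul, mul_smul, inv_smul_eq_iff.mpr hsO.symm]
  refine ⟨s, hs.1.1, hsl, hsc, fun x _ hx => smul_left_cancel s (hx.trans hsZ.symm),
    fun t ht => ?_, fun t ht => ?_⟩
  · refine elat_eq_of_smul (f.conj_mem hs.1.1 hsl ht.1) ht.1 f.hO ?_
    rw [hval]
    exact hs.1.2.1 _ (smul_mem_line_centre ht.2 (join_right hOZ) (join_left hOZ))
  · have hp : t • f.O ∉ f.l := elat_smul_notMem ht.1 f.hO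
    have hpZ : Z ≠ t • f.O := fun e => hp (e ▸ hZ)
    have hq : s • t • f.O ∉ f.l := fun h' =>
      smul_notMem s hp (mem_of_eq_ln h' hsl.symm)
    obtain ⟨k, hk, hkp⟩ := f.all.exists_elatC hZ hp hq
      ⟨join L Z (t • f.O), join_left hpZ, join_right hpZ,
        smul_mem_line_centre hs.2 (join_left hpZ) (join_right hpZ)⟩
    have hcom := (f.all.elat_comm ht.1 hk.1).eq
    have e : s * t * s⁻¹ = t * k := by
      refine elat_eq_of_smul (f.conj_mem hs.1.1 hsl ht.1) (mul_mem ht.1 hk.1) f.hO ?_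
      rw [hval, hcom, mul_smul, hkp]
    refine ⟨k, hk, e, ?_⟩
    rw [← e, ← hsc]
    exact f.conj_mem_dir hs.1.1 hsl ht

theorem conj_gr {s : Coll P L} (u v : f.W) :
    s * f.gr u v * s⁻¹ = (s * (u.toMul : Coll P L) * s⁻¹) * (s * (f.J v.toMul : Coll P L) * s⁻¹) := by
  rw [gr]; group

theorem slope_add (c d : f.Sl) : ∃ e : f.Sl, f.slope e = f.slope c + f.slope d := by
  obtain ⟨s, hsG, hsl, -, hback, hfix, hmove⟩ :=
    f.shear_conj f.hY f.hX f.hXY c.2.1 c.2.2
  refine ⟨⟨s • d.1, smul_mem_fix hsl d.2.1, fun e => d.2.2 (hback _ d.2.1 e)⟩, ?_⟩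
  refine AddMonoidHom.ext fun u => ((f.gr_mem_dir _).mp ?_).symm
  have h1 : f.gr u (f.slope d u) ∈ elatC G d.1 f.l := (f.gr_mem_dir d).mpr rfl
  have h2 := f.conj_mem_dir hsG hsl h1
  obtain ⟨k, hk, e1, e2⟩ := hmove _ u.toMul.2
  have e3 : (u.toMul : Coll P L) * k = f.gr u (f.slope c u) := by
    have hk' : (⟨k, hk⟩ : f.TY) = f.mu c.2.1 c.2.2 u.toMul :=
      f.graph_unique c.2.2 e2 (f.mu_spec c.2.1 c.2.2 _)
    rw [gr_slope, ← hk']
  rw [conj_gr, e1, hfix _ (f.J (f.slope d u).toMul).2, e3] at h2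
  have e4 : f.gr u ((f.slope c + f.slope d) u) =
      f.gr u (f.slope c u) * (f.J (f.slope d u).toMul : Coll P L) := by
    rw [show (f.slope c + f.slope d) u = f.slope c u + f.slope d u from rfl, gr, gr, toMul_add,
      map_mul, Subgroup.coe_mul, mul_assoc]
  rwa [← e4] at h2

theorem slope_harmonic {c d : f.Sl} (hc : c.1 ≠ f.X) (hd : d.1 ≠ f.X) :
    ∃ e : f.Sl, f.slope e =
      Ring.inverse (Ring.inverse (f.slope c) + Ring.inverse (f.slope d)) := by
  obtain ⟨uc, huc⟩ := f.slope_unit hc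
  obtain ⟨ud, hud⟩ := f.slope_unit hd
  obtain ⟨s, hsG, hsl, -, hback, hfix, hmove⟩ :=
    f.shear_conj f.hX f.hY f.hXY.symm c.2.1 hc
  have key : ∀ u : f.W, f.gr (u + (↑uc⁻¹ : AddMonoid.End f.W) (f.slope d u)) (f.slope d u) ∈
      elatC G (s • d.1) f.l := by
    intro u
    have h1 : f.gr u (f.slope d u) ∈ elatC G d.1 f.l := (f.gr_mem_dir d).mpr rfl
    have h2 := f.conj_mem_dir hsG hsl h1
    set v := f.slope d u with hv
    obtain ⟨k, hk, e1, e2⟩ := hmove _ (f.J v.toMul).2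
    obtain ⟨z, hz⟩ : ∃ z : f.W, (z.toMul : Coll P L) = k :=
      ⟨Additive.ofMul ⟨k, hk⟩, rfl⟩
    have hcom := (f.all.elat_comm (f.tx_le z.toMul.2) (f.ty_le (f.J v.toMul).2)).eq
    have e3 : f.gr z v ∈ elatC G c.1 f.l := by
      rw [gr, hcom, hz]; exact e2
    have e4 : f.slope c z = v := ((f.gr_mem_dir c).mp e3).symm
    have e5 : (↑uc⁻¹ : AddMonoid.End f.W) v = z := by
      rw [← e4, ← huc]
      exact DFunLike.congr_fun (Units.inv_mul uc) z
    rw [e5]
    rw [conj_gr, hfix _ u.toMul.2, e1, ← hz, ← hcom] at h2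
    rw [gr, toMul_add, Subgroup.coe_mul, mul_assoc]
    exact h2
  have hsum : ∀ u : f.W, (↑uc⁻¹ + ↑ud⁻¹ : AddMonoid.End f.W) (f.slope d u) =
      u + (↑uc⁻¹ : AddMonoid.End f.W) (f.slope d u) := by
    intro u
    change (↑uc⁻¹ : AddMonoid.End f.W) (f.slope d u) +
      (↑ud⁻¹ : AddMonoid.End f.W) (f.slope d u) = _
    rw [add_comm]
    congr 1
    rw [← hud]
    exact DFunLike.congr_fun (Units.inv_mul ud) u
  have hsurj : Function.Surjective (f.slope d) := fun w =>
    ⟨(↑ud⁻¹ : AddMonoid.End f.W) w, by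
      rw [← hud]; exact DFunLike.congr_fun (Units.mul_inv ud) w⟩
  rw [← huc, ← hud, Ring.inverse_unit, Ring.inverse_unit]
  by_cases hY : s • d.1 = f.Y
  · refine ⟨f.cX, ?_⟩
    rw [f.slope_cX]
    have h0 : (↑uc⁻¹ + ↑ud⁻¹ : AddMonoid.End f.W) = 0 := by
      refine AddMonoidHom.ext fun w => ?_
      obtain ⟨u, rfl⟩ := hsurj w
      have := key u
      rw [hY] at this
      exact (hsum u).trans ((f.gr_mem_ty).mp this)
    rw [h0, Ring.inverse_zero]
  · set e : f.Sl := ⟨s • d.1, smul_mem_fix hsl d.2.1, hY⟩ with he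
    have heX : e.1 ≠ f.X := fun h' => hd (hback _ d.2.1 h')
    obtain ⟨ue, hue⟩ := f.slope_unit heX
    have hmul : f.slope e * (↑uc⁻¹ + ↑ud⁻¹ : AddMonoid.End f.W) = 1 := by
      refine AddMonoidHom.ext fun w => ?_
      obtain ⟨u, rfl⟩ := hsurj w
      change f.slope e ((↑uc⁻¹ + ↑ud⁻¹ : AddMonoid.End f.W) (f.slope d u)) = f.slope d u
      rw [hsum u]
      exact ((f.gr_mem_dir e).mp (key u)).symm
    refine ⟨e, ?_⟩
    have h2 : (↑uc⁻¹ + ↑ud⁻¹ : AddMonoid.End f.W) = ↑ue⁻¹ := by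
      rw [← hue] at hmul
      calc (↑uc⁻¹ + ↑ud⁻¹ : AddMonoid.End f.W)
          = ↑ue⁻¹ * ((ue : AddMonoid.End f.W) * (↑uc⁻¹ + ↑ud⁻¹)) := by
            rw [← mul_assoc, Units.inv_mul, one_mul]
        _ = ↑ue⁻¹ := by rw [hmul, mul_one]
    rw [h2, Ring.inverse_unit, inv_inv, hue]

/-- The slope maps form an additive group. -/
noncomputable def slopes : AddSubgroup (AddMonoid.End f.W) :=
  let M : AddSubmonoid (AddMonoid.End f.W) :=
    { carrier := Set.range f.slope
      zero_mem' := ⟨f.cX, f.slope_cX⟩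
      add_mem' := by
        rintro _ _ ⟨c, rfl⟩ ⟨d, rfl⟩
        exact f.slope_add c d }
  { M with
    neg_mem' := by
      intro x hx
      haveI := finite_end (W := f.W)
      have hpos : 0 < addOrderOf x := addOrderOf_pos x
      have e : -x = (addOrderOf x - 1) • x := by
        rw [neg_eq_iff_add_eq_zero, ← succ_nsmul', Nat.sub_add_cancel hpos,
          addOrderOf_nsmul_eq_zero]
      exact e ▸ nsmul_mem (show x ∈ M from hx) _ }

theorem mem_slopes {A : AddMonoid.End f.W} : A ∈ f.slopes ↔ ∃ c, f.slope c = A := Iff.rfl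

theorem harmonicSpace : HarmonicSpace f.slopes where
  one_mem := ⟨f.cI, f.slope_cI⟩
  unit := by
    rintro _ ⟨c, rfl⟩ hA
    exact f.slope_unit fun e => hA (by
      rw [show c = f.cX from Subtype.ext e, f.slope_cX])
  harmonic := by
    rintro _ ⟨c, rfl⟩ _ ⟨d, rfl⟩ hc hd
    exact f.slope_harmonic (fun e => hc (by rw [show c = f.cX from Subtype.ext e, f.slope_cX]))
      (fun e => hd (by rw [show d = f.cX from Subtype.ext e, f.slope_cX]))

/-- The coordinate ring. -/
noncomputable def coordRing : Subring (AddMonoid.End f.W) :=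
  { f.slopes with
    one_mem' := f.harmonicSpace.one_mem
    mul_mem' := fun {a b} ha hb => (f.harmonicSpace.commutative a ha b hb).2 }

theorem line_affine {c : P} (hc : c ∈ f.l) {k : L} (hk : c ∈ k) (hkl : k ≠ f.l) {u₀ v₀ : f.W}
    (h₀ : f.pt u₀ v₀ ∈ k) (u v : f.W) :
    f.pt u v ∈ k ↔ f.gr (u - u₀) (v - v₀) ∈ elatC G c f.l := by
  have e : f.gr (u - u₀) (v - v₀) • f.pt u₀ v₀ = f.pt u v := by
    rw [pt, pt, ← mul_smul, gr_sub_mul]
  constructor
  · intro h
    obtain ⟨t, ht, hte⟩ := f.all.exists_elatC hc (f.pt_off u₀ v₀) (f.pt_off u v) ⟨k, hk, h₀, h⟩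
    rw [elat_eq_of_smul (f.gr_mem _ _) ht.1 (f.pt_off u₀ v₀) (e.trans hte.symm)]
    exact ht
  · intro h
    rw [← e]
    exact smul_mem_line_centre h.2 hk h₀

theorem exists_field : ∃ (F : Type) (_ : Field F) (_ : Fintype F)
    (ι : F →+* AddMonoid.End f.W) (e : f.W), Function.Injective ι ∧
      (∀ A, A ∈ f.slopes ↔ A ∈ Set.range ι) ∧ Function.Bijective (fun a => ι a e) ∧
      Nat.card F = ord P L := by
  classical
  haveI := finite_end (W := f.W)
  let R := f.coordRing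
  letI hR : CommRing R :=
    { (inferInstance : Ring R) with
      mul_comm := fun a b => Subtype.ext (f.harmonicSpace.commutative _ a.2 _ b.2).1 }
  haveI : Nontrivial R := ⟨⟨0, 1, fun e => by
    obtain ⟨x, hx⟩ := exists_ne (0 : f.W)
    exact hx (DFunLike.congr_fun (congrArg Subtype.val e) x).symm⟩⟩
  haveI : NoZeroDivisors R := ⟨fun {x y} hxy => by
    by_contra hno
    push Not at hno
    obtain ⟨a, ha⟩ := f.harmonicSpace.unit _ x.2 fun e => hno.1 (Subtype.ext e)
    apply hno.2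
    refine Subtype.ext ?_
    calc (y : AddMonoid.End f.W) = ↑a⁻¹ * ((a : AddMonoid.End f.W) * y) := by
          rw [← mul_assoc, Units.inv_mul, one_mul]
      _ = 0 := by
          rw [ha, show (x : AddMonoid.End f.W) * y = 0 from congrArg Subtype.val hxy, mul_zero]⟩
  haveI : IsDomain R := NoZeroDivisors.to_isDomain _
  letI := Fintype.ofFinite R
  letI : Field R := Fintype.fieldOfDomain R
  let eqv : Fin (Fintype.card R) ≃ R := (Fintype.equivFin R).symm
  letI : Field (Fin (Fintype.card R)) := eqv.field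
  let φ : Fin (Fintype.card R) →+* R :=
    { toFun := eqv
      map_one' := eqv.apply_symm_apply _
      map_mul' := fun _ _ => eqv.apply_symm_apply _
      map_zero' := eqv.apply_symm_apply _
      map_add' := fun _ _ => eqv.apply_symm_apply _ }
  let ι := R.subtype.comp φ
  have hι : Function.Injective ι := Subtype.val_injective.comp eqv.injective
  obtain ⟨w₀, hw₀⟩ := exists_ne (0 : f.W)
  have hcard : Nat.card (Fin (Fintype.card R)) = ord P L := by
    rw [Nat.card_congr eqv, ← card_mem_ne (P := P) (l := f.l) f.hY]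
    exact (Nat.card_congr (Equiv.ofBijective
      (fun c : f.Sl => (⟨f.slope c, c, rfl⟩ : R))
      ⟨fun c d e => f.slope_injective (congrArg Subtype.val e), fun A => by
        obtain ⟨c, hc⟩ := A.2
        exact ⟨c, Subtype.ext hc⟩⟩)).symm
  refine ⟨Fin (Fintype.card R), inferInstance, inferInstance, ι, w₀, hι,
    fun A => ⟨fun hA => ⟨eqv.symm ⟨A, hA⟩, congrArg Subtype.val (eqv.apply_symm_apply ⟨A, hA⟩)⟩,
      fun ⟨a, ha⟩ => ha ▸ (eqv a).2⟩, ?_, hcard⟩
  refine (Nat.bijective_iff_injective_and_card _).mpr ⟨fun a b hab => ?_, ?_⟩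
  · by_contra hne
    obtain ⟨z, hz⟩ := f.harmonicSpace.unit (ι a - ι b) (sub_mem (eqv a).2 (eqv b).2)
      fun e => hne (hι (sub_eq_zero.mp e))
    apply hw₀
    have h0 : (z : AddMonoid.End f.W) w₀ = 0 := by
      rw [hz]
      exact sub_eq_zero.mpr hab
    have h1 : (↑z⁻¹ : AddMonoid.End f.W) ((z : AddMonoid.End f.W) w₀) = w₀ :=
      DFunLike.congr_fun (Units.inv_mul z) w₀
    rw [h0, map_zero] at h1
    exact h1.symm
  · rw [hcard]
    exact f.card_tx.symm

end Frame

/-- A finite projective plane with all translations is isomorphic to a plane over a field. -/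
theorem desarguesian_of_allTrans (h : AllTrans G) :
    ∃ (F : Type) (_ : Field F) (_ : Fintype F) (φ : P ≃ Projectivization F (Fin 3 → F)),
      (∀ l : L, ∃ W : Submodule F (Fin 3 → F), Module.finrank F W = 2 ∧
          ∀ p : P, p ∈ l ↔ (φ p).submodule ≤ W) ∧
      (∀ W : Submodule F (Fin 3 → F), Module.finrank F W = 2 →
          ∃ l : L, ∀ p : P, p ∈ l ↔ (φ p).submodule ≤ W) := by
  classical
  obtain ⟨f⟩ := Frame.nonempty h
  obtain ⟨F, hF, hFin, ι, e, hι, hrange, hbij, hcardF⟩ := f.exists_field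
  let ev : F ≃ f.W := Equiv.ofBijective _ hbij
  have ev_apply : ∀ a : F, ev a = ι a e := fun _ => rfl
  have ev_sub : ∀ a b : F, ev (a - b) = ev a - ev b := fun a b => by
    rw [ev_apply, map_sub]; rfl
  have ev_mul : ∀ a b : F, ι a (ev b) = ev (a * b) := fun a b => by
    rw [ev_apply, ev_apply, map_mul]; rfl
  have hev0 : ev 0 = 0 := by rw [ev_apply, map_zero]; rfl
  have hsl : ∀ m : F, ∃ c : f.Sl, f.slope c = ι m := fun m =>
    (f.mem_slopes).mp ((hrange _).mpr ⟨m, rfl⟩)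
  choose dir hdir using hsl
  -- coordinate vectors
  have hcases : ∀ p : P, ∃ w : Fin 3 → F,
      (∃ a b, p = f.pt (ev a) (ev b) ∧ w = ![1, a, b]) ∨
      (∃ m, p = (dir m).1 ∧ w = ![0, 1, m]) ∨ (p = f.Y ∧ w = ![0, 0, 1]) := by
    intro p
    by_cases hp : p ∈ f.l
    · by_cases hpY : p = f.Y
      · exact ⟨_, .inr (.inr ⟨hpY, rfl⟩)⟩
      · obtain ⟨m, hm⟩ := (hrange _).mp (⟨⟨p, hp, hpY⟩, rfl⟩ :
          f.slope ⟨p, hp, hpY⟩ ∈ f.slopes)
        exact ⟨_, .inr (.inl ⟨m, (congrArg Subtype.val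
          (f.slope_injective ((hdir m).trans hm))).symm, rfl⟩)⟩
    · obtain ⟨u, v, rfl⟩ := f.pt_surj hp
      exact ⟨_, .inl ⟨ev.symm u, ev.symm v, by
        rw [Equiv.apply_symm_apply, Equiv.apply_symm_apply], rfl⟩⟩
  choose vec hvec using hcases
  have hne : ∀ p, vec p ≠ 0 := by
    intro p h0
    rcases hvec p with ⟨a, b, -, e'⟩ | ⟨m, -, e'⟩ | ⟨-, e'⟩ <;> rw [h0] at e'
    · simpa using congrFun e' 0
    · simpa using congrFun e' 1
    · simpa using congrFun e' 2
  let φ₀ : P → Projectivization F (Fin 3 → F) := fun p => Projectivization.mk F (vec p) (hne p)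
  have hinj : Function.Injective φ₀ := by
    intro p q hpq
    obtain ⟨c, hc⟩ := (Projectivization.mk_eq_mk_iff' F _ _ (hne p) (hne q)).mp hpq
    have c0 := congrFun hc 0
    have c1 := congrFun hc 1
    have c2 := congrFun hc 2
    rcases hvec p with ⟨a, b, ep, ep'⟩ | ⟨m, ep, ep'⟩ | ⟨ep, ep'⟩ <;>
      rcases hvec q with ⟨a', b', eq, eq'⟩ | ⟨m', eq, eq'⟩ | ⟨eq, eq'⟩ <;>
      simp [ep', eq'] at c0 c1 c2 <;> subst_vars <;>
      first
        | rfl
        | (simp at c1 c2; done)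
        | (simp_all)
  have hcard : Nat.card P = Nat.card (Projectivization F (Fin 3 → F)) := by
    rw [Projectivization.card_of_finrank F (Fin 3 → F) (n := 3) (by simp), card_points (L := L),
      hcardF, Finset.sum_range_succ, Finset.sum_range_succ, Finset.sum_range_succ,
      Finset.sum_range_zero]
    ring
  let φ := Equiv.ofBijective φ₀ ((Nat.bijective_iff_injective_and_card φ₀).mpr ⟨hinj, hcard⟩)
  have hmem : ∀ (W : Submodule F (Fin 3 → F)) (p : P), (φ p).submodule ≤ W ↔ vec p ∈ W := by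
    intro W p
    change (Projectivization.mk F (vec p) (hne p)).submodule ≤ W ↔ _
    rw [Projectivization.submodule_mk, Submodule.span_singleton_le_iff_mem]
  -- subspaces as kernels
  let func : F → F → F → ((Fin 3 → F) →ₗ[F] F) := fun x y z =>
    x • LinearMap.proj 0 + y • LinearMap.proj 1 + z • LinearMap.proj 2
  have hfunc : ∀ x y z (w : Fin 3 → F), func x y z w = x * w 0 + y * w 1 + z * w 2 :=
    fun x y z w => rfl
  have hker : ∀ x y z, (x ≠ 0 ∨ y ≠ 0 ∨ z ≠ 0) →
      Module.finrank F (LinearMap.ker (func x y z)) = 2 := by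
    intro x y z hxyz
    have hsurj : LinearMap.range (func x y z) = ⊤ := by
      refine LinearMap.range_eq_top.mpr (LinearMap.surjective ?_)
      intro h0
      have e0 := LinearMap.congr_fun h0 ![1, 0, 0]
      have e1 := LinearMap.congr_fun h0 ![0, 1, 0]
      have e2 := LinearMap.congr_fun h0 ![0, 0, 1]
      rw [hfunc] at e0 e1 e2
      simp at e0 e1 e2
      simp [e0, e1, e2] at hxyz
    have h1 := LinearMap.finrank_range_add_finrank_ker (func x y z)
    rw [hsurj, finrank_top, Module.finrank_self, Module.finrank_fin_fun] at h1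
    omega
  have lineW : ∀ k : L, ∃ W : Submodule F (Fin 3 → F), Module.finrank F W = 2 ∧
      ∀ p : P, p ∈ k ↔ (φ p).submodule ≤ W := by
    intro k
    by_cases hkl : k = f.l
    · refine ⟨LinearMap.ker (func 1 0 0), hker 1 0 0 (.inl one_ne_zero), fun p => ?_⟩
      rw [hmem, LinearMap.mem_ker, hfunc, hkl]
      rcases hvec p with ⟨a, b, rfl, e'⟩ | ⟨m, rfl, e'⟩ | ⟨rfl, e'⟩ <;> simp [e']
      · exact f.pt_off _ _
      · exact (dir m).2.1
      · exact f.hY
    set c : P := meet k f.l with hc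
    have hck : c ∈ k := meet_left hkl
    have hcl : c ∈ f.l := meet_right hkl
    have honly : ∀ p : P, p ∈ f.l → (p ∈ k ↔ p = c) := fun p hp =>
      ⟨fun h' => (meet_eq hkl h' hp).symm, fun h' => h' ▸ hck⟩
    obtain ⟨x, hx, hxc, -⟩ := exists_mem_ne_ne k c c
    have hxl : x ∉ f.l := fun h' => hxc ((honly x h').mp hx)
    obtain ⟨u₀, v₀, rfl⟩ := f.pt_surj hxl
    obtain ⟨a₀, rfl⟩ := ev.surjective u₀
    obtain ⟨b₀, rfl⟩ := ev.surjective v₀
    by_cases hcY : c = f.Y
    · refine ⟨LinearMap.ker (func (-a₀) 1 0), hker _ _ _ (.inr (.inl one_ne_zero)), fun p => ?_⟩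
      rw [hmem, LinearMap.mem_ker, hfunc]
      rcases hvec p with ⟨a, b, rfl, e'⟩ | ⟨m, rfl, e'⟩ | ⟨rfl, e'⟩ <;> simp [e']
      · rw [f.line_affine hcl hck hkl hx, hcY, f.gr_mem_ty, ← ev_sub,
          ← hev0, ev.injective.eq_iff, neg_add_eq_zero, sub_eq_zero, eq_comm]
      · rw [honly _ (dir m).2.1, hcY]
        exact (dir m).2.2
      · rw [honly _ f.hY, hcY]
    · obtain ⟨m₀, hm₀⟩ := (hrange _).mp (⟨⟨c, hcl, hcY⟩, rfl⟩ :
        f.slope ⟨c, hcl, hcY⟩ ∈ f.slopes)
      have hdc : dir m₀ = ⟨c, hcl, hcY⟩ := f.slope_injective ((hdir m₀).trans hm₀)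
      refine ⟨LinearMap.ker (func (m₀ * a₀ - b₀) (-m₀) 1),
        hker _ _ _ (.inr (.inr one_ne_zero)), fun p => ?_⟩
      rw [hmem, LinearMap.mem_ker, hfunc]
      rcases hvec p with ⟨a, b, rfl, e'⟩ | ⟨m, rfl, e'⟩ | ⟨rfl, e'⟩ <;> simp [e']
      · rw [f.line_affine hcl hck hkl hx, f.gr_mem_dir ⟨c, hcl, hcY⟩, ← hdc, hdir, ← ev_sub,
          ← ev_sub, ev_mul, ev.injective.eq_iff]
        constructor
        · intro h'; linear_combination h'
        · intro h'; linear_combination h'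
      · rw [honly _ (dir m).2.1]
        constructor
        · intro h'
          have : dir m = dir m₀ := Subtype.ext (h'.trans (congrArg Subtype.val hdc).symm)
          have hm : m = m₀ := hι (by rw [← hdir m, ← hdir m₀, this])
          rw [hm]; ring
        · intro h'
          have hm : m = m₀ := by linear_combination h'
          rw [hm, hdc]
      · rw [honly _ f.hY]
        exact fun h' => hcY h'.symm
  refine ⟨F, hF, hFin, φ, lineW, fun W hW => ?_⟩
  let bas := Module.finBasisOfFinrankEq F W hW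
  have hb0 : (bas 0 : Fin 3 → F) ≠ 0 := fun h0 => bas.ne_zero 0 (Subtype.ext h0)
  have hb1 : (bas 1 : Fin 3 → F) ≠ 0 := fun h0 => bas.ne_zero 1 (Subtype.ext h0)
  set p := φ.symm (Projectivization.mk F _ hb0) with hp
  set q := φ.symm (Projectivization.mk F _ hb1) with hq
  have hpq : p ≠ q := by
    intro h'
    obtain ⟨c, hc⟩ := (Projectivization.mk_eq_mk_iff' F _ _ hb0 hb1).mp (φ.symm.injective h')
    have h1 : c • bas 1 = bas 0 := Subtype.ext hc
    have h2 := congrArg (fun w => bas.repr w 0) h1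
    simp at h2
  obtain ⟨W', hW', hiff⟩ := lineW (join L p q)
  have h0 : (bas 0 : Fin 3 → F) ∈ W' := by
    have h' := (hiff p).mp (join_left hpq)
    rw [hp, Equiv.apply_symm_apply, Projectivization.submodule_mk,
      Submodule.span_singleton_le_iff_mem] at h'
    exact h'
  have h1 : (bas 1 : Fin 3 → F) ∈ W' := by
    have h' := (hiff q).mp (join_right hpq)
    rw [hq, Equiv.apply_symm_apply, Projectivization.submodule_mk,
      Submodule.span_singleton_le_iff_mem] at h'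
    exact h'
  have hle : W ≤ W' := by
    intro w hw
    have hsum := congrArg Subtype.val (bas.sum_repr ⟨w, hw⟩)
    rw [Fin.sum_univ_two, Submodule.coe_add, Submodule.coe_smul, Submodule.coe_smul] at hsum
    change _ = w at hsum
    rw [← hsum]
    exact add_mem (W'.smul_mem _ h0) (W'.smul_mem _ h1)
  have heq : W = W' := Submodule.eq_of_le_of_finrank_eq hle (hW.trans hW'.symm)
  subst heq
  exact ⟨_, hiff⟩

end Cfsg.Lib.Plane
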