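import Cfsg.Agent.Lib.Plane.TwoTrans

/-!
# A perspectivity in a doubly transitive group gives all translations
-/

set_option autoImplicit false
set_option linter.unusedSectionVars false
set_option linter.style.haveILetI false

namespace Cfsg.Lib.Plane

open Configuration MulAction

variable {P L : Type*} [Membership P L]

/-- The perspectivities in `G` with axis `l`. -/
def axGroup (G : Subgroup (Coll P L)) (l : L) : Subgroup (Coll P L) where
  carrier := {g | g ∈ G ∧ Axis g l}
  one_mem' := ⟨one_mem G, axis_one l⟩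
  mul_mem' h1 h2 := ⟨mul_mem h1.1 h2.1, h1.2.mul h2.2⟩
  inv_mem' h := ⟨inv_mem h.1, h.2.inv⟩

/-- All translations with respect to every line lie in `G`. -/
def AllTrans (G : Subgroup (Coll P L)) : Prop :=
  ∀ (l : L) (x y : P), x ∉ l → y ∉ l → ∃ g, g ∈ G ∧ Axis g l ∧
    (∀ p : P, p ∉ l → g • p = p → g = 1) ∧ g • x = y

variable [ProjectivePlane P L] [Finite P] [Finite L]
variable {G : Subgroup (Coll P L)}

theorem mem_axGroup_conj {l : L} {g x : Coll P L} (hx : x ∈ G) (hg : g ∈ axGroup G l) :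
    x * g * x⁻¹ ∈ axGroup G (x • l) :=
  ⟨mul_mem (mul_mem hx hg.1) (inv_mem hx), hg.2.conj x⟩

theorem mem_elatC_conj {c : P} {l : L} {g x : Coll P L} (hx : x ∈ G) (hg : g ∈ elatC G c l) :
    x * g * x⁻¹ ∈ elatC G (x • c) (x • l) :=
  ⟨⟨mul_mem (mul_mem hx hg.1.1) (inv_mem hx), hg.1.2.conj x⟩, hg.2.conj x⟩

private theorem orbit_arith {s N h : ℕ} (hN : 2 ≤ N) (hh : 2 ≤ h) (e : s * h = N * (h - 1) + 1)
    (hs : s ∣ N) : False := by
  obtain ⟨k, hk⟩ := hs
  obtain ⟨h', rfl⟩ : ∃ h', h = h' + 2 := ⟨h - 2, by omega⟩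
  rw [show h' + 2 - 1 = h' + 1 by omega] at e
  rcases Nat.lt_or_ge k 2 with hk2 | hk2
  · interval_cases k
    · omega
    · subst hk; nlinarith
  · have h1 : 2 * s ≤ N := by rw [hk]; nlinarith
    have h2 : 2 * (s * (h' + 2)) ≤ N * (h' + 2) := by
      rw [← mul_assoc]; exact Nat.mul_le_mul_right _ h1
    rw [e] at h2
    nlinarith

private theorem trans_arith {n k e : ℕ} (hn : 2 ≤ n) (he : 2 ≤ e)
    (h : k * (1 + (n + 1) * (e - 1)) = n ^ 2) : k = 1 := by
  obtain ⟨d, rfl⟩ : ∃ d, e = d + 2 := ⟨e - 2, by omega⟩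
  rw [show d + 2 - 1 = d + 1 by omega] at h
  rcases k with _ | _ | k
  · exfalso; nlinarith
  · rfl
  · exfalso
    have h1 : (k + 2) * (d + 1) + 2 ≤ n ∨ n ≤ (k + 2) * (d + 1) + 1 := by omega
    rcases h1 with h1 | h1
    · have h2 : k + 4 ≤ n := by nlinarith
      have h3 : ((k + 2 : ℕ) : ℤ) * (1 + (n + 1) * (d + 1)) = (n : ℤ) ^ 2 := by exact_mod_cast h
      have h4 : ((k + 1 : ℕ) : ℤ) = (n + 1) * ((n : ℤ) - 1 - (k + 2) * (d + 1)) := by
        push_cast at h3 ⊢; linarith
      have h5 : (1 : ℤ) ≤ (n : ℤ) - 1 - (k + 2) * (d + 1) := by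
        have : ((k + 2) * (d + 1) + 2 : ℕ) ≤ n := h1
        zify at this; linarith
      push_cast at h4
      nlinarith
    · nlinarith

/-- A nontrivial perspectivity in a doubly transitive group yields an elation. -/
theorem exists_elation (h : TwoTrans G) (hpersp : ∃ l : L, ∃ g ∈ G, g ≠ 1 ∧ Axis g l) :
    ∃ l : L, ∃ g ∈ elat G l, g ≠ 1 := by
  classical
  by_contra hno
  push Not at hno
  obtain ⟨l, g₀, hg₀, hg₀1, hax⟩ := hpersp
  set Δ := axGroup G l with hΔ
  have hmem : ∀ (g : Δ) {p : P}, p ∉ l → (g : Coll P L) • p ∉ l := fun g p hp h' =>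
    smul_notMem (g : Coll P L) hp (mem_of_eq_ln h' (axis_fixed_line g.2.2).symm)
  letI : MulAction Δ {p : P // p ∉ l} :=
    { smul := fun g p => ⟨(g : Coll P L) • p.1, hmem g p.2⟩
      one_smul := fun p => Subtype.ext (one_smul _ p.1)
      mul_smul := fun a b p => Subtype.ext (mul_smul (a : Coll P L) b p.1) }
  have fix_unique : ∀ (g : Δ), g ≠ 1 → ∃ x : {p : P // p ∉ l}, g • x = x := by
    intro g hg
    by_contra hfix
    push Not at hfix
    have : (g : Coll P L) ∈ elat G l :=
      ⟨g.2.1, g.2.2, fun p hp e => absurd (Subtype.ext e) (hfix ⟨p, hp⟩)⟩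
    exact hg (Subtype.ext (hno l g this))
  obtain ⟨x₀, hx₀⟩ := Nondegenerate.exists_point (P := P) l
  set a : {p : P // p ∉ l} := ⟨x₀, hx₀⟩
  have hst : ∀ x : {p : P // p ∉ l},
      Nat.card (stabilizer Δ x) = Nat.card (stabilizer Δ a) := by
    intro x
    obtain ⟨k, hk, hkx⟩ := h.stL_trans_off x.2 hx₀
    obtain ⟨hkG, hkl⟩ := mem_stL.mp hk
    let φ : Δ → Δ := fun g => ⟨k * g * k⁻¹, by
      have := mem_axGroup_conj (x := k) hkG g.2
      rwa [hkl] at this⟩
    let ψ : Δ → Δ := fun g => ⟨k⁻¹ * g * k, by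
      have := mem_axGroup_conj (x := k⁻¹) (inv_mem hkG) g.2
      rwa [inv_inv, inv_smul_eq_iff.mpr hkl.symm] at this⟩
    exact Nat.card_congr
      { toFun := fun g => ⟨φ g.1, Subtype.ext (by
          change (k * (g.1 : Coll P L) * k⁻¹) • x₀ = x₀
          have e : (g.1 : Coll P L) • x.1 = x.1 := congrArg Subtype.val g.2
          rw [← hkx, mul_smul, mul_smul, inv_smul_smul, e])⟩
        invFun := fun g => ⟨ψ g.1, Subtype.ext (by
          change (k⁻¹ * (g.1 : Coll P L) * k) • x.1 = x.1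
          have e : (g.1 : Coll P L) • x₀ = x₀ := congrArg Subtype.val g.2
          rw [mul_smul, mul_smul, hkx, e, ← hkx, inv_smul_smul])⟩
        left_inv := fun g => Subtype.ext (Subtype.ext (by
          change k⁻¹ * (k * (g.1 : Coll P L) * k⁻¹) * k = g.1
          group))
        right_inv := fun g => Subtype.ext (Subtype.ext (by
          change k * (k⁻¹ * (g.1 : Coll P L) * k) * k⁻¹ = g.1
          group)) }
  haveI := Fintype.ofFinite {p : P // p ∉ l}
  set h₁ := Nat.card (stabilizer Δ a) with hh₁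
  have hN : Nat.card {p : P // p ∉ l} = ord P L ^ 2 := card_off l
  have count : Nat.card Δ = Nat.card {p : P // p ∉ l} * (h₁ - 1) + 1 := by
    have key : Nat.card {g : Δ // g ≠ 1} = Nat.card {p : P // p ∉ l} * (h₁ - 1) := by
      rw [← Nat.card_congr (Equiv.ofBijective
        (fun z : Σ x : {p : P // p ∉ l}, {g : stabilizer Δ x // g ≠ 1} =>
          (⟨z.2.1.1, fun e => z.2.2 (Subtype.ext e)⟩ : {g : Δ // g ≠ 1})) ⟨?_, ?_⟩), Nat.card_sigma,
        Finset.sum_congr rfl (g := fun _ => h₁ - 1), Finset.sum_const, smul_eq_mul,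
        Finset.card_univ, Nat.card_eq_fintype_card (α := {p : P // p ∉ l})]
      · intro x _
        have := card_subtype_add_not (fun g : stabilizer Δ x => g = 1)
        rw [hst x, Nat.card_unique] at this
        change Nat.card {g : stabilizer Δ x // ¬g = 1} = h₁ - 1
        omega
      · rintro ⟨x, g, hg⟩ ⟨y, g', hg'⟩ e
        have e1 : (g : Δ) = (g' : Δ) := congrArg Subtype.val e
        have hxy : x = y := by
          by_contra hne
          have h1 := axis_eq_one (g : Δ).2.2 x.2 y.2 (fun e' => hne (Subtype.ext e'))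
            (congrArg Subtype.val g.2) (by
              rw [e1]; exact congrArg Subtype.val g'.2)
          exact hg (Subtype.ext (Subtype.ext h1))
        subst hxy
        have : g = g' := Subtype.ext e1
        subst this
        rfl
      · rintro ⟨g, hg⟩
        obtain ⟨x, hx⟩ := fix_unique g hg
        exact ⟨⟨x, ⟨g, hx⟩, fun e => hg (congrArg Subtype.val e)⟩, rfl⟩
    have := card_subtype_add_not (fun g : Δ => g = 1)
    rw [Nat.card_unique] at this
    change 1 + Nat.card {g : Δ // g ≠ 1} = Nat.card Δ at this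
    omega
  have hh2 : 2 ≤ h₁ := by
    by_contra hlt
    have h1 : Nat.card Δ = 1 := by rw [count, show h₁ - 1 = 0 by omega, mul_zero]
    haveI := (Nat.card_eq_one_iff_unique.mp h1).1
    exact hg₀1 (congrArg Subtype.val
      (Subsingleton.elim (⟨g₀, hg₀, hax⟩ : Δ) ⟨1, one_mem _⟩))
  set s := (stabilizer Δ a).index with hs
  have hsdvd : s ∣ Nat.card {p : P // p ∉ l} := by
    haveI := Fintype.ofFinite (MulAction.orbitRel.Quotient Δ {p : P // p ∉ l})
    rw [Nat.card_congr (MulAction.selfEquivSigmaOrbitsQuotientStabilizer Δ {p : P // p ∉ l}),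
      Nat.card_sigma]
    refine Finset.dvd_sum fun ω _ => ?_
    have h1 := (stabilizer Δ ω.out).card_mul_index
    rw [hst, ← (stabilizer Δ a).card_mul_index] at h1
    exact dvd_of_eq (Nat.eq_of_mul_eq_mul_left Nat.card_pos h1).symm
  have hsh : s * h₁ = Nat.card {p : P // p ∉ l} * (h₁ - 1) + 1 := by
    rw [← count, mul_comm]; exact Subgroup.card_mul_index _
  have hn : 2 ≤ Nat.card {p : P // p ∉ l} := by
    rw [hN]; nlinarith [one_lt_ord (P := P) (L := L)]
  exact orbit_arith hn hh2 hsh hsdvd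

/-- A nontrivial perspectivity in a doubly transitive group yields every translation. -/
theorem allTrans_of_persp (h : TwoTrans G) (hpersp : ∃ l : L, ∃ g ∈ G, g ≠ 1 ∧ Axis g l) :
    AllTrans G := by
  classical
  obtain ⟨l₀, g₀, hg₀, hg₀1⟩ := exists_elation h hpersp
  obtain ⟨c₀, hc₀, hgc₀⟩ := hg₀.2.exists_centre hg₀1
  set e := Nat.card (elatC G c₀ l₀) with he
  have he2 : 2 ≤ e := by
    by_contra hlt
    have : Nat.card (elatC G c₀ l₀) = 1 := by
      have : 0 < Nat.card (elatC G c₀ l₀) := Nat.card_pos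
      omega
    haveI := (Nat.card_eq_one_iff_unique.mp this).1
    exact hg₀1 (congrArg Subtype.val
      (Subsingleton.elim (⟨g₀, hg₀, hgc₀⟩ : elatC G c₀ l₀) ⟨1, one_mem _⟩))
  have heq : ∀ (c : P) (l : L), c ∈ l → Nat.card (elatC G c l) = e := by
    intro c l hc
    obtain ⟨k, hk, hkc, hkl⟩ := h.flag_trans hc₀ hc
    refine (Nat.card_congr
      { toFun := fun g : elatC G c₀ l₀ => (⟨k * g * k⁻¹, by
          have := mem_elatC_conj hk g.2
          rwa [hkc, hkl] at this⟩ : elatC G c l)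
        invFun := fun g => ⟨k⁻¹ * g * k, by
          have := mem_elatC_conj (inv_mem hk) g.2
          rwa [inv_inv, inv_smul_eq_iff.mpr hkc.symm, inv_smul_eq_iff.mpr hkl.symm] at this⟩
        left_inv := fun g => Subtype.ext (by
          change k⁻¹ * (k * (g : Coll P L) * k⁻¹) * k = g
          group)
        right_inv := fun g => Subtype.ext (by
          change k * (k⁻¹ * (g : Coll P L) * k) * k⁻¹ = g
          group) }).symm
  intro l x y hx hy
  haveI := Fintype.ofFinite {p : P // p ∈ l}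
  have count : Nat.card (elat G l) = 1 + (ord P L + 1) * (e - 1) := by
    have key : Nat.card {g : elat G l // g ≠ 1} = (ord P L + 1) * (e - 1) := by
      rw [← Nat.card_congr (Equiv.ofBijective
        (fun z : Σ c : {p : P // p ∈ l}, {g : elatC G c.1 l // g ≠ 1} =>
          (⟨⟨z.2.1.1, z.2.1.2.1⟩, fun e => z.2.2 (Subtype.ext (congrArg Subtype.val e :))⟩ :
            {g : elat G l // g ≠ 1})) ⟨?_, ?_⟩), Nat.card_sigma,
        Finset.sum_congr rfl (g := fun _ => e - 1), Finset.sum_const, smul_eq_mul,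
        Finset.card_univ, ← Nat.card_eq_fintype_card, card_on]
      · intro c _
        have := card_subtype_add_not (fun g : elatC G c.1 l => g = 1)
        rw [heq c.1 l c.2, Nat.card_unique] at this
        change Nat.card {g : elatC G c.1 l // ¬g = 1} = e - 1
        omega
      · rintro ⟨c, g, hg⟩ ⟨d, g', hg'⟩ e'
        have e1 : (g : Coll P L) = (g' : Coll P L) :=
          congrArg (fun w : {g : elat G l // g ≠ 1} => (w.1 : Coll P L)) e'
        have hcd : c = d := by
          refine Subtype.ext (centre_unique g.2.1.2.1 g.2.2 ?_ fun h1 => hg (Subtype.ext h1))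
          rw [e1]; exact g'.2.2
        subst hcd
        have : g = g' := Subtype.ext e1
        subst this
        rfl
      · rintro ⟨g, hg⟩
        obtain ⟨c, hc, hgc⟩ := g.2.2.exists_centre fun h1 => hg (Subtype.ext h1)
        exact ⟨⟨⟨c, hc⟩, ⟨g, g.2, hgc⟩, fun h1 => hg (Subtype.ext (congrArg Subtype.val h1 :))⟩, rfl⟩
    have := card_subtype_add_not (fun g : elat G l => g = 1)
    rw [Nat.card_unique] at this
    change 1 + Nat.card {g : elat G l // g ≠ 1} = Nat.card (elat G l) at this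
    omega
  obtain ⟨k, hk⟩ := card_elat_dvd G l
  have hk1 : k = 1 := trans_arith one_lt_ord he2 (by rw [← count, mul_comm]; exact hk.symm)
  rw [hk1, mul_one, ← card_off l] at hk
  let f : elat G l → {p : P // p ∉ l} := fun g => ⟨(g : Coll P L) • x, fun h' =>
    smul_notMem (g : Coll P L) hx (mem_of_eq_ln h' (axis_fixed_line g.2.2.1).symm)⟩
  have hf : Function.Injective f := fun a b hab =>
    Subtype.ext (elat_eq_of_smul a.2 b.2 hx (congrArg Subtype.val hab))
  have hsurj := ((Nat.bijective_iff_injective_and_card f).mpr ⟨hf, hk.symm⟩).2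
  obtain ⟨g, hg⟩ := hsurj ⟨y, hy⟩
  exact ⟨g, g.2.1, g.2.2.1, g.2.2.2, congrArg Subtype.val hg⟩

theorem AllTrans.exists_elatC (h : AllTrans G) {l : L} {c x y : P} (hc : c ∈ l) (hx : x ∉ l)
    (hy : y ∉ l) (hcol : ∃ m : L, c ∈ m ∧ x ∈ m ∧ y ∈ m) : ∃ g ∈ elatC G c l, g • x = y := by
  obtain ⟨g, hgG, hax, hfree, hgx⟩ := h l x y hx hy
  by_cases hxy : x = y
  · exact ⟨1, one_mem _, (one_smul _ x).trans hxy⟩
  have hg1 : g ≠ 1 := fun e => hxy (by rw [← hgx, e, one_smul])
  have hel : IsElation g l := ⟨hax, hfree⟩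
  obtain ⟨d, hd, hgd⟩ := hel.exists_centre hg1
  obtain ⟨m, hcm, hxm, hym⟩ := hcol
  have hdx : d ≠ x := fun e => hx (e ▸ hd)
  have hm : join L d x = m := line_unique hxy (join_right hdx)
    (hgx ▸ smul_mem_line_centre hgd (join_left hdx) (join_right hdx)) hxm hym
  have hml : m ≠ l := fun e => hx (e ▸ hxm)
  have hdc : d = c := point_unique hml (hm ▸ join_left hdx) hcm hd hc
  exact ⟨g, ⟨⟨hgG, hel⟩, hdc ▸ hgd⟩, hgx⟩

end Cfsg.Lib.Plane
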