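import Cfsg.Agent.Lib.Plane.Parity
import Cfsg.Agent.Lib.Plane.Translations

/-!
# A doubly transitive collineation group contains a perspectivity
-/

set_option autoImplicit false
set_option linter.unusedSectionVars false
set_option linter.style.haveILetI false

namespace Cfsg.Lib.Plane

open Configuration MulAction

universe u v

section Group

variable {Γ : Type*} [Group Γ] [Finite Γ] {α : Type*} [MulAction Γ α]

/-- A transitive Sylow subgroup meets the stabiliser in a Sylow subgroup. -/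
theorem IsSyl.stabilizer_inf {p : ℕ} [Fact p.Prime] {S K : Subgroup Γ} (hS : IsSyl p S K) (x : α)
    (heq : orb S x = orb K x) : IsSyl p (S ⊓ stabilizer Γ x) (K ⊓ stabilizer Γ x) := by
  refine ⟨inf_le_inf_right _ hS.le, hS.isPGroup.to_le inf_le_left, ?_⟩
  have h1 := card_orb_mul S x
  have h2 := card_orb_mul K x
  rw [heq] at h1
  rw [card_eq_mul_relIndex hS.le, card_eq_mul_relIndex (inf_le_inf_right (stabilizer Γ x) hS.le),
    ← mul_assoc, h1] at h2
  rw [Nat.eq_of_mul_eq_mul_left Nat.card_pos h2]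
  exact hS.not_dvd

end Group

variable {P : Type u} {L : Type v} [Membership P L] [ProjectivePlane P L] [Finite P] [Finite L]

theorem eq_one_of_off {g : Coll P L} {l : L} (hl : g • l = l)
    (h : ∀ x : P, x ∉ l → g • x = x) : g = 1 := by
  refine coll_eq_one fun x => ?_
  by_cases hx : x ∈ l
  swap
  · exact h x hx
  obtain ⟨y, hy⟩ := Nondegenerate.exists_point (P := P) l
  have hyx : y ≠ x := fun e => hy (e ▸ hx)
  have hml : join L y x ≠ l := fun e => hy (e ▸ join_left hyx)
  obtain ⟨w, hw, hwy, hwx⟩ := exists_mem_ne_ne (join L y x) y x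
  have hwl : w ∉ l := fun hwl => hwx (point_unique hml hw (join_right hyx) hwl hx)
  have hm : g • join L y x = join L y x :=
    line_unique hwy (mem_of_fix (h w hwl) hw) (mem_of_fix (h y hy) (join_left hyx)) hw
      (join_left hyx)
  exact point_unique hml (smul_mem_fix hm (join_right hyx)) (join_right hyx) (smul_mem_fix hl hx) hx

theorem exists_persp_of_noPersp_aux (k : ℕ) : ∀ (P : Type u) (L : Type v) [Membership P L]
    [ProjectivePlane P L] [Finite P] [Finite L] (G : Subgroup (Coll P L)), ord P L = k →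
    TwoTrans G → IsPrimePow (ord P L) → Odd (ord P L) → NoPersp G → False := by
  classical
  induction k using Nat.strong_induction_on with
  | _ k ih =>
  intro P L _ _ _ _ G hk h hpp hodd hno
  obtain ⟨p, a, hp', ha, hpa⟩ := hpp
  have hp := Nat.prime_iff.mpr hp'
  haveI := Fact.mk hp
  set n := ord P L with hn
  have hn1 : 1 < n := one_lt_ord
  have hpn : p ∣ n := hpa ▸ dvd_pow_self p ha.ne'
  have hp2 : Odd p := hodd.of_dvd_nat hpn
  obtain ⟨S, hS⟩ := exists_isSyl p G
  -- fixed flag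
  obtain ⟨C, -, hC⟩ := exists_fixed_of_not_dvd hS.isPGroup (fun _ : P => True)
    (fun _ _ _ _ => trivial) (by
      rw [Nat.card_congr (Equiv.subtypeUnivEquiv fun _ => trivial), card_points (L := L), ← hn]
      intro hd
      have h1 : p ∣ n ^ 2 + n := dvd_add (hpn.trans (dvd_pow_self n two_ne_zero)) hpn
      exact hp.one_lt.ne' (Nat.dvd_one.mp ((Nat.dvd_add_right h1).mp hd)))
  obtain ⟨l, hCl, hl⟩ := exists_fixed_of_not_dvd hS.isPGroup (fun l : L => C ∈ l)
    (fun t ht l' hl' => mem_of_eq_pt (hC t ht).symm (smul_mem t hl')) (by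
      rw [card_through, ← hn]
      intro hd
      exact hp.one_lt.ne' (Nat.dvd_one.mp ((Nat.dvd_add_right hpn).mp hd)))
  have hSF : S ≤ stF G C l := fun s hs => mem_stF.mpr ⟨hS.le hs, hC s hs, hl s hs⟩
  have hSylF : IsSyl p S (stF G C l) := hS.of_le hSF (inf_le_left.trans inf_le_left)
  have hSylL : IsSyl p S (stL G l) := hS.of_le (hSF.trans inf_le_right) inf_le_left
  have transOff : ∀ {x y : P}, x ∉ l → y ∉ l → ∃ s ∈ S, s • x = y := by
    intro x y hx hy
    have hco : Nat.Coprime (Nat.card ↥(orb (stL G l) x)) (S.relIndex (stL G l)) := by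
      rw [h.card_orb_off hx, ← hn, ← hpa, ← pow_mul]
      exact hSylL.coprime _
    have e := orb_eq_of_coprime hSylL.le x hco
    exact (e ▸ h.stL_trans_off hx hy : y ∈ orb S x)
  have transOn : ∀ {x y : P}, x ∈ l → x ≠ C → y ∈ l → y ≠ C → ∃ s ∈ S, s • x = y := by
    intro x y hx hxC hy hyC
    have hco : Nat.Coprime (Nat.card ↥(orb (stF G C l) x)) (S.relIndex (stF G C l)) := by
      rw [h.card_orb_on hCl hx hxC, ← hn, ← hpa]
      exact hSylF.coprime _
    have e := orb_eq_of_coprime hSylF.le x hco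
    exact (e ▸ h.stF_trans_on hCl hx hy hxC hyC : y ∈ orb S x)
  have transPencil : ∀ {m m' : L}, C ∈ m → m ≠ l → C ∈ m' → m' ≠ l → ∃ s ∈ S, s • m = m' := by
    intro m m' hm hml hm' hm'l
    obtain ⟨x, hx, hxC, -⟩ := exists_mem_ne_ne m C C
    obtain ⟨y, hy, hyC, -⟩ := exists_mem_ne_ne m' C C
    have hxl : x ∉ l := fun e => hxC (point_unique hml hx hm e hCl)
    have hyl : y ∉ l := fun e => hyC (point_unique hm'l hy hm' e hCl)
    obtain ⟨s, hs, e⟩ := transOff hxl hyl
    exact ⟨s, hs, line_unique hyC (mem_of_eq_pt e.symm (smul_mem s hx))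
      (mem_of_fix (hC s hs) hm) hy hm'⟩
  obtain ⟨x₀, hx₀⟩ := Nondegenerate.exists_point (P := P) l
  have hSne : S ≠ ⊥ := by
    intro hbot
    obtain ⟨y, hy, hyC, -⟩ := exists_mem_ne_ne l C C
    obtain ⟨y', hy', hy'C, hy'y⟩ := exists_mem_ne_ne l C y
    obtain ⟨s, hs, e⟩ := transOn hy hyC hy' hy'C
    rw [hbot, Subgroup.mem_bot] at hs
    rw [hs, one_smul] at e
    exact hy'y e.symm
  obtain ⟨γ, hγ, hγo, hγc⟩ := exists_central_prime hS.isPGroup hSne
  have hγ1 : γ ≠ 1 := fun e => by rw [e, orderOf_one] at hγo; exact hp.ne_one hγo.symm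
  have comm_fix : ∀ {s : Coll P L} {x y : P},
      s ∈ S → s • x = y → γ • x = x → γ • y = y := by
    intro s x y hs e hx
    rw [← e, ← mul_smul, ← hγc s hs, mul_smul, hx]
  have comm_fixL : ∀ {s : Coll P L} {x y : L},
      s ∈ S → s • x = y → γ • x = x → γ • y = y := by
    intro s x y hs e hx
    rw [← e, ← mul_smul, ← hγc s hs, mul_smul, hx]
  have noFixOff : ∀ x : P, x ∉ l → γ • x ≠ x := fun x hx e => hγ1 (eq_one_of_off (hl γ hγ)
    fun y hy => by
      obtain ⟨s, hs, e'⟩ := transOff hx hy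
      exact comm_fix hs e' e)
  have noFixOn : ∀ x : P, x ∈ l → x ≠ C → γ • x ≠ x := fun x hx hxC e => hγ1 (hno l γ (hS.le hγ)
    fun y hy => by
      by_cases hyC : y = C
      · exact hyC ▸ hC γ hγ
      obtain ⟨s, hs, e'⟩ := transOn hx hxC hy hyC
      exact comm_fix hs e' e)
  have noFixPencil : ∀ m : L, C ∈ m → m ≠ l → γ • m ≠ m := by
    intro m hm hml e
    obtain ⟨A, hA⟩ := exists_axis (g := γ) (c := C) (fun m' hm' => by
      by_cases hm'l : m' = l
      · exact hm'l ▸ hl γ hγ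
      obtain ⟨s, hs, e'⟩ := transPencil hm hml hm' hm'l
      exact comm_fixL hs e' e) hγ1
    exact hγ1 (hno A γ (hS.le hγ) hA)
  have noFixLine : ∀ m : L, C ∉ m → γ • m ≠ m := by
    intro m hm e
    have hml : m ≠ l := fun e' => hm (e' ▸ hCl)
    have hE : γ • (meet m l : P) = meet m l := by rw [smul_meet γ hml, e, hl γ hγ]
    exact noFixOn _ (meet_right hml) (fun e' => hm (e' ▸ meet_left hml)) hE
  -- the line through `x₀` and its image
  have hx₁ : γ • x₀ ∉ l := fun e => smul_notMem γ hx₀ (mem_of_eq_ln e (hl γ hγ).symm)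
  have hxx₁ : x₀ ≠ γ • x₀ := (noFixOff x₀ hx₀).symm
  set m₀ := join L x₀ (γ • x₀) with hm₀
  have hm₀l : m₀ ≠ l := fun e => hx₀ (e ▸ join_left hxx₁)
  have hCm₀ : C ∉ m₀ := by
    intro hCm
    refine noFixPencil m₀ hCm hm₀l ?_
    exact line_unique (fun e => hx₁ (mem_of_eq_pt e.symm hCl)) (mem_of_fix (hC γ hγ) hCm)
      (smul_mem γ (join_left hxx₁)) hCm (join_right hxx₁)
  set D : P := meet m₀ l with hDdef
  have hDl : D ∈ l := meet_right hm₀l
  have hDC : D ≠ C := fun e => hCm₀ (e ▸ meet_left hm₀l)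
  set Y := S ⊓ stabilizer (Coll P L) x₀ with hY
  by_cases hYne : Y = ⊥
  · -- regular case
    set A := S ⊓ stabilizer (Coll P L) D with hA
    have horbS : orb S x₀ = {q | q ∉ l} := Set.ext fun q =>
      ⟨fun ⟨s, hs, e⟩ => show q ∉ l from e ▸ fun h' =>
        smul_notMem s hx₀ (mem_of_eq_ln h' (hl s hs).symm),
       fun hq => transOff hx₀ hq⟩
    have hcardS : Nat.card S = n ^ 2 := by
      rw [← card_orb_mul S x₀, ← hY, hYne, Subgroup.card_bot, mul_one, horbS]
      exact card_off l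
    have horbD : orb S D = orb (stF G C l) D := by
      refine Set.Subset.antisymm (orb_mono hSF D) ?_
      rintro q ⟨g, hg, rfl⟩
      exact transOn hDl hDC (smul_mem_fix (mem_stF.mp hg).2.2 hDl) fun e => hDC
        (smul_left_cancel g (e.trans (mem_stF.mp hg).2.1.symm))
    have hAcard : Nat.card A = n := by
      have h1 := card_orb_mul S D
      rw [← hA, horbD, h.card_orb_on hCl hDl hDC, ← hn, hcardS, pow_two] at h1
      exact Nat.eq_of_mul_eq_mul_left (by omega) h1
    have hfixC : ∀ g ∈ A, g • C = C := fun g hg => hC g hg.1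
    have hCD : (C : P) ≠ D := hDC.symm
    have hAK : IsSyl p A (G ⊓ stabilizer (Coll P L) (C, D)) := by
      have h1 := hSylF.stabilizer_inf D horbD
      have e : stF G C l ⊓ stabilizer (Coll P L) D = G ⊓ stabilizer (Coll P L) (C, D) := by
        ext g
        constructor
        · rintro ⟨hg, hgD⟩
          exact ⟨(mem_stF.mp hg).1, Prod.ext (mem_stF.mp hg).2.1 hgD⟩
        · rintro ⟨hg, hgCD⟩
          have e1 : g • C = C := congrArg Prod.fst hgCD
          have e2 : g • D = D := congrArg Prod.snd hgCD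
          exact ⟨mem_stF.mpr ⟨hg, e1, line_unique hCD (mem_of_fix e1 hCl) (mem_of_fix e2 hDl)
            hCl hDl⟩, e2⟩
      rwa [e] at h1
    obtain ⟨g₁, hg₁, ec, ed⟩ := h hCD hDC
    obtain ⟨g, hg, hgN, hgx⟩ := witt (x := (C, D)) (y := (D, C)) hAK ⟨g₁, hg₁, Prod.ext ec ed⟩
      fun t ht => Prod.ext ht.2 (hC t ht.1)
    have hgC : g • C = D := congrArg Prod.fst hgx
    have hgD : g • D = C := congrArg Prod.snd hgx
    have hgl : g • l = l := line_unique hDC (mem_of_eq_pt hgC.symm (smul_mem g hCl))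
      (mem_of_eq_pt hgD.symm (smul_mem g hDl)) hDl hCl
    have only : ∀ b ∈ A, b ≠ 1 → ∀ m : L, C ∉ m → b • m = m → False := by
      intro b hb hb1 m hm hbm
      have hml : m ≠ l := fun e => hm (e ▸ hCl)
      have hne : m ≠ γ • m := (noFixLine m hm).symm
      set E : P := meet m (γ • m) with hE
      have hbγ : b • (γ • m) = γ • m := by rw [← mul_smul, hγc b hb.1, mul_smul, hbm]
      have hbE : b • E = E := by rw [hE, smul_meet b hne, hbm, hbγ]
      by_cases hEl : E ∈ l
      · have hEC : E ≠ C := fun e => hm (e ▸ meet_left hne)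
        have h1 : γ • E ∈ l := smul_mem_fix (hl γ hγ) hEl
        have h2 : γ • E ∈ γ • m := smul_mem γ (meet_left hne)
        have hγml : γ • m ≠ l := fun e => hml (smul_left_cancel γ (e.trans (hl γ hγ).symm))
        exact noFixOn E hEl hEC (point_unique hγml h2 (meet_right hne) h1 hEl)
      · obtain ⟨s, hs, e⟩ := transOff hx₀ hEl
        have : s⁻¹ * b * s ∈ Y := by
          refine ⟨S.mul_mem (S.mul_mem (S.inv_mem hs) hb.1) hs, ?_⟩
          change (s⁻¹ * b * s) • x₀ = x₀
          rw [mul_smul, mul_smul, e, hbE, ← e, inv_smul_smul]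
        rw [hYne, Subgroup.mem_bot] at this
        apply hb1
        calc b = s * (s⁻¹ * b * s) * s⁻¹ := by group
          _ = 1 := by rw [this, mul_one, mul_inv_cancel]
    have exists_line : ∀ b ∈ A, b ≠ 1 → ∃ m : L, m ≠ l ∧ C ∈ m ∧ b • m = m := by
      intro b hb hb1
      have hγD : γ • D ∈ l := smul_mem_fix (hl γ hγ) hDl
      have hbγD : b • (γ • D) = γ • D := by rw [← mul_smul, hγc b hb.1, mul_smul, hb.2]
      have hneγ : γ • D ≠ D := noFixOn D hDl hDC
      have h2 : 1 < Nat.card {m : L // b • m = m} := by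
        rw [← card_fixed_eq]
        haveI : Nontrivial {q : P // b • q = q} :=
          ⟨⟨D, hb.2⟩, ⟨γ • D, hbγD⟩, fun e => hneγ (congrArg Subtype.val e).symm⟩
        exact Finite.one_lt_card
      rw [Finite.one_lt_card_iff_nontrivial] at h2
      obtain ⟨⟨m, hm⟩, hne⟩ := exists_ne (⟨l, hl b hb.1⟩ : {m : L // b • m = m})
      refine ⟨m, fun e => hne (Subtype.ext e), ?_, hm⟩
      by_contra hCm
      exact only b hb hb1 m hCm hm
    obtain ⟨b, hb, hb1⟩ : ∃ b ∈ A, b ≠ 1 := by
      by_contra hno'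
      push Not at hno'
      have : A = ⊥ := (Subgroup.eq_bot_iff_forall _).mpr hno'
      rw [this, Subgroup.card_bot] at hAcard
      omega
    have hb' : g⁻¹ * b * g ∈ A := (Subgroup.mem_normalizer_iff''.mp hgN b).mp hb
    have hb'1 : g⁻¹ * b * g ≠ 1 := fun e => hb1 (by
      calc b = g * (g⁻¹ * b * g) * g⁻¹ := by group
        _ = 1 := by rw [e, mul_one, mul_inv_cancel])
    obtain ⟨m, hml, hCm, hfix⟩ := exists_line _ hb' hb'1
    refine only b hb hb1 (g • m) (fun hC' => hml ?_) ?_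
    · have hDm : D ∈ g • m := mem_of_eq_pt hgC.symm (smul_mem g hCm)
      exact smul_left_cancel g ((line_unique hDC hDm hC' hDl hCl).trans hgl.symm)
    · calc b • g • m = g • ((g⁻¹ * b * g) • m) := by rw [← mul_smul, ← mul_smul]; group
        _ = g • m := by rw [hfix]
  · -- the stabiliser of `x₀` fixes a subplane
    have hYS : Y ≤ S := inf_le_left
    have hYG : Y ≤ G := hYS.trans hS.le
    have hYpg : IsPGroup p Y := hS.isPGroup.to_le hYS
    have fixγ : ∀ x, x ∈ fixSet Y → γ • x ∈ fixSet Y := fun x hx y hy => by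
      rw [← mul_smul, hγc y (hYS hy), mul_smul, hx y hy]
    have hCfix : C ∈ fixSet Y := fun y hy => hC y (hYS hy)
    have hxfix : x₀ ∈ fixSet Y := fun y hy => hy.2
    have hlfix : ∀ y ∈ Y, y • l = l := fun y hy => hl y (hYS hy)
    have hγm : γ • m₀ ≠ m₀ := noFixLine m₀ hCm₀
    set x₁ := γ • x₀ with hx₁def
    set x₂ := γ • x₁ with hx₂def
    have hx₂m : x₂ ∉ m₀ := fun e => hγm (line_unique (p := x₁) (q := x₂)
      (fun e' => hxx₁ (smul_left_cancel γ e'))
      (smul_mem γ (join_left hxx₁)) (smul_mem γ (join_right hxx₁)) (join_right hxx₁) e)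
    have hCx : C ≠ x₀ := fun e => hx₀ (e ▸ hCl)
    have hCx₁ : C ≠ x₁ := fun e => hx₁ (e ▸ hCl)
    have hq : HasQuad L (fixSet Y) := by
      refine ⟨C, hCfix, x₀, hxfix, x₁, fixγ _ hxfix, x₂, fixγ _ (fixγ _ hxfix),
        fun m ⟨h1, h2, h3⟩ => hCm₀ (mem_of_eq_ln h1 (join_eq hxx₁ h2 h3).symm), fun m ⟨h1, h2, h3⟩ => ?_,
        fun m ⟨h1, h2, h3⟩ => ?_, fun m ⟨h1, h2, h3⟩ => hx₂m (mem_of_eq_ln h3 (join_eq hxx₁ h1 h2).symm)⟩
      · -- `C, x₀, x₂`
        have hml : m ≠ l := fun e => hx₀ (e ▸ h2)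
        have e2 : γ ^ 2 • m = m := line_unique (p := C) (q := x₂) (fun e => by
          have hx₂l : x₂ ∉ l := fun e' =>
            smul_notMem γ hx₁ (mem_of_eq_ln e' (hl γ hγ).symm)
          exact hx₂l (e ▸ hCl))
          (mem_of_fix (fix_pow (hC γ hγ) 2) h1)
          (mem_of_eq_pt (show x₂ = γ ^ 2 • x₀ by rw [pow_two, mul_smul]) (smul_mem _ h2)) h1 h3
        obtain ⟨i, hi⟩ := hp2
        refine noFixPencil m h1 hml ?_
        have := fix_pow e2 (i + 1)
        rwa [← pow_mul, show 2 * (i + 1) = orderOf γ + 1 by rw [hγo, hi]; ring, pow_succ,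
          pow_orderOf_eq_one, one_mul] at this
      · -- `C, x₁, x₂`
        have hml : m ≠ l := fun e => hx₁ (e ▸ h2)
        exact noFixPencil m h1 hml (line_unique (p := C) (q := x₂) (fun e => by
          have hx₂l : x₂ ∉ l := fun e' =>
            smul_notMem γ hx₁ (mem_of_eq_ln e' (hl γ hγ).symm)
          exact hx₂l (e ▸ hCl))
          (mem_of_fix (hC γ hγ) h1) (smul_mem γ h2) h1 h3)
    letI := fixPlane Y hq
    set C' : FixP Y := ⟨C, hCfix⟩ with hC'
    set l' : FixL Y := ⟨l, hlfix⟩ with hl'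
    set X' : FixP Y := ⟨x₀, hxfix⟩ with hX'
    have hX'l : X' ∉ l' := hx₀
    set q := ord (FixP Y) (FixL Y) with hqdef
    have hqn : q < n := ord_fix_lt Y hq hYne
    have hq1 : 1 < q := one_lt_ord
    have hq2 : q ^ 2 = Nat.card ↥(orb (S ⊓ Subgroup.normalizer (Y : Set (Coll P L))) x₀) := by
      rw [hqdef, ← card_off (P := FixP Y) l']
      exact Nat.card_congr
        { toFun := fun x => ⟨x.1.1, by
            obtain ⟨s, hs, e⟩ := transOff (y := x.1.1) hx₀ x.2
            refine ⟨s, ⟨hs, ?_⟩, e⟩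
            have hmem : ∀ y ∈ Y, s⁻¹ * y * s ∈ Y := by
              intro y hy
              refine ⟨S.mul_mem (S.mul_mem (S.inv_mem hs) (hYS hy)) hs, ?_⟩
              change (s⁻¹ * y * s) • x₀ = x₀
              rw [mul_smul, mul_smul, e, x.1.2 y hy, ← e, inv_smul_smul]
            refine Subgroup.mem_normalizer_iff''.mpr fun y => ⟨hmem y, fun hy => ?_⟩
            obtain ⟨b, hb⟩ := Finite.surjective_of_injective
              (f := fun b : Y => (⟨_, hmem b b.2⟩ : Y))
              (fun b c hbc => Subtype.ext (by simpa using congrArg Subtype.val hbc)) ⟨_, hy⟩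
            have : (b : Coll P L) = y :=
              mul_left_cancel (mul_right_cancel (congrArg Subtype.val hb))
            exact this ▸ b.2⟩
          invFun := fun x => ⟨⟨x.1, fun y hy => by
              obtain ⟨s, ⟨hs, hsN⟩, e⟩ := x.2
              have := (Subgroup.mem_normalizer_iff''.mp hsN y).mp hy
              have h1 : (s⁻¹ * y * s) • x₀ = x₀ := this.2
              rw [mul_smul, mul_smul, inv_smul_eq_iff, e] at h1
              exact h1⟩, by
              obtain ⟨s, ⟨hs, -⟩, e⟩ := x.2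
              exact fun h' => smul_notMem s hx₀ (mem_of_eq_ln (mem_of_eq_pt e h') (hl s hs).symm)⟩
          left_inv := fun _ => rfl
          right_inv := fun _ => rfl }
    have hqpp : IsPrimePow q := by
      obtain ⟨b, hb⟩ := card_orb_prime_pow (p := p)
        (hS.isPGroup.to_le inf_le_left : IsPGroup p (S ⊓ Subgroup.normalizer (Y : Set (Coll P L)) :
          Subgroup (Coll P L))) x₀
      rw [← hq2] at hb
      obtain ⟨c, -, hc⟩ := (Nat.dvd_prime_pow hp).mp (hb ▸ dvd_pow_self q two_ne_zero : q ∣ p ^ b)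
      refine ⟨p, c, hp', Nat.pos_of_ne_zero fun e => ?_, hc.symm⟩
      rw [e, pow_zero] at hc
      omega
    have hqdvd : ∀ d, d ∣ q → d ≠ 1 → p ∣ d := by
      intro d hd hd1
      obtain ⟨r, c, hr, hc, hrc⟩ := hqpp
      obtain ⟨b, hb⟩ := card_orb_prime_pow (p := p)
        (hS.isPGroup.to_le inf_le_left : IsPGroup p (S ⊓ Subgroup.normalizer (Y : Set (Coll P L)) :
          Subgroup (Coll P L))) x₀
      rw [← hq2] at hb
      obtain ⟨e, -, he⟩ := (Nat.dvd_prime_pow hp).mp
        ((hd.trans (dvd_pow_self q two_ne_zero)).trans (dvd_of_eq hb))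
      rcases Nat.eq_zero_or_pos e with h0 | h0
      · rw [h0, pow_zero] at he; exact absurd he hd1
      · exact he ▸ dvd_pow_self p h0.ne'
    have hqodd : Odd q := by
      rw [Nat.odd_iff]
      by_contra h0
      have h2 := hqdvd 2 (Nat.dvd_of_mod_eq_zero (by omega)) (by norm_num)
      have := (Nat.prime_dvd_prime_iff_eq hp Nat.prime_two).mp h2
      rw [this] at hp2
      exact (Nat.not_even_iff_odd.mpr hp2) even_two
    have hK : IsSyl p Y (G ⊓ stabilizer (Coll P L) (x₀, (C, l))) := by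
      have horb : orb S x₀ = orb (stF G C l) x₀ := Set.Subset.antisymm (orb_mono hSF x₀)
        (by
          rintro q ⟨g, hg, rfl⟩
          exact transOff hx₀ fun e => smul_notMem g hx₀ (mem_of_eq_ln e (mem_stF.mp hg).2.2.symm))
      have e : stF G C l ⊓ stabilizer (Coll P L) x₀ =
          G ⊓ stabilizer (Coll P L) (x₀, (C, l)) := by
        ext g
        constructor
        · rintro ⟨hg, hgx⟩
          obtain ⟨h1, h2, h3⟩ := mem_stF.mp hg
          exact ⟨h1, Prod.ext hgx (Prod.ext h2 h3)⟩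
        · rintro ⟨hg, hgx⟩
          exact ⟨mem_stF.mpr ⟨hg, congrArg (fun z => z.2.1) hgx, congrArg (fun z => z.2.2) hgx⟩,
            congrArg Prod.fst hgx⟩
      have h1 := hSylF.stabilizer_inf x₀ horb
      rwa [e] at h1
    set G' := indGroup G Y with hG'
    have triple : ∀ {B : FixP Y} {A : FixP Y} {m : FixL Y}, B ∉ m → A ∈ m →
        ∃ u ∈ G', u • X' = B ∧ u • C' = A := by
      intro B A m hB hA
      obtain ⟨g₁, hg₁, e1, e2⟩ := h.flag_trans hCl (show A.1 ∈ m.1 from hA)
      have hBy : g₁⁻¹ • B.1 ∉ l := fun h' => hB (show B.1 ∈ m.1 from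
        mem_of_eq_ln (mem_of_eq_pt (smul_inv_smul g₁ B.1).symm (smul_mem g₁ h')) e2)
      obtain ⟨s, hs, es⟩ := transOff hx₀ hBy
      have hyorb : (B.1, (A.1, m.1)) ∈ orb G (x₀, (C, l)) :=
        ⟨g₁ * s, mul_mem hg₁ (hS.le hs), Prod.ext
          (show (g₁ * s) • x₀ = B.1 by rw [mul_smul, es, smul_inv_smul])
          (Prod.ext (show (g₁ * s) • C = A.1 by rw [mul_smul, hC s hs, e1])
            (show (g₁ * s) • l = m.1 by rw [mul_smul, hl s hs, e2]))⟩
      obtain ⟨u, hu, huN, eu⟩ := witt hK hyorb fun y hy =>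
        Prod.ext (B.2 y hy) (Prod.ext (A.2 y hy) (m.2 y hy))
      exact ⟨indHom Y ⟨u, huN⟩, mem_indGroup hu huN, Subtype.ext (congrArg Prod.fst eu :),
        Subtype.ext (congrArg (fun z => z.2.1) eu :)⟩
    have h2' : TwoTrans G' := by
      intro A B A' B' hAB hAB'
      have key : ∀ {A B : FixP Y}, A ≠ B → ∃ u ∈ G', u • X' = B ∧ u • C' = A := by
        intro A B hne
        obtain ⟨z, -⟩ := exists_notMem_two (P := FixP Y) (join (FixL Y) A B) (join (FixL Y) A B)
        obtain ⟨m, hA, hB⟩ : ∃ m : FixL Y, A ∈ m ∧ B ∉ m := by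
          obtain ⟨w, hw, -⟩ := exists_notMem_two (P := FixP Y) (join (FixL Y) A B)
            (join (FixL Y) A B)
          have hAw : A ≠ w := fun e => hw (e ▸ join_left hne)
          refine ⟨join (FixL Y) A w, join_left hAw, fun hB => hw ?_⟩
          rw [join_eq hne (join_left hAw) hB]
          exact join_right hAw
        exact triple hB hA
      obtain ⟨u, hu, u1, u2⟩ := key hAB
      obtain ⟨w, hw, w1, w2⟩ := key hAB'
      refine ⟨w * u⁻¹, mul_mem hw (inv_mem hu), ?_, ?_⟩
      · rw [mul_smul, ← u2, inv_smul_smul, w2]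
      · rw [mul_smul, ← u1, inv_smul_smul, w1]
    have hall : AllTrans G' := by
      refine allTrans_of_persp h2' ?_
      by_contra hno'
      push Not at hno'
      refine ih q (hk ▸ hqn) (FixP Y) (FixL Y) G' rfl h2' hqpp hqodd fun m g hg hax => ?_
      by_contra hg1
      exact hno' m g hg hg1 hax
    -- an elation of the subplane fixing `C`, `l` and `x₀`
    have hCX : C' ≠ X' := fun e => hCx (congrArg Subtype.val e)
    set X₁ : FixP Y := ⟨x₁, fixγ _ hxfix⟩ with hX₁def
    set M := join (FixL Y) C' X' with hM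
    have hX₁M : X₁ ∉ M := by
      intro h'
      have hC_in : C ∈ M.1 := join_left (L := FixL Y) hCX
      have hx_in : x₀ ∈ M.1 := join_right (L := FixL Y) hCX
      have hx1_in : x₁ ∈ M.1 := h'
      exact hCm₀ (hm₀ ▸ (join_eq hxx₁ hx_in hx1_in).symm ▸ hC_in)
    have hC₁ : C' ≠ X₁ := fun e => hCx₁ (congrArg Subtype.val e)
    obtain ⟨w, hw, hwC, hwX⟩ := exists_mem_ne_ne (join (FixL Y) C' X₁) C' X₁
    have hne : join (FixL Y) C' X₁ ≠ M := fun e => hX₁M (e ▸ join_right hC₁)
    have hwM : w ∉ M := fun h' => hwC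
      (point_unique hne hw (join_left hC₁) h' (join_left hCX))
    obtain ⟨τ, hτ, hτx⟩ := hall.exists_elatC (l := M) (c := C') (x := X₁) (y := w)
      (join_left hCX) hX₁M hwM ⟨_, join_left hC₁, join_right hC₁, hw⟩
    have hτ1 : τ ≠ 1 := fun e => hwX (by rw [← hτx, e, one_smul])
    have hdvd : orderOf τ ∣ q := by
      have h1 := orderOf_dvd_natCard (⟨τ, hτ⟩ : elatC G' C' M)
      rw [Subgroup.orderOf_mk] at h1
      exact h1.trans (card_elatC_dvd G' (c := C') (l := M) (join_left hCX))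
    obtain ⟨i, hi⟩ : ∃ i, τ ^ p ^ i = 1 := by
      obtain ⟨b, hb⟩ := card_orb_prime_pow (p := p)
        (hS.isPGroup.to_le inf_le_left : IsPGroup p (S ⊓ Subgroup.normalizer (Y : Set (Coll P L)) :
          Subgroup (Coll P L))) x₀
      rw [← hq2] at hb
      exact ⟨b, orderOf_dvd_iff_pow_eq_one.mp
        (hdvd.trans ((dvd_pow_self q two_ne_zero).trans (dvd_of_eq hb)))⟩
    obtain ⟨g, hgn, hg, rfl⟩ := exists_of_mem_indGroup hτ.1.1
    obtain ⟨j, hj1, hj2⟩ := exists_ppower_lift (p := p) (indHom Y) ⟨g, hgn⟩ hτ1 hi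
    set g' : Subgroup.normalizer (Y : Set (Coll P L)) := ⟨g, hgn⟩ ^ j with hg'
    have hfixX : indHom Y ⟨g, hgn⟩ • X' = X' := hτ.1.2.1 X' (join_right hCX)
    have hfixC : indHom Y ⟨g, hgn⟩ • C' = C' := hτ.1.2.1 C' (join_left hCX)
    have hfixl : indHom Y ⟨g, hgn⟩ • l' = l' := hτ.2 l' hCl
    have hg'K : (g' : Coll P L) ∈ G ⊓ stabilizer (Coll P L) (x₀, (C, l)) := by
      refine ⟨by rw [hg', Subgroup.coe_pow]; exact pow_mem hg j, ?_⟩
      have e1 := fix_pow hfixX j
      have e2 := fix_pow hfixC j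
      have e3 := fix_pow hfixl j
      rw [← map_pow] at e1 e2 e3
      exact Prod.ext (congrArg Subtype.val e1 :)
        (Prod.ext (congrArg Subtype.val e2 :) (congrArg Subtype.val e3 :))
    have hW : IsPGroup p (Y ⊔ Subgroup.zpowers (g' : Coll P L) : Subgroup (Coll P L)) :=
      hYpg.to_sup_of_normal_left' hj2 (Subgroup.zpowers_le.mpr g'.2)
    have hle : (Y ⊔ Subgroup.zpowers (g' : Coll P L)) ≤
        G ⊓ stabilizer (Coll P L) (x₀, (C, l)) :=
      sup_le hK.le (Subgroup.zpowers_le.mpr hg'K)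
    have heq := hK.eq_of_le hW hle le_sup_left
    have hg'Y : (g' : Coll P L) ∈ Y :=
      (SetLike.ext_iff.mp heq _).mpr ((le_sup_right : Subgroup.zpowers (g' : Coll P L) ≤
        Y ⊔ Subgroup.zpowers (g' : Coll P L)) (Subgroup.mem_zpowers _))
    exact hj1 ((indHom_eq_one hq g'.2).mpr fun x hx => hx _ hg'Y)

/-- A doubly transitive collineation group contains a nontrivial perspectivity. -/
theorem exists_persp {G : Subgroup (Coll P L)} (h : TwoTrans G) :
    ∃ l : L, ∃ g ∈ G, g ≠ 1 ∧ Axis g l := by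
  by_contra hno
  push Not at hno
  have hno' : NoPersp G := fun l g hg hax => by
    by_contra hg1
    exact hno l g hg hg1 hax
  exact exists_persp_of_noPersp_aux _ P L G rfl h (primePow_of_noPersp h hno')
    (odd_of_noPersp h hno') hno'

/-- A doubly transitive collineation group contains all translations. -/
theorem allTrans_of_twoTrans {G : Subgroup (Coll P L)} (h : TwoTrans G) : AllTrans G :=
  allTrans_of_persp h (exists_persp h)

end Cfsg.Lib.Plane
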