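import Mathlib

/-!
# Finite projective planes: incidence helpers, counts, arcs
-/

set_option autoImplicit false
set_option linter.unusedSectionVars false
set_option linter.style.haveILetI false

namespace Cfsg.Lib.Plane

open Configuration

variable {P L : Type*} [Membership P L] [ProjectivePlane P L]

theorem line_unique {p q : P} {l m : L} (h : p ≠ q) (hpl : p ∈ l) (hql : q ∈ l) (hpm : p ∈ m)
    (hqm : q ∈ m) : l = m :=
  (Nondegenerate.eq_or_eq hpl hql hpm hqm).resolve_left h

theorem point_unique {p q : P} {l m : L} (h : l ≠ m) (hpl : p ∈ l) (hql : q ∈ l) (hpm : p ∈ m)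
    (hqm : q ∈ m) : p = q :=
  (Nondegenerate.eq_or_eq hpl hql hpm hqm).resolve_right h

theorem nonempty_line (P : Type*) {L : Type*} [Membership P L] [ProjectivePlane P L] :
    Nonempty L :=
  let ⟨_, _, _, l, _⟩ := @ProjectivePlane.exists_config P L _ _
  ⟨l⟩

theorem nonempty_point (P L : Type*) [Membership P L] [ProjectivePlane P L] : Nonempty P :=
  let ⟨p, _⟩ := @ProjectivePlane.exists_config P L _ _
  ⟨p⟩

variable (L)

open scoped Classical in
/-- The line through two points (arbitrary if they coincide). -/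
noncomputable def join (p q : P) : L :=
  if h : p ≠ q then HasLines.mkLine h else (nonempty_line P).some

variable {L}

open scoped Classical in
/-- The common point of two lines (arbitrary if they coincide). -/
noncomputable def meet (l m : L) : P :=
  if h : l ≠ m then HasPoints.mkPoint h else (nonempty_point P L).some

theorem join_left {p q : P} (h : p ≠ q) : p ∈ join L p q := by
  rw [join, dif_pos h]; exact (HasLines.mkLine_ax h).1

theorem join_right {p q : P} (h : p ≠ q) : q ∈ join L p q := by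
  rw [join, dif_pos h]; exact (HasLines.mkLine_ax h).2

theorem join_eq {p q : P} {l : L} (h : p ≠ q) (hp : p ∈ l) (hq : q ∈ l) : join L p q = l :=
  line_unique h (join_left h) (join_right h) hp hq

theorem meet_left {l m : L} (h : l ≠ m) : (meet l m : P) ∈ l := by
  rw [meet, dif_pos h]; exact (HasPoints.mkPoint_ax h).1

theorem meet_right {l m : L} (h : l ≠ m) : (meet l m : P) ∈ m := by
  rw [meet, dif_pos h]; exact (HasPoints.mkPoint_ax h).2

theorem meet_eq {p : P} {l m : L} (h : l ≠ m) (hp : p ∈ l) (hq : p ∈ m) : meet l m = p :=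
  point_unique h (meet_left h) hp (meet_right h) hq

theorem ne_of_mem_not_mem {p q : P} {l : L} (hp : p ∈ l) (hq : q ∉ l) : p ≠ q :=
  fun e => hq (e ▸ hp)

/-- Three points in general position. -/
def NonCol (L : Type*) [Membership P L] (a b c : P) : Prop :=
  ∀ l : L, ¬(a ∈ l ∧ b ∈ l ∧ c ∈ l)

theorem exists_mem_pair (L : Type*) [Membership P L] [ProjectivePlane P L] (a b : P) :
    ∃ l : L, a ∈ l ∧ b ∈ l := by
  by_cases h : a = b
  · subst h
    obtain ⟨p, q, r, -, l₂, -, -, -, -, h2, -, -, h3, -⟩ := @ProjectivePlane.exists_config P L _ _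
    by_cases ha : a = q
    · exact ⟨l₂, ha ▸ h2, ha ▸ h2⟩
    · exact ⟨join L a q, join_left ha, join_left ha⟩
  · exact ⟨join L a b, join_left h, join_right h⟩

theorem NonCol.ne₁₂ {a b c : P} (h : NonCol L a b c) : a ≠ b := by
  rintro rfl
  obtain ⟨l, h1, h2⟩ := exists_mem_pair L a c
  exact h l ⟨h1, h1, h2⟩

theorem NonCol.swap₁₂ {a b c : P} (h : NonCol L a b c) : NonCol L b a c :=
  fun l ⟨h1, h2, h3⟩ => h l ⟨h2, h1, h3⟩

theorem NonCol.swap₂₃ {a b c : P} (h : NonCol L a b c) : NonCol L a c b :=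
  fun l ⟨h1, h2, h3⟩ => h l ⟨h1, h3, h2⟩

theorem NonCol.rotate {a b c : P} (h : NonCol L a b c) : NonCol L b c a :=
  fun l ⟨h1, h2, h3⟩ => h l ⟨h3, h1, h2⟩

theorem NonCol.ne₁₃ {a b c : P} (h : NonCol L a b c) : a ≠ c := h.swap₂₃.ne₁₂

theorem NonCol.ne₂₃ {a b c : P} (h : NonCol L a b c) : b ≠ c := h.rotate.ne₁₂

theorem NonCol.notMem_join {a b c : P} (h : NonCol L a b c) : c ∉ join L a b :=
  fun hc => h _ ⟨join_left h.ne₁₂, join_right h.ne₁₂, hc⟩

theorem nonCol_of_notMem {a b c : P} {l : L} (hab : a ≠ b) (ha : a ∈ l) (hb : b ∈ l)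
    (hc : c ∉ l) : NonCol L a b c :=
  fun _ ⟨h1, h2, h3⟩ => hc (line_unique hab h1 h2 ha hb ▸ h3)

/-- A set containing four points, no three collinear. -/
def HasQuad (L : Type*) [Membership P L] (S : Set P) : Prop :=
  ∃ a ∈ S, ∃ b ∈ S, ∃ c ∈ S, ∃ d ∈ S,
    NonCol L a b c ∧ NonCol L a b d ∧ NonCol L a c d ∧ NonCol L b c d

theorem HasQuad.mono {S T : Set P} (h : HasQuad L S) (hST : S ⊆ T) : HasQuad L T := by
  obtain ⟨a, ha, b, hb, c, hc, d, hd, h⟩ := h
  exact ⟨a, hST ha, b, hST hb, c, hST hc, d, hST hd, h⟩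

/-- A set without a quadrangle has all but at most one of its points on one line. -/
theorem exists_line_of_not_hasQuad {S : Set P} (h : ¬HasQuad L S) :
    ∃ l : L, ∀ x ∈ S, ∀ y ∈ S, x ∉ l → y ∉ l → x = y := by
  classical
  by_contra hno
  push Not at hno
  have ex3 : ∃ a ∈ S, ∃ b ∈ S, ∃ c ∈ S, NonCol L a b c := by
    obtain ⟨l⟩ := nonempty_line (L := L) P
    obtain ⟨x, hx, y, hy, -, -, hxy⟩ := hno l
    obtain ⟨z, hz, -, -, hz', -, -⟩ := hno (join L x y)
    exact ⟨x, hx, y, hy, z, hz, nonCol_of_notMem hxy (join_left hxy) (join_right hxy) hz'⟩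
  obtain ⟨a, ha, b, hb, c, hc, habc⟩ := ex3
  -- further points lie on the sides
  have side : ∀ d ∈ S, d ∈ join L a b ∨ d ∈ join L b c ∨ d ∈ join L a c := by
    intro d hd
    by_contra hcon
    push Not at hcon
    exact h ⟨a, ha, b, hb, c, hc, d, hd, habc,
      nonCol_of_notMem habc.ne₁₂ (join_left habc.ne₁₂) (join_right habc.ne₁₂) hcon.1,
      nonCol_of_notMem habc.ne₁₃ (join_left habc.ne₁₃) (join_right habc.ne₁₃) hcon.2.2,
      nonCol_of_notMem habc.ne₂₃ (join_left habc.ne₂₃) (join_right habc.ne₂₃) hcon.2.1⟩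
  -- two points inside different sides give a quadrangle
  have two : ∀ {u v w d e : P}, u ∈ S → v ∈ S → w ∈ S → NonCol L u v w → d ∈ S → e ∈ S →
      d ∈ join L u v → d ≠ v → d ≠ u → e ∈ join L v w → e ≠ v → e ≠ w → False := by
    intro u v w d e hu _ hw huvw hd he hduv hdv hdu hevw hev hew
    have hdw : d ∉ join L v w := fun h' => by
      apply huvw (join L v w)
      refine ⟨?_, join_left huvw.ne₂₃, join_right huvw.ne₂₃⟩
      rw [← line_unique hdv hduv (join_right huvw.ne₁₂) h' (join_left huvw.ne₂₃)]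
      exact join_left huvw.ne₁₂
    have heu : e ∉ join L u v := fun h' => by
      apply huvw (join L u v)
      refine ⟨join_left huvw.ne₁₂, join_right huvw.ne₁₂, ?_⟩
      rw [line_unique hev h' (join_right huvw.ne₁₂) hevw (join_left huvw.ne₂₃)]
      exact join_right huvw.ne₂₃
    refine h ⟨u, hu, d, hd, e, he, w, hw, ?_, ?_, ?_, ?_⟩
    · exact nonCol_of_notMem hdu.symm (join_left huvw.ne₁₂) hduv heu
    · exact nonCol_of_notMem hdu.symm (join_left huvw.ne₁₂) hduv huvw.notMem_join
    · exact (nonCol_of_notMem hew hevw (join_right huvw.ne₂₃)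
        (fun h' => huvw _ ⟨h', join_left huvw.ne₂₃, join_right huvw.ne₂₃⟩)).rotate.rotate
    · exact (nonCol_of_notMem hew hevw (join_right huvw.ne₂₃) hdw).rotate.rotate
  by_cases h1 : ∃ d ∈ S, d ∈ join L a b ∧ d ≠ a ∧ d ≠ b
  · obtain ⟨d, hd, hdab, hda, hdb⟩ := h1
    obtain ⟨x, hx, y, hy, hx', hy', hxy⟩ := hno (join L a b)
    have key : ∀ z ∈ S, z ∉ join L a b → z = c := by
      intro z hz hz'
      by_contra hzc
      rcases side z hz with hh | hh | hh
      · exact hz' hh
      · exact two ha hb hc habc hd hz hdab hdb hda hh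
          (fun e => hz' (by rw [e]; exact join_right habc.ne₁₂)) hzc
      · refine two hb ha hc habc.swap₁₂ hd hz ?_ hda hdb hh
          (fun e => hz' (by rw [e]; exact join_left habc.ne₁₂)) hzc
        rw [join_eq habc.ne₁₂.symm (join_right habc.ne₁₂) (join_left habc.ne₁₂)]
        exact hdab
    exact hxy ((key x hx hx').trans (key y hy hy').symm)
  by_cases h2 : ∃ d ∈ S, d ∈ join L b c ∧ d ≠ b ∧ d ≠ c
  · obtain ⟨d, hd, hdbc, hdb, hdc⟩ := h2
    obtain ⟨x, hx, y, hy, hx', hy', hxy⟩ := hno (join L b c)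
    have key : ∀ z ∈ S, z ∉ join L b c → z = a := by
      intro z hz hz'
      by_contra hza
      rcases side z hz with hh | hh | hh
      · exact h1 ⟨z, hz, hh, hza, fun e => hz' (by rw [e]; exact join_left habc.ne₂₃)⟩
      · exact hz' hh
      · refine two hb hc ha habc.rotate hd hz hdbc hdc hdb ?_
          (fun e => hz' (by rw [e]; exact join_right habc.ne₂₃)) hza
        rw [join_eq habc.ne₁₃.symm (join_right habc.ne₁₃) (join_left habc.ne₁₃)]
        exact hh
    exact hxy ((key x hx hx').trans (key y hy hy').symm)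
  obtain ⟨x, hx, y, hy, hx', hy', hxy⟩ := hno (join L a c)
  have key : ∀ z ∈ S, z ∉ join L a c → z = b := by
    intro z hz hz'
    by_contra hzb
    rcases side z hz with hh | hh | hh
    · exact h1 ⟨z, hz, hh, fun e => hz' (by rw [e]; exact join_left habc.ne₁₃), hzb⟩
    · exact h2 ⟨z, hz, hh, hzb, fun e => hz' (by rw [e]; exact join_right habc.ne₁₃)⟩
    · exact hz' hh
  exact hxy ((key x hx hx').trans (key y hy hy').symm)

section Counts

variable [Finite P] [Finite L]

variable (P L) in
/-- The order of the plane. -/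
noncomputable abbrev ord : ℕ := ProjectivePlane.order P L

theorem one_lt_ord : 1 < ord P L := ProjectivePlane.one_lt_order P L

theorem card_points : Nat.card P = ord P L ^ 2 + ord P L + 1 := by
  haveI := Fintype.ofFinite P
  rw [Nat.card_eq_fintype_card]
  exact ProjectivePlane.card_points P L

theorem card_lines : Nat.card L = ord P L ^ 2 + ord P L + 1 := by
  haveI := Fintype.ofFinite L
  rw [Nat.card_eq_fintype_card]
  exact ProjectivePlane.card_lines P L

theorem card_on (l : L) : Nat.card {p : P // p ∈ l} = ord P L + 1 :=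
  ProjectivePlane.pointCount_eq P l

theorem card_through (p : P) : Nat.card {l : L // p ∈ l} = ord P L + 1 :=
  ProjectivePlane.lineCount_eq L p

theorem card_subtype_add_not {α : Type*} [Finite α] (q : α → Prop) :
    Nat.card {a // q a} + Nat.card {a // ¬q a} = Nat.card α := by
  classical
  rw [← Nat.card_sum, Nat.card_congr (Equiv.sumCompl q)]

theorem card_off (l : L) : Nat.card {p : P // p ∉ l} = ord P L ^ 2 := by
  have h := card_subtype_add_not (fun p : P => p ∈ l)
  rw [card_on, card_points (L := L)] at h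
  omega

theorem card_missing (p : P) : Nat.card {l : L // p ∉ l} = ord P L ^ 2 := by
  have h := card_subtype_add_not (fun l : L => p ∈ l)
  rw [card_through, card_lines (P := P) (L := L)] at h
  omega

theorem card_mem_ne {l : L} {c : P} (hc : c ∈ l) :
    Nat.card {p : P // p ∈ l ∧ p ≠ c} = ord P L := by
  classical
  have h := card_subtype_add_not (fun p : {p : P // p ∈ l} => p.val = c)
  rw [card_on] at h
  have h1 : Nat.card {p : {p : P // p ∈ l} // p.val = c} = 1 := by
    rw [Nat.card_eq_one_iff_unique]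
    exact ⟨⟨fun a b => Subtype.ext (Subtype.ext (a.2.trans b.2.symm))⟩, ⟨⟨⟨c, hc⟩, rfl⟩⟩⟩
  have h2 : Nat.card {p : {p : P // p ∈ l} // ¬p.val = c} = Nat.card {p : P // p ∈ l ∧ p ≠ c} :=
    Nat.card_congr (Equiv.subtypeSubtypeEquivSubtypeInter (fun p => p ∈ l) (fun p => ¬p = c))
  omega

theorem exists_mem_ne_ne (l : L) (c d : P) : ∃ p : P, p ∈ l ∧ p ≠ c ∧ p ≠ d := by
  by_contra h
  push Not at h
  classical
  let f : {p : P // p ∈ l} → Bool := fun p => decide (p.val = c)
  have hf : Function.Injective f := by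
    intro a b hab
    apply Subtype.ext
    by_cases ha : a.val = c
    · have hb : b.val = c := by simpa [f, ha] using hab.symm
      exact ha.trans hb.symm
    · have hb : ¬b.val = c := by simpa [f, ha] using hab.symm
      exact (h a a.2 ha).trans (h b b.2 hb).symm
  have := Nat.card_le_card_of_injective f hf
  rw [card_on, Nat.card_eq_fintype_card (α := Bool), Fintype.card_bool] at this
  have := one_lt_ord (P := P) (L := L)
  omega

/-- A point outside two given lines. -/
theorem exists_notMem_two (l m : L) : ∃ p : P, p ∉ l ∧ p ∉ m := by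
  by_cases hlm : l = m
  · subst hlm
    obtain ⟨p, hp⟩ := Nondegenerate.exists_point (P := P) l
    exact ⟨p, hp, hp⟩
  obtain ⟨a, ha, ha', -⟩ := exists_mem_ne_ne l (meet l m : P) (meet l m : P)
  obtain ⟨b, hb, hb', -⟩ := exists_mem_ne_ne m (meet l m : P) (meet l m : P)
  have hab : a ≠ b := fun e => ha' (meet_eq hlm ha (e ▸ hb)).symm
  obtain ⟨x, hx, hxa, hxb⟩ := exists_mem_ne_ne (join L a b) a b
  refine ⟨x, fun hxl => ?_, fun hxm => ?_⟩
  · apply hb'
    have : join L a b = l := line_unique hxa hx (join_left hab) hxl ha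
    exact (meet_eq hlm (this ▸ join_right hab) hb).symm
  · apply ha'
    have : join L a b = m := line_unique hxb hx (join_right hab) hxm hb
    exact (meet_eq hlm ha (this ▸ join_left hab)).symm

end Counts

end Cfsg.Lib.Plane
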