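import Cfsg.Agent.Lib.Plane.Basic

/-!
# Collineations, duality, fixed counts, orbit counts, fixed subplanes
-/

set_option autoImplicit false
set_option linter.unusedSectionVars false
set_option linter.style.haveILetI false

namespace Cfsg.Lib.Plane

open Configuration

variable (P L : Type*) [Membership P L]

/-- The incidence preserving pairs of permutations. -/
def colSubgroup : Subgroup (Equiv.Perm P × Equiv.Perm L) where
  carrier := {x | ∀ p l, x.1 p ∈ x.2 l ↔ p ∈ l}
  one_mem' := fun _ _ => Iff.rfl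
  mul_mem' := fun {x y} hx hy p l => (hx (y.1 p) (y.2 l)).trans (hy p l)
  inv_mem' := fun {x} hx p l => by
    have := hx (x.1⁻¹ p) (x.2⁻¹ l)
    simpa using this.symm

/-- The collineation group. -/
abbrev Coll : Type _ := ↥(colSubgroup P L)

instance collActionPoints : MulAction (Coll P L) P where
  smul g p := g.1.1 p
  one_smul _ := rfl
  mul_smul _ _ _ := rfl

instance collActionLines : MulAction (Coll P L) L where
  smul g l := g.1.2 l
  one_smul _ := rfl
  mul_smul _ _ _ := rfl

variable {P L}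

theorem smul_mem_iff (g : Coll P L) {p : P} {l : L} : g • p ∈ g • l ↔ p ∈ l := g.2 p l

theorem smul_mem (g : Coll P L) {p : P} {l : L} (h : p ∈ l) : g • p ∈ g • l :=
  (smul_mem_iff g).mpr h

theorem smul_notMem (g : Coll P L) {p : P} {l : L} (h : p ∉ l) : g • p ∉ g • l :=
  fun h' => h ((smul_mem_iff g).mp h')

theorem mem_smul_iff (g : Coll P L) {p : P} {l : L} : p ∈ g • l ↔ g⁻¹ • p ∈ l := by
  rw [← smul_mem_iff g (p := g⁻¹ • p), smul_inv_smul]

variable [ProjectivePlane P L]

theorem smul_join (g : Coll P L) {p q : P} (h : p ≠ q) :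
    g • join L p q = join L (g • p) (g • q) :=
  (join_eq (fun e => h (smul_left_cancel g e)) (smul_mem g (join_left h))
    (smul_mem g (join_right h))).symm

theorem smul_meet (g : Coll P L) {l m : L} (h : l ≠ m) :
    g • (meet l m : P) = meet (g • l) (g • m) :=
  (meet_eq (fun e => h (smul_left_cancel g e)) (smul_mem g (meet_left h))
    (smul_mem g (meet_right h))).symm

variable [Finite P] [Finite L]

instance finite_coll : Finite (Coll P L) := Subtype.finite

theorem coll_ext {g h : Coll P L} (hp : ∀ p : P, g • p = h • p) : g = h := by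
  have hl : ∀ l : L, g • l = h • l := by
    intro l
    obtain ⟨a, ha, -, -⟩ := exists_mem_ne_ne l (nonempty_point P L).some (nonempty_point P L).some
    obtain ⟨b, hb, hba, -⟩ := exists_mem_ne_ne l a a
    exact line_unique (fun e => hba (smul_left_cancel g e)) (smul_mem g hb) (smul_mem g ha)
      (hp b ▸ smul_mem h hb) (hp a ▸ smul_mem h ha)
  exact Subtype.ext (Prod.ext (Equiv.ext hp) (Equiv.ext hl))

theorem coll_eq_one {g : Coll P L} (hp : ∀ p : P, g • p = p) : g = 1 :=
  coll_ext fun p => (hp p).trans (one_smul _ p).symm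

theorem exists_moved {g : Coll P L} (hg : g ≠ 1) : ∃ p : P, g • p ≠ p := by
  by_contra h
  push Not at h
  exact hg (coll_eq_one h)

/-- Collineations of the dual plane. -/
def dualEquiv : Coll P L ≃* Coll (Dual L) (Dual P) where
  toFun g := ⟨(g.1.2, g.1.1), fun l p => g.2 p l⟩
  invFun g := ⟨(g.1.2, g.1.1), fun p l => g.2 l p⟩
  left_inv _ := rfl
  right_inv _ := rfl
  map_mul' _ _ := rfl

theorem dualEquiv_smul_point (g : Coll P L) (l : L) :
    (dualEquiv g • (show Dual L from l) : Dual L) = g • l := rfl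

theorem dualEquiv_smul_line (g : Coll P L) (p : P) :
    (dualEquiv g • (show Dual P from p) : Dual P) = g • p := rfl

/-- A collineation fixes equally many points and lines. -/
theorem card_fixed_eq (g : Coll P L) :
    Nat.card {p : P // g • p = p} = Nat.card {l : L // g • l = l} := by
  classical
  haveI := Fintype.ofFinite P
  haveI := Fintype.ofFinite L
  have count1 : ∀ p : P, Nat.card {l : L // p ∈ l ∧ g • p ∈ l} =
      1 + ord P L * (if g • p = p then 1 else 0) := by
    intro p
    by_cases h : g • p = p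
    · rw [if_pos h, mul_one, Nat.card_congr (Equiv.subtypeEquivRight fun l => by
        rw [h, and_self_iff] : {l : L // p ∈ l ∧ g • p ∈ l} ≃ {l : L // p ∈ l}), card_through,
        add_comm]
    · rw [if_neg h, mul_zero, add_zero, Nat.card_eq_one_iff_unique]
      refine ⟨⟨fun a b => Subtype.ext (line_unique (Ne.symm h) a.2.1 a.2.2 b.2.1 b.2.2)⟩,
        ⟨⟨join L p (g • p), join_left (Ne.symm h), join_right (Ne.symm h)⟩⟩⟩
  have count2 : ∀ l : L, Nat.card {p : P // p ∈ l ∧ g • p ∈ l} =
      1 + ord P L * (if g • l = l then 1 else 0) := by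
    intro l
    by_cases h : g • l = l
    · rw [if_pos h, mul_one, Nat.card_congr (Equiv.subtypeEquivRight fun p => by
        constructor
        · exact fun hp => hp.1
        · exact fun hp => ⟨hp, h ▸ smul_mem g hp⟩ :
        {p : P // p ∈ l ∧ g • p ∈ l} ≃ {p : P // p ∈ l}), card_on, add_comm]
    · have hne : g⁻¹ • l ≠ l := fun e => h (by conv_lhs => rw [← e, smul_inv_smul])
      rw [if_neg h, mul_zero, add_zero, Nat.card_eq_one_iff_unique]
      refine ⟨⟨fun a b => Subtype.ext (point_unique hne ?_ ?_ a.2.1 b.2.1)⟩,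
        ⟨⟨meet (g⁻¹ • l) l, meet_right hne, ?_⟩⟩⟩
      · rw [mem_smul_iff, inv_inv]; exact a.2.2
      · rw [mem_smul_iff, inv_inv]; exact b.2.2
      · have h3 := meet_left (P := P) hne
        rw [mem_smul_iff, inv_inv] at h3
        exact h3
  have e : (Σ p : P, {l : L // p ∈ l ∧ g • p ∈ l}) ≃ (Σ l : L, {p : P // p ∈ l ∧ g • p ∈ l}) :=
    { toFun := fun x => ⟨x.2.1, x.1, x.2.2⟩
      invFun := fun x => ⟨x.2.1, x.1, x.2.2⟩
      left_inv := fun _ => rfl
      right_inv := fun _ => rfl }
  have h1 := Nat.card_congr e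
  rw [Nat.card_sigma, Nat.card_sigma, Finset.sum_congr rfl fun p _ => count1 p,
    Finset.sum_congr rfl fun l _ => count2 l, Finset.sum_add_distrib, Finset.sum_add_distrib,
    ← Finset.mul_sum, ← Finset.mul_sum] at h1
  have hN : Fintype.card P = Fintype.card L := ProjectivePlane.card_points_eq_card_lines P L
  simp only [Finset.sum_const, smul_eq_mul, mul_one, Finset.card_univ, hN] at h1
  have h2 : ord P L ≠ 0 := by have := one_lt_ord (P := P) (L := L); omega
  have h3 := Nat.eq_of_mul_eq_mul_left (Nat.pos_of_ne_zero h2) (Nat.add_left_cancel h1)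
  simp only [Finset.sum_boole, Nat.cast_id] at h3
  rw [Nat.card_eq_fintype_card, Nat.card_eq_fintype_card, Fintype.card_subtype,
    Fintype.card_subtype]
  exact h3

/-- A group of collineations has equally many orbits on points and on lines. -/
theorem card_orbits_eq (H : Subgroup (Coll P L)) :
    Nat.card (MulAction.orbitRel.Quotient H P) = Nat.card (MulAction.orbitRel.Quotient H L) := by
  classical
  haveI := Fintype.ofFinite P
  haveI := Fintype.ofFinite L
  haveI := Fintype.ofFinite H
  haveI := Fintype.ofFinite (MulAction.orbitRel.Quotient H P)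
  haveI := Fintype.ofFinite (MulAction.orbitRel.Quotient H L)
  have h1 := MulAction.sum_card_fixedBy_eq_card_orbits_mul_card_group H P
  have h2 := MulAction.sum_card_fixedBy_eq_card_orbits_mul_card_group H L
  have h3 : ∀ h : H, Fintype.card (MulAction.fixedBy P h) = Fintype.card (MulAction.fixedBy L h) :=
    fun h => by
      rw [← Nat.card_eq_fintype_card, ← Nat.card_eq_fintype_card]
      exact card_fixed_eq (h : Coll P L)
  rw [Finset.sum_congr rfl fun h _ => h3 h, h2] at h1
  rw [Nat.card_eq_fintype_card, Nat.card_eq_fintype_card]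
  exact (Nat.eq_of_mul_eq_mul_right Fintype.card_pos h1).symm

/-- If a group has at most two orbits on points, then in each invariant class of lines avoiding
some line it is transitive. -/
theorem exists_smul_line_eq (H : Subgroup (Coll P L)) (a b : P)
    (hab : ∀ q : P, (∃ h ∈ H, h • a = q) ∨ (∃ h ∈ H, h • b = q))
    (Q : L → Prop) (hQ : ∀ h ∈ H, ∀ l, Q l → Q (h • l)) {l m t : L}
    (hl : Q l) (hm : Q m) (ht : ¬Q t) : ∃ h ∈ H, h • l = m := by
  classical
  by_contra hno
  push Not at hno
  have hle : Nat.card (MulAction.orbitRel.Quotient H P) ≤ 2 := by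
    let f : Bool → MulAction.orbitRel.Quotient H P := fun c => Quotient.mk'' (bif c then a else b)
    have hf : Function.Surjective f := by
      intro x
      induction x using Quotient.inductionOn' with
      | h q =>
        rcases hab q with ⟨h, hh, e⟩ | ⟨h, hh, e⟩
        · refine ⟨true, Quotient.sound' ?_⟩
          exact ⟨⟨h⁻¹, inv_mem hh⟩, by change h⁻¹ • q = a; rw [← e, inv_smul_smul]⟩
        · refine ⟨false, Quotient.sound' ?_⟩
          exact ⟨⟨h⁻¹, inv_mem hh⟩, by change h⁻¹ • q = b; rw [← e, inv_smul_smul]⟩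
    simpa using Nat.card_le_card_of_surjective f hf
  rw [card_orbits_eq] at hle
  let g : Fin 3 → MulAction.orbitRel.Quotient H L := fun i => Quotient.mk'' (![l, m, t] i)
  have hg : Function.Injective g := by
    intro i j hij
    obtain ⟨⟨h, hh⟩, e⟩ := Quotient.eq''.mp hij
    change h • ![l, m, t] j = ![l, m, t] i at e
    fin_cases i <;> fin_cases j <;> simp at e ⊢
    · exact hno h⁻¹ (inv_mem hh) (by rw [← e, inv_smul_smul])
    · exact ht (by have := hQ h⁻¹ (inv_mem hh) l hl; rwa [← e, inv_smul_smul] at this)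
    · exact hno h hh e
    · exact ht (by have := hQ h⁻¹ (inv_mem hh) m hm; rwa [← e, inv_smul_smul] at this)
    · exact ht (by have := hQ h hh l hl; rwa [e] at this)
    · exact ht (by have := hQ h hh m hm; rwa [e] at this)
  have := Nat.card_le_card_of_injective g hg
  rw [Nat.card_eq_fintype_card, Fintype.card_fin] at this
  omega

/-- The points fixed by a set of collineations. -/
def fixSet (H : Subgroup (Coll P L)) : Set P := {p | ∀ h ∈ H, h • p = p}

/-- Fixed points as a type. -/
abbrev FixP (H : Subgroup (Coll P L)) : Type _ := {p : P // ∀ h ∈ H, h • p = p}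

/-- Fixed lines as a type. -/
abbrev FixL (H : Subgroup (Coll P L)) : Type _ := {l : L // ∀ h ∈ H, h • l = l}

instance fixMembership (H : Subgroup (Coll P L)) : Membership (FixP H) (FixL H) :=
  ⟨fun l p => (p.1 : P) ∈ (l.1 : L)⟩

theorem fix_mem_iff {H : Subgroup (Coll P L)} (p : FixP H) (l : FixL H) :
    p ∈ l ↔ p.1 ∈ l.1 := Iff.rfl

theorem fix_join {H : Subgroup (Coll P L)} {p q : P} (hp : p ∈ fixSet H) (hq : q ∈ fixSet H)
    (h : p ≠ q) : ∀ g ∈ H, g • join L p q = join L p q := fun g hg => by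
  rw [smul_join g h, hp g hg, hq g hg]

theorem fix_meet {H : Subgroup (Coll P L)} {l m : L} (hl : ∀ g ∈ H, g • l = l)
    (hm : ∀ g ∈ H, g • m = m) (h : l ≠ m) : (meet l m : P) ∈ fixSet H := fun g hg => by
  rw [smul_meet g h, hl g hg, hm g hg]

/-- The subplane of fixed elements. -/
@[instance_reducible]
noncomputable def fixPlane (H : Subgroup (Coll P L)) (hq : HasQuad L (fixSet H)) :
    ProjectivePlane (FixP H) (FixL H) where
  exists_point := fun l => by
    obtain ⟨a, ha, b, hb, c, hc, d, hd, habc, -⟩ := hq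
    by_contra hno
    push Not at hno
    exact habc l.1 ⟨hno ⟨a, ha⟩, hno ⟨b, hb⟩, hno ⟨c, hc⟩⟩
  exists_line := fun p => by
    obtain ⟨a, ha, b, hb, c, hc, d, hd, habc, habd, hacd, hbcd⟩ := hq
    by_contra hno
    push Not at hno
    have h1 : p.1 ∈ join L a b := hno ⟨_, fix_join ha hb habc.ne₁₂⟩
    have h2 : p.1 ∈ join L a c := hno ⟨_, fix_join ha hc habc.ne₁₃⟩
    have h3 : p.1 ∈ join L c d := hno ⟨_, fix_join hc hd hacd.ne₂₃⟩
    have hne : join L a b ≠ join L a c := fun e =>
      habc.notMem_join (e ▸ join_right habc.ne₁₃)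
    rw [point_unique hne h1 (join_left habc.ne₁₂) h2 (join_left habc.ne₁₃)] at h3
    exact hacd.rotate.notMem_join h3
  eq_or_eq := fun {p q} {l m} h1 h2 h3 h4 =>
    (Nondegenerate.eq_or_eq (P := P) (L := L) h1 h2 h3 h4).imp Subtype.ext Subtype.ext
  mkPoint := fun {l m} h => ⟨meet l.1 m.1, fix_meet l.2 m.2 fun e => h (Subtype.ext e)⟩
  mkPoint_ax := fun {l m} h =>
    ⟨meet_left fun e => h (Subtype.ext e), meet_right fun e => h (Subtype.ext e)⟩
  mkLine := fun {p q} h => ⟨join L p.1 q.1, fix_join p.2 q.2 fun e => h (Subtype.ext e)⟩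
  mkLine_ax := fun {p q} h =>
    ⟨join_left fun e => h (Subtype.ext e), join_right fun e => h (Subtype.ext e)⟩
  exists_config := by
    obtain ⟨a, ha, b, hb, c, hc, d, hd, habc, habd, hacd, hbcd⟩ := hq
    refine ⟨⟨c, hc⟩, ⟨a, ha⟩, ⟨b, hb⟩, ⟨_, fix_join hc hd hacd.ne₂₃⟩,
      ⟨_, fix_join ha hb habc.ne₁₂⟩, ⟨_, fix_join ha hd hacd.ne₁₃⟩, ?_, ?_, ?_, ?_, ?_, ?_, ?_, ?_⟩
    · exact habc.notMem_join
    · exact fun h => hacd _ ⟨join_left hacd.ne₁₃, h, join_right hacd.ne₁₃⟩
    · exact hacd.rotate.notMem_join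
    · exact join_left habc.ne₁₂
    · exact join_left hacd.ne₁₃
    · exact hbcd.rotate.notMem_join
    · exact join_right habc.ne₁₂
    · exact fun h => habd _ ⟨join_left hacd.ne₁₃, h, join_right hacd.ne₁₃⟩

instance finite_fixP (H : Subgroup (Coll P L)) : Finite (FixP H) := Subtype.finite

instance finite_fixL (H : Subgroup (Coll P L)) : Finite (FixL H) := Subtype.finite

instance fixActionPoints (H : Subgroup (Coll P L)) :
    MulAction (Subgroup.normalizer (H : Set (Coll P L))) (FixP H) where
  smul n p := ⟨(n : Coll P L) • p.1, fun h hh => by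
    have h1 : (n : Coll P L)⁻¹ * h * n ∈ H := (Subgroup.mem_normalizer_iff''.mp n.2 h).mp hh
    have h2 := p.2 _ h1
    rw [mul_smul, mul_smul, inv_smul_eq_iff] at h2
    exact h2⟩
  one_smul p := Subtype.ext (one_smul _ p.1)
  mul_smul a b p := Subtype.ext (mul_smul (a : Coll P L) b p.1)

instance fixActionLines (H : Subgroup (Coll P L)) :
    MulAction (Subgroup.normalizer (H : Set (Coll P L))) (FixL H) where
  smul n l := ⟨(n : Coll P L) • l.1, fun h hh => by
    have h1 : (n : Coll P L)⁻¹ * h * n ∈ H := (Subgroup.mem_normalizer_iff''.mp n.2 h).mp hh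
    have h2 := l.2 _ h1
    rw [mul_smul, mul_smul, inv_smul_eq_iff] at h2
    exact h2⟩
  one_smul l := Subtype.ext (one_smul _ l.1)
  mul_smul a b l := Subtype.ext (mul_smul (a : Coll P L) b l.1)

/-- The action of the normalizer on the fixed structure. -/
noncomputable def indHom (H : Subgroup (Coll P L)) :
    Subgroup.normalizer (H : Set (Coll P L)) →* Coll (FixP H) (FixL H) where
  toFun n := ⟨(MulAction.toPerm n, MulAction.toPerm n), fun p l => smul_mem_iff (n : Coll P L)⟩
  map_one' := Subtype.ext (Prod.ext (Equiv.ext fun p => one_smul (Subgroup.normalizer (H : Set (Coll P L))) p)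
    (Equiv.ext fun l => one_smul (Subgroup.normalizer (H : Set (Coll P L))) l))
  map_mul' a b := Subtype.ext
    (Prod.ext (Equiv.ext fun p => mul_smul a b p) (Equiv.ext fun l => mul_smul a b l))

theorem indHom_point (H : Subgroup (Coll P L)) (n : Subgroup.normalizer (H : Set (Coll P L)))
    (p : FixP H) : (indHom H n • p).1 = (n : Coll P L) • p.1 := rfl

theorem indHom_line (H : Subgroup (Coll P L)) (n : Subgroup.normalizer (H : Set (Coll P L)))
    (l : FixL H) : (indHom H n • l).1 = (n : Coll P L) • l.1 := rfl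

/-- The group induced by `G` on the fixed structure of `H`. -/
noncomputable def indGroup (G H : Subgroup (Coll P L)) : Subgroup (Coll (FixP H) (FixL H)) :=
  (G.subgroupOf (Subgroup.normalizer (H : Set (Coll P L)))).map (indHom H)

theorem mem_indGroup {G H : Subgroup (Coll P L)} {g : Coll P L} (hg : g ∈ G)
    (hn : g ∈ Subgroup.normalizer (H : Set (Coll P L))) : indHom H ⟨g, hn⟩ ∈ indGroup G H :=
  Subgroup.mem_map_of_mem _ (show (⟨g, hn⟩ : Subgroup.normalizer (H : Set (Coll P L))) ∈
    G.subgroupOf _ from hg)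

theorem exists_of_mem_indGroup {G H : Subgroup (Coll P L)} {x : Coll (FixP H) (FixL H)}
    (hx : x ∈ indGroup G H) :
    ∃ (g : Coll P L) (hn : g ∈ Subgroup.normalizer (H : Set (Coll P L))),
      g ∈ G ∧ indHom H ⟨g, hn⟩ = x := by
  obtain ⟨⟨g, hn⟩, hg, rfl⟩ := Subgroup.mem_map.mp hx
  exact ⟨g, hn, hg, rfl⟩

theorem fixSet_anti {H K : Subgroup (Coll P L)} (h : H ≤ K) : fixSet K ⊆ fixSet H :=
  fun _ hp g hg => hp g (h hg)

/-- Quadrangles of the subplane give quadrangles of the plane. -/
theorem hasQuad_of_sub (H : Subgroup (Coll P L)) (hq : HasQuad L (fixSet H))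
    {S : Set (FixP H)} (hS : HasQuad (FixL H) S) : HasQuad L (Subtype.val '' S) := by
  letI := fixPlane H hq
  obtain ⟨a, ha, b, hb, c, hc, d, hd, h1, h2, h3, h4⟩ := hS
  have key : ∀ {x y z : FixP H}, NonCol (FixL H) x y z → NonCol L x.1 y.1 z.1 := by
    intro x y z hxyz l hl
    have hne : x.1 ≠ y.1 := fun e => hxyz.ne₁₂ (Subtype.ext e)
    refine hxyz ⟨join L x.1 y.1, fix_join x.2 y.2 hne⟩ ⟨join_left hne, join_right hne, ?_⟩
    change z.1 ∈ join L x.1 y.1
    rw [join_eq hne hl.1 hl.2.1]
    exact hl.2.2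
  exact ⟨a.1, ⟨a, ha, rfl⟩, b.1, ⟨b, hb, rfl⟩, c.1, ⟨c, hc, rfl⟩, d.1, ⟨d, hd, rfl⟩,
    key h1, key h2, key h3, key h4⟩

theorem hasQuad_sub {H : Subgroup (Coll P L)} {S : Set P} (hS : HasQuad L S)
    (hsub : S ⊆ fixSet H) : HasQuad (FixL H) (Subtype.val ⁻¹' S : Set (FixP H)) := by
  obtain ⟨a, ha, b, hb, c, hc, d, hd, h1, h2, h3, h4⟩ := hS
  exact ⟨⟨a, hsub ha⟩, ha, ⟨b, hsub hb⟩, hb, ⟨c, hsub hc⟩, hc, ⟨d, hsub hd⟩, hd,
    fun l h => h1 l.1 h, fun l h => h2 l.1 h, fun l h => h3 l.1 h, fun l h => h4 l.1 h⟩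

theorem card_fixP (H : Subgroup (Coll P L)) (hq : HasQuad L (fixSet H)) :
    letI := fixPlane H hq
    Nat.card (FixP H) = ord (FixP H) (FixL H) ^ 2 + ord (FixP H) (FixL H) + 1 := by
  letI := fixPlane H hq
  exact card_points

/-- A nontrivial group fixes a proper subplane. -/
theorem ord_fix_lt (H : Subgroup (Coll P L)) (hq : HasQuad L (fixSet H)) (hH : H ≠ ⊥) :
    letI := fixPlane H hq
    ord (FixP H) (FixL H) < ord P L := by
  letI := fixPlane H hq
  by_contra hge
  push Not at hge
  have h1 : Nat.card (FixP H) < Nat.card P := by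
    obtain ⟨g, hg, hg1⟩ := (Subgroup.bot_or_exists_ne_one H).resolve_left hH
    obtain ⟨p, hp⟩ := exists_moved hg1
    have : Fintype P := Fintype.ofFinite P
    classical
    rw [Nat.card_eq_fintype_card, Nat.card_eq_fintype_card]
    exact Fintype.card_subtype_lt (p := fun q : P => ∀ h ∈ H, h • q = q) (x := p)
      (fun h => hp (h g hg))
  rw [card_points (L := L), card_points (L := FixL H)] at h1
  nlinarith

theorem ord_eq_of_card_eq {P' L' : Type*} [Membership P' L'] [ProjectivePlane P' L'] [Finite P']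
    [Finite L'] (h : Nat.card P = Nat.card P') : ord P L = ord P' L' := by
  rw [card_points (L := L), card_points (L := L')] at h
  nlinarith [Nat.zero_le (ord P L), Nat.zero_le (ord P' L')]

end Cfsg.Lib.Plane
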