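import Mathlib

/-!
# Automorphisms of finite fields: selectors, Hilbert 90, norms, twisted fixed vectors
-/

set_option autoImplicit false
set_option linter.unusedSectionVars false
set_option linter.style.haveILetI false

namespace Cfsg.Lib.Plane

open Polynomial Finset

variable {K : Type*} [Field K]

/-- The product of the first `j` conjugates of `u` under `σ`. -/
def normPow (σ : RingAut K) (j : ℕ) (u : K) : K := ∏ i ∈ range j, (σ ^ i) u

theorem normPow_zero (σ : RingAut K) (u : K) : normPow σ 0 u = 1 := by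
  simp [normPow]

theorem normPow_succ (σ : RingAut K) (j : ℕ) (u : K) :
    normPow σ (j + 1) u = u * σ (normPow σ j u) := by
  unfold normPow
  rw [prod_range_succ', map_prod, mul_comm]
  congr 1
  exact prod_congr rfl fun i _ => by rw [pow_succ']; rfl

theorem normPow_succ_right (σ : RingAut K) (j : ℕ) (u : K) :
    normPow σ (j + 1) u = normPow σ j u * (σ ^ j) u := by
  unfold normPow
  rw [prod_range_succ]

theorem normPow_mul (σ : RingAut K) (j : ℕ) (u v : K) :
    normPow σ j (u * v) = normPow σ j u * normPow σ j v := by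
  unfold normPow
  rw [← prod_mul_distrib]
  exact prod_congr rfl fun i _ => map_mul _ _ _

theorem normPow_ne_zero (σ : RingAut K) (j : ℕ) {u : K} (hu : u ≠ 0) :
    normPow σ j u ≠ 0 :=
  prod_ne_zero_iff.mpr fun i _ => fun h => hu ((map_eq_zero_iff _ (σ ^ i).injective).mp h)

theorem normPow_fixed (σ : RingAut K) (k : ℕ) (hk : σ ^ k = 1) (u : K) :
    σ (normPow σ k u) = normPow σ k u := by
  by_cases hu : u = 0
  · subst hu
    rcases Nat.eq_zero_or_pos k with rfl | hpos
    · simp [normPow_zero]
    · have : normPow σ k (0 : K) = 0 :=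
        prod_eq_zero (mem_range.mpr hpos) (map_zero _)
      rw [this, map_zero]
  · have h1 := normPow_succ σ k u
    rw [normPow_succ_right, hk] at h1
    have h2 : u * normPow σ k u = u * σ (normPow σ k u) := by
      rw [← h1, mul_comm]
      rfl
    exact (mul_left_cancel₀ hu h2).symm

variable [Finite K]

instance finite_ringAut : Finite (RingAut K) :=
  Finite.of_injective (fun σ : RingAut K => (σ : K → K)) DFunLike.coe_injective

theorem exists_gen : ∃ g : K, g ≠ 0 ∧ ∀ a : K, a ≠ 0 → ∃ m : ℕ, g ^ m = a := by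
  classical
  obtain ⟨g, hg⟩ := IsCyclic.exists_monoid_generator (α := Kˣ)
  refine ⟨g, g.ne_zero, fun a ha => ?_⟩
  obtain ⟨m, hm⟩ := hg (Units.mk0 a ha)
  exact ⟨m, by simpa using congrArg (fun x : Kˣ => (x : K)) hm⟩

theorem aut_ext_gen {g : K} (hg : ∀ a : K, a ≠ 0 → ∃ m : ℕ, g ^ m = a)
    {σ τ : RingAut K} (h : σ g = τ g) : σ = τ := by
  apply RingEquiv.ext
  intro a
  by_cases ha : a = 0
  · simp [ha]
  · obtain ⟨m, rfl⟩ := hg a ha
    rw [map_pow, map_pow, h]

open scoped Classical in
theorem exists_selector {g : K} (hg : ∀ a : K, a ≠ 0 → ∃ m : ℕ, g ^ m = a) (σ : RingAut K) :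
    ∃ P : K[X], ∀ τ : RingAut K, P.eval (τ g) = if τ = σ then 1 else 0 := by
  classical
  letI := Fintype.ofFinite (RingAut K)
  let v : RingAut K → K := fun τ => τ g
  have hv : Set.InjOn v (univ : Finset (RingAut K)) := fun a _ b _ h => aut_ext_gen hg h
  refine ⟨Lagrange.basis univ v σ, fun τ => ?_⟩
  split
  next h => subst h; exact Lagrange.eval_basis_self hv (mem_univ _)
  next h => exact Lagrange.eval_basis_of_ne (v := v) (Ne.symm h) (mem_univ _)

/-- Independence of automorphisms, with coefficients in a module. -/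
theorem dedekind_vec {W : Type*} [AddCommGroup W] (ρ : K →+* AddMonoid.End W)
    {ι : Type*} (s : Finset ι) (χ : ι → RingAut K) (hχ : Set.InjOn χ s) (x : ι → W)
    (h : ∀ a : K, ∑ j ∈ s, ρ (χ j a) (x j) = 0) : ∀ i ∈ s, x i = 0 := by
  classical
  intro i hi
  obtain ⟨g, _, hg⟩ := exists_gen (K := K)
  obtain ⟨P, hP⟩ := exists_selector hg (χ i)
  have h2 : ∑ m ∈ range (P.natDegree + 1),
      ρ (P.coeff m) (∑ j ∈ s, ρ (χ j (g ^ m)) (x j)) = 0 := by
    refine sum_eq_zero fun m _ => ?_
    rw [h, map_zero]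
  simp only [map_sum] at h2
  rw [sum_comm] at h2
  have h3 : ∀ j ∈ s, ∑ m ∈ range (P.natDegree + 1),
      ρ (P.coeff m) (ρ (χ j (g ^ m)) (x j)) = ρ (P.eval (χ j g)) (x j) := by
    intro j _
    rw [eval_eq_sum_range, map_sum]
    refine Eq.trans ?_ (AddMonoidHom.finsetSum_apply
      (fun m => (show W →+ W from ρ (P.coeff m * (χ j g) ^ m))) _ (x j)).symm
    refine sum_congr rfl fun m _ => ?_
    rw [map_mul, map_pow (χ j)]
    rfl
  rw [sum_congr rfl h3, sum_eq_single i] at h2
  · rw [hP, if_pos rfl, map_one] at h2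
    exact h2
  · intro j hj hji
    rw [hP, if_neg (fun e => hji (hχ hj hi e)), map_zero]
    rfl
  · exact fun h' => absurd hi h'

theorem orderOf_aut_pos (σ : RingAut K) : 0 < orderOf σ := orderOf_pos σ

theorem injOn_pow (σ : RingAut K) :
    Set.InjOn (fun j => σ ^ j) (range (orderOf σ) : Finset ℕ) := by
  intro a ha b hb h
  exact pow_injOn_Iio_orderOf (by simpa using ha) (by simpa using hb) h

/-- Hilbert 90. -/
theorem hilbert90 (σ : RingAut K) {u : K} (hu : normPow σ (orderOf σ) u = 1) :
    ∃ t : K, t ≠ 0 ∧ σ t * u = t := by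
  classical
  by_contra hno
  push Not at hno
  have key : ∀ a : K, ∑ j ∈ range (orderOf σ), (σ ^ j) a * normPow σ j u = 0 := by
    intro a
    by_contra hne
    apply hno _ hne
    rw [map_sum, sum_mul]
    have e : ∀ j ∈ range (orderOf σ), σ ((σ ^ j) a * normPow σ j u) * u
        = (σ ^ (j + 1)) a * normPow σ (j + 1) u := by
      intro j _
      rw [map_mul, normPow_succ, pow_succ']
      change σ ((σ ^ j) a) * σ (normPow σ j u) * u = σ ((σ ^ j) a) * (u * σ (normPow σ j u))
      ring
    rw [sum_congr rfl e]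
    have h1 := sum_range_succ' (fun j => (σ ^ j) a * normPow σ j u) (orderOf σ)
    have h2 := sum_range_succ (fun j => (σ ^ j) a * normPow σ j u) (orderOf σ)
    simp only [hu, pow_orderOf_eq_one, pow_zero, normPow_zero] at h1 h2
    rw [h2] at h1
    exact (add_right_cancel h1).symm
  have h0 := dedekind_vec (Module.toAddMonoidEnd K K) (range (orderOf σ)) (fun j => σ ^ j)
    (injOn_pow σ) (fun j => normPow σ j u) (fun a => key a) 0
    (mem_range.mpr (orderOf_aut_pos σ))
  simp [normPow_zero] at h0

/-- The norm maps onto the fixed field. -/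
theorem normPow_surjective (σ : RingAut K) {r : K} (hr : σ r = r) (hr0 : r ≠ 0) :
    ∃ w : K, w ≠ 0 ∧ normPow σ (orderOf σ) w = r := by
  classical
  let ν : Kˣ →* Kˣ :=
    { toFun := fun t => Units.mk0 (normPow σ (orderOf σ) t) (normPow_ne_zero σ _ t.ne_zero)
      map_one' := Units.ext (by simp [normPow])
      map_mul' := fun a b => Units.ext (by simp [normPow_mul]) }
  let θ : Kˣ →* Kˣ :=
    { toFun := fun t => t / Units.map (σ : K →* K) t
      map_one' := by simp
      map_mul' := fun a b => by rw [map_mul, mul_div_mul_comm] }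
  let F : Subgroup Kˣ := θ.ker
  have memF : ∀ t : Kˣ, t ∈ F ↔ σ (t : K) = t := by
    intro t
    constructor
    · intro h
      have h' : t = Units.map (σ : K →* K) t := div_eq_one.mp h
      exact (congrArg Units.val h').symm
    · intro h
      exact div_eq_one.mpr (Units.ext h.symm)
  have h1 : ν.ker ≤ θ.range := by
    intro t ht
    have ht' : normPow σ (orderOf σ) (t : K) = 1 := congrArg Units.val ht
    obtain ⟨s, hs0, hs⟩ := hilbert90 σ ht'
    refine ⟨Units.mk0 s hs0, ?_⟩
    apply div_eq_iff_eq_mul.mpr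
    refine Units.ext ?_
    change s = (t : K) * σ s
    rw [mul_comm, hs]
  have h2 : ν.range ≤ F := by
    rintro _ ⟨t, rfl⟩
    exact (memF _).mpr (normPow_fixed σ _ (pow_orderOf_eq_one σ) _)
  have h3 : Nat.card θ.range * Nat.card F = Nat.card Kˣ := by
    rw [← Subgroup.index_ker θ]
    exact Subgroup.index_mul_card _
  have h4 : Nat.card ν.range * Nat.card ν.ker = Nat.card Kˣ := by
    rw [← Subgroup.index_ker ν]
    exact Subgroup.index_mul_card _
  have h5 : Nat.card F ≤ Nat.card ν.range := by
    have hle : Nat.card ν.ker ≤ Nat.card θ.range := Subgroup.card_le_of_le h1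
    have hpos : 0 < Nat.card θ.range := Nat.card_pos
    nlinarith [Nat.card_pos (α := ν.range)]
  have h6 : ν.range = F := Subgroup.eq_of_le_of_card_ge h2 h5
  have hrF : Units.mk0 r hr0 ∈ F := (memF _).mpr hr
  rw [← h6] at hrF
  obtain ⟨w, hw⟩ := hrF
  exact ⟨w, w.ne_zero, congrArg Units.val hw⟩

/-- A twisted operator of finite order has a fixed vector on any invariant subgroup. -/
theorem exists_fixed_vector {W : Type*} [AddCommGroup W] (ρ : K →+* AddMonoid.End W)
    (σ : RingAut K) (T : AddMonoid.End W) (hT : ∀ a, T * ρ a = ρ (σ a) * T)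
    (W' : AddSubgroup W) (hρ : ∀ a, ∀ v ∈ W', ρ a v ∈ W') (hTW : ∀ v ∈ W', T v ∈ W')
    (hTk : ∀ v ∈ W', (T ^ orderOf σ) v = v) (hne : W' ≠ ⊥) :
    ∃ v ∈ W', v ≠ 0 ∧ T v = v := by
  classical
  by_contra hno
  push Not at hno
  obtain ⟨v₀, hv₀, hv₀0⟩ := W'.bot_or_exists_ne_zero.resolve_left hne
  have hpow : ∀ j, ∀ v ∈ W', (T ^ j) v ∈ W' := by
    intro j
    induction j with
    | zero => intro v hv; simpa using hv
    | succ j ih => intro v hv; rw [pow_succ']; exact hTW _ (ih v hv)
  have hsum : ∀ v ∈ W', ∑ j ∈ range (orderOf σ), (T ^ j) v = 0 := by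
    intro v hv
    by_contra hne'
    apply hno _ (sum_mem fun j _ => hpow j v hv) hne'
    rw [map_sum]
    have h1 := sum_range_succ' (fun j => (T ^ j) v) (orderOf σ)
    have h2 := sum_range_succ (fun j => (T ^ j) v) (orderOf σ)
    rw [h2, hTk v hv] at h1
    have e : ∀ j, T ((T ^ j) v) = (T ^ (j + 1)) v := fun j => by rw [pow_succ']; rfl
    simp only [e]
    simpa using h1.symm
  have hcomm : ∀ j a, T ^ j * ρ a = ρ ((σ ^ j) a) * T ^ j := by
    intro j
    induction j with
    | zero => intro a; simp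
    | succ j ih =>
      intro a
      rw [pow_succ', mul_assoc, ih, ← mul_assoc, hT, mul_assoc, ← pow_succ', pow_succ' σ]
      rfl
  have := dedekind_vec ρ (range (orderOf σ)) (fun j => σ ^ j) (injOn_pow σ) (fun j => (T ^ j) v₀)
    (fun a => by
      have := hsum (ρ a v₀) (hρ a v₀ hv₀)
      rw [← this]
      refine sum_congr rfl fun j _ => ?_
      exact (DFunLike.congr_fun (hcomm j a) v₀).symm) 0 (mem_range.mpr (orderOf_aut_pos σ))
  exact hv₀0 (by simpa using this)

theorem exists_natCast_of_pow_eq (p : ℕ) [Fact p.Prime] [CharP K p] {c : K} (h : c ^ p = c) :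
    ∃ m : ℕ, (m : K) = c := by
  classical
  letI := Fintype.ofFinite K
  have hp := (Fact.out : p.Prime).one_lt
  let f : K[X] := X ^ p - X
  have hdeg : f.natDegree = p := FiniteField.X_pow_card_sub_X_natDegree_eq K hp
  have hf : f ≠ 0 := FiniteField.X_pow_card_sub_X_ne_zero K hp
  let S : Finset K := (range p).image (fun m : ℕ => (m : K))
  have hS : S.card = p := by
    rw [card_image_of_injOn, card_range]
    intro a ha b hb hab
    simp only [coe_range, Set.mem_Iio] at ha hb
    have := (CharP.natCast_eq_natCast K p).mp hab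
    rwa [Nat.ModEq, Nat.mod_eq_of_lt ha, Nat.mod_eq_of_lt hb] at this
  have hsub : S ⊆ f.roots.toFinset := by
    intro x hx
    obtain ⟨m, _, rfl⟩ := mem_image.mp hx
    rw [Multiset.mem_toFinset, mem_roots hf]
    have : ((m : K)) ^ p = m := map_natCast (frobenius K p) m
    simp [f, IsRoot, this]
  have hcard : f.roots.toFinset.card ≤ p :=
    (Multiset.toFinset_card_le _).trans ((card_roots' f).trans hdeg.le)
  have heq : S = f.roots.toFinset := eq_of_subset_of_card_le hsub (by omega)
  have hc : c ∈ S := by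
    rw [heq, Multiset.mem_toFinset, mem_roots hf]
    simp [f, IsRoot, h]
  obtain ⟨m, _, hm⟩ := mem_image.mp hc
  exact ⟨m, hm⟩

theorem coeff_natCast_of_invariant {Q : K[X]}
    (hQ : ∀ τ : RingAut K, Q.map (τ : K →+* K) = Q) (i : ℕ) : ∃ m : ℕ, (m : K) = Q.coeff i := by
  obtain ⟨p, hp⟩ := CharP.exists K
  haveI : Fact p.Prime := ⟨CharP.char_is_prime K p⟩
  let τ : RingAut K := RingEquiv.ofBijective (frobenius K p)
    ⟨(frobenius K p).injective, Finite.surjective_of_injective (frobenius K p).injective⟩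
  have := congrArg (fun q => q.coeff i) (hQ τ)
  simp only [coeff_map] at this
  apply exists_natCast_of_pow_eq p
  exact this

/-- The product over all conjugates of `X - x`. -/
noncomputable def orbitPoly (x : K) : K[X] :=
  haveI := Fintype.ofFinite (RingAut K)
  ∏ τ : RingAut K, (X - C (τ x))

theorem orbitPoly_map (x : K) (μ : RingAut K) :
    (orbitPoly x).map (μ : K →+* K) = orbitPoly x := by
  classical
  letI := Fintype.ofFinite (RingAut K)
  rw [orbitPoly, Polynomial.map_prod]
  refine Fintype.prod_equiv (Equiv.mulLeft μ) _ _ fun τ => ?_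
  rw [Polynomial.map_sub, Polynomial.map_X, Polynomial.map_C]
  rfl

theorem orbitPoly_eval_self (x : K) : (orbitPoly x).eval x = 0 := by
  classical
  letI := Fintype.ofFinite (RingAut K)
  rw [orbitPoly, eval_prod]
  exact prod_eq_zero (mem_univ 1) (by simp)

theorem orbitPoly_eval_ne (x y : K) (h : ∀ τ : RingAut K, y ≠ τ x) :
    (orbitPoly x).eval y ≠ 0 := by
  classical
  letI := Fintype.ofFinite (RingAut K)
  rw [orbitPoly, eval_prod]
  exact prod_ne_zero_iff.mpr fun τ _ => by
    rw [eval_sub, eval_X, eval_C, sub_ne_zero]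
    exact h τ

/-- Two products of a pair of automorphisms agree only when the pairs agree. -/
theorem pair_eq {g : K} (hg : ∀ a : K, a ≠ 0 → ∃ m : ℕ, g ^ m = a)
    {σ τ ρ : RingAut K} (hσ : σ ≠ 1) (h : g * σ g = τ g * ρ g) :
    (τ = 1 ∧ ρ = σ) ∨ (ρ = 1 ∧ τ = σ) := by
  classical
  have hall : ∀ a : K, a * σ a = τ a * ρ a := by
    intro a
    by_cases ha : a = 0
    · simp [ha]
    · obtain ⟨m, rfl⟩ := hg a ha
      rw [map_pow, map_pow, map_pow, ← mul_pow, ← mul_pow, h]
  have key : ∀ b, σ b = (if ρ = 1 then τ b else 0) + (if τ = 1 then ρ b else 0) := by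
    intro b
    obtain ⟨P, hP⟩ := exists_selector hg (1 : RingAut K)
    have hpol : ∀ a, σ b * a + b * σ a = τ b * ρ a + ρ b * τ a := by
      intro a
      have h1 := hall (a + b)
      simp only [map_add] at h1
      linear_combination h1 - hall a - hall b
    have hs : ∑ m ∈ range (P.natDegree + 1),
        P.coeff m * (σ b * g ^ m + b * σ (g ^ m)) =
        ∑ m ∈ range (P.natDegree + 1), P.coeff m * (τ b * ρ (g ^ m) + ρ b * τ (g ^ m)) :=
      sum_congr rfl fun m _ => by rw [hpol]
    have ev : ∀ μ : RingAut K, ∀ c : K, ∑ m ∈ range (P.natDegree + 1),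
        P.coeff m * (c * μ (g ^ m)) = if μ = 1 then c else 0 := by
      intro μ c
      have : ∑ m ∈ range (P.natDegree + 1), P.coeff m * (c * μ (g ^ m)) = c * P.eval (μ g) := by
        rw [eval_eq_sum_range, mul_sum]
        exact sum_congr rfl fun m _ => by rw [map_pow]; ring
      rw [this, hP]
      split <;> simp
    simp only [mul_add, sum_add_distrib] at hs
    have e1 := ev 1 (σ b)
    rw [if_pos rfl] at e1
    simp only [RingAut.one_apply] at e1
    rw [e1, ev σ b, if_neg hσ, add_zero, ev ρ, ev τ] at hs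
    exact hs
  by_cases hρ : ρ = 1
  · by_cases hτ : τ = 1
    · exfalso
      have := key 1
      simp [hρ, hτ] at this
    · refine Or.inr ⟨hρ, RingEquiv.ext fun b => ?_⟩
      have := key b
      simp [hρ, hτ] at this
      exact this.symm
  · by_cases hτ : τ = 1
    · refine Or.inl ⟨hτ, RingEquiv.ext fun b => ?_⟩
      have := key b
      simp [hρ, hτ] at this
      exact this.symm
    · exfalso
      have := key 1
      simp [hρ, hτ] at this

end Cfsg.Lib.Plane
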