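import Cfsg.Agent.Lib.Plane.Perspectivity

/-!
# Planes of odd order with a rich group of involutory homologies have prime power order
-/

set_option autoImplicit false
set_option linter.unusedSectionVars false
set_option linter.style.haveILetI false

namespace Cfsg.Lib.Plane

open Configuration MulAction

/-- An involutive map has as many fixed points as elements, modulo two. -/
theorem card_fixed_involutive_mod_two {α : Type*} [Finite α] (f : α → α)
    (hf : Function.Involutive f) : Nat.card {x // f x = x} % 2 = Nat.card α % 2 := by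
  classical
  haveI := Fintype.ofFinite α
  have hσ : (hf.toPerm f) ^ 2 ^ 1 = 1 := Equiv.ext fun x => by
    rw [pow_one, pow_two]; exact hf x
  have h := Equiv.Perm.card_compl_support_modEq (p := 2) (n := 1) hσ
  rw [Nat.card_eq_fintype_card, Nat.card_eq_fintype_card, Fintype.card_subtype]
  refine (congrArg (· % 2) (congrArg Finset.card ?_)).trans h
  ext x
  simp [Equiv.Perm.mem_support]

theorem exists_fixed_of_odd {α : Type*} [Finite α] (f : α → α) (hf : Function.Involutive f)
    (h : Odd (Nat.card α)) : ∃ x, f x = x := by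
  by_contra hno
  have h0 : Nat.card {x // f x = x} = 0 := by
    haveI : IsEmpty {x // f x = x} := ⟨fun x => hno ⟨x.1, x.2⟩⟩
    exact Nat.card_of_isEmpty
  have := card_fixed_involutive_mod_two f hf
  rw [h0, Nat.odd_iff.mp h] at this
  simp at this

/-- A finite group of even order has an odd number of involutions. -/
theorem odd_card_involutions {K : Type*} [Group K] [Finite K] (h : Even (Nat.card K)) :
    Odd (Nat.card {g : K // g * g = 1 ∧ g ≠ 1}) := by
  classical
  have h1 := card_subtype_add_not (fun g : K => g = 1)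
  rw [Nat.card_unique] at h1
  have h2 := card_fixed_involutive_mod_two (fun g : {g : K // ¬g = 1} => (⟨g.1⁻¹, by
      simpa using g.2⟩ : {g : K // ¬g = 1})) (fun g => Subtype.ext (inv_inv g.1))
  have e : Nat.card {g : {g : K // ¬g = 1} //
      (⟨g.1⁻¹, by simpa using g.2⟩ : {g : K // ¬g = 1}) = g} =
      Nat.card {g : K // g * g = 1 ∧ g ≠ 1} :=
    Nat.card_congr
      { toFun := fun g => ⟨g.1.1, inv_eq_iff_mul_eq_one.mp (congrArg Subtype.val g.2), g.1.2⟩
        invFun := fun g => ⟨⟨g.1, g.2.2⟩, Subtype.ext (inv_eq_iff_mul_eq_one.mpr g.2.1)⟩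
        left_inv := fun _ => rfl
        right_inv := fun _ => rfl }
  rw [e] at h2
  rw [Nat.odd_iff]
  rw [Nat.even_iff] at h
  omega

theorem exists_sq_root_zpowers {K : Type*} [Group K] {t : K} (h : Odd (orderOf t)) :
    ∃ s ∈ Subgroup.zpowers t, s * s = t := by
  obtain ⟨j, hj⟩ := h
  refine ⟨t ^ (j + 1), Subgroup.npow_mem_zpowers t _, ?_⟩
  rw [← pow_add, show (j + 1) + (j + 1) = orderOf t + 1 by omega, pow_succ, pow_orderOf_eq_one,
    one_mul]

variable {P L : Type*} [Membership P L]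

/-- `g` is an involution in `H` with centre `c` and axis `l`. -/
structure Refl (H : Subgroup (Coll P L)) (g : Coll P L) (c : P) (l : L) : Prop where
  mem : g ∈ H
  sq : g * g = 1
  ne_one : g ≠ 1
  axis : Axis g l
  centre : Centre g c

/-- The hypotheses of the homology lemma. -/
structure ReflRich (H : Subgroup (Coll P L)) [ProjectivePlane P L] [Finite P] [Finite L] : Prop where
  odd : Odd (ord P L)
  axis : ∀ g ∈ H, g * g = 1 → g ≠ 1 → ∃ l : L, Axis g l
  pts : ∀ ⦃a b : P⦄, a ≠ b → ∃ g ∈ H, g * g = 1 ∧ g ≠ 1 ∧ g • a = a ∧ g • b = b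
  lines : ∀ ⦃l m : L⦄, l ≠ m → ∃ g ∈ H, g * g = 1 ∧ g ≠ 1 ∧ g • l = l ∧ g • m = m

variable [ProjectivePlane P L] [Finite P] [Finite L]

/-- A nontrivial collineation has at most one axis. -/
theorem axis_unique {g : Coll P L} {l m : L} (hl : Axis g l) (hm : Axis g m) (hg : g ≠ 1) :
    l = m := by
  obtain ⟨c, hc⟩ := exists_centre hl hg
  obtain ⟨a, ha, hac, -⟩ := exists_mem_ne_ne m c c
  obtain ⟨b, hb, hbc, hba⟩ := exists_mem_ne_ne m c a
  exact line_unique hba ((fixed_point_cases hl hc hg (hm b hb)).resolve_left hbc)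
    ((fixed_point_cases hl hc hg (hm a ha)).resolve_left hac) hb ha

theorem exists_axis {g : Coll P L} {c : P} (hg : Centre g c) (hg1 : g ≠ 1) :
    ∃ l : L, Axis g l := by
  have h1 : dualEquiv (P := P) (L := L) g ≠ 1 := fun e => hg1 (by
    rw [← map_one (dualEquiv (P := P) (L := L))] at e
    exact (dualEquiv (P := P) (L := L)).injective e)
  obtain ⟨l, hl⟩ := exists_centre (P := Dual L) (L := Dual P) (g := dualEquiv g) (l := c) hg h1
  exact ⟨l, hl⟩

/-- Elations with a common centre and different axes commute. -/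
theorem centre_commute {g h : Coll P L} {c : P} {l m : L} (hlm : l ≠ m) (hcl : c ∈ l)
    (hcm : c ∈ m) (hgl : Axis g l) (hgc : Centre g c) (hhm : Axis h m) (hhc : Centre h c) :
    Commute g h := by
  set k := g * h * g⁻¹ * h⁻¹ with hk
  have h1 : Axis k l := by
    have h1 := hgl.inv.conj h
    rw [hhc l hcl] at h1
    have h2 := hgl.mul h1
    have e : g * (h * g⁻¹ * h⁻¹) = k := by rw [hk]; group
    rwa [e] at h2
  have h2 : Axis k m := by
    have h1 := hhm.conj g
    rw [hgc m hcm] at h1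
    exact h1.mul hhm.inv
  have hk1 : k = 1 := by
    by_contra hne
    exact hlm (axis_unique h1 h2 hne)
  change g * h = h * g
  calc g * h = k * (h * g) := by rw [hk]; group
    _ = h * g := by rw [hk1, one_mul]

namespace Refl

variable {H : Subgroup (Coll P L)} {g : Coll P L} {c : P} {l : L}

theorem inv_eq (h : Refl H g c l) : g⁻¹ = g := inv_eq_of_mul_eq_one_right h.sq

theorem notMem (h : Refl H g c l) (hodd : Odd (ord P L)) : c ∉ l := by
  intro hc
  have hmem : g ∈ elat H l := ⟨h.mem, isElation_of_centre h.axis h.centre hc⟩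
  have h2 : orderOf (⟨g, hmem⟩ : elat H l) = 2 :=
    orderOf_eq_prime (by rw [pow_two]; exact Subtype.ext h.sq)
      fun e => h.ne_one (congrArg Subtype.val e)
  have h3 : 2 ∣ ord P L ^ 2 := by
    have h4 := (orderOf_dvd_natCard (⟨g, hmem⟩ : elat H l)).trans (card_elat_dvd H l)
    rwa [h2] at h4
  exact (Nat.not_even_iff_odd.mpr hodd) (even_iff_two_dvd.mpr (Nat.prime_two.dvd_of_dvd_pow h3))

theorem conj (h : Refl H g c l) {x : Coll P L} (hx : x ∈ H) :
    Refl H (x * g * x⁻¹) (x • c) (x • l) :=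
  ⟨mul_mem (mul_mem hx h.mem) (inv_mem hx),
    by rw [show x * g * x⁻¹ * (x * g * x⁻¹) = x * (g * g) * x⁻¹ by group, h.sq, mul_one,
      mul_inv_cancel],
    fun e => h.ne_one (conj_eq_one_iff.mp e), h.axis.conj x, h.centre.conj x⟩

theorem line_eq (h : Refl H g c l) {c' : P} {l' : L} (h' : Refl H g c' l') : l = l' :=
  axis_unique h.axis h'.axis h.ne_one

theorem point_eq (h : Refl H g c l) {c' : P} {l' : L} (h' : Refl H g c' l') : c = c' :=
  centre_unique h.axis h.centre h'.centre h.ne_one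

theorem dual (h : Refl H g c l) :
    Refl (P := Dual L) (L := Dual P) (H.map (dualEquiv (P := P) (L := L)).toMonoidHom)
      (dualEquiv g) l c :=
  ⟨Subgroup.mem_map_of_mem _ h.mem, by rw [← map_mul, h.sq, map_one],
    fun e => h.ne_one ((map_eq_one_iff _ (dualEquiv (P := P) (L := L)).injective).mp e),
    h.centre, h.axis⟩

theorem exists_of_dual {x : Coll (Dual L) (Dual P)} {l : L} {c : P}
    (h : Refl (P := Dual L) (L := Dual P) (H.map (dualEquiv (P := P) (L := L)).toMonoidHom)
      x l c) :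
    ∃ g, dualEquiv g = x ∧ Refl H g c l := by
  obtain ⟨g, hg, rfl⟩ := Subgroup.mem_map.mp h.mem
  refine ⟨g, rfl, hg, ?_, fun e => h.ne_one ((congrArg _ e).trans (map_one _)), h.centre, h.axis⟩
  apply (dualEquiv (P := P) (L := L)).injective
  rw [map_mul, map_one]
  exact h.sq

theorem elat_mul {g' : Coll P L} {c' : P} (h : Refl H g c l) (h' : Refl H g' c' l)
    (hne : c ≠ c') : g * g' ∈ elat H l := by
  refine ⟨mul_mem h.mem h'.mem, h.axis.mul h'.axis, fun x hx hfix => ?_⟩
  have h1 : g' • x = g • x := by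
    rw [mul_smul] at hfix
    conv_rhs => rw [← hfix]
    rw [← mul_smul, h.sq, one_smul]
  set y := g • x with hy
  by_cases hxy : y = x
  · exfalso
    have hc := (fixed_point_cases h.axis h.centre h.ne_one hxy).resolve_right hx
    have hc' := (fixed_point_cases h'.axis h'.centre h'.ne_one (h1.trans hxy)).resolve_right hx
    exact hne (hc.symm.trans hc')
  have hyl : y ∉ l := fun h' => smul_notMem g hx
    (mem_of_eq_ln h' (axis_fixed_line h.axis).symm)
  refine axis_eq_one (h.axis.mul h'.axis) hx hyl (Ne.symm hxy) hfix ?_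
  have e1 : g' • y = x := by rw [← h1, ← mul_smul, h'.sq, one_smul]
  rw [mul_smul, e1]

end Refl

/-- The centres of the involutions with axis `l`. -/
abbrev CentreSet (H : Subgroup (Coll P L)) (l : L) : Type _ := {c : P // ∃ g, Refl H g c l}

namespace ReflRich

variable {H : Subgroup (Coll P L)}

theorem exists_refl (hR : ReflRich H) {g : Coll P L} (hg : g ∈ H) (h2 : g * g = 1) (h1 : g ≠ 1) :
    ∃ c l, Refl H g c l := by
  obtain ⟨l, hl⟩ := hR.axis g hg h2 h1
  obtain ⟨c, hc⟩ := exists_centre hl h1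
  exact ⟨c, l, hg, h2, h1, hl, hc⟩

theorem dual (hR : ReflRich H) :
    ReflRich (P := Dual L) (L := Dual P) (H.map (dualEquiv (P := P) (L := L)).toMonoidHom) where
  odd := by
    have : ord (Dual L) (Dual P) = ord P L := ProjectivePlane.Dual.order P L
    rw [this]; exact hR.odd
  axis := by
    intro x hx h2 h1
    obtain ⟨g, hg, rfl⟩ := Subgroup.mem_map.mp hx
    have h2' : g * g = 1 := (dualEquiv (P := P) (L := L)).injective (by
      rw [map_mul, map_one]; exact h2)
    obtain ⟨c, l, h⟩ := hR.exists_refl hg h2' fun e => h1 ((congrArg _ e).trans (map_one _))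
    exact ⟨c, h.centre⟩
  pts := by
    intro a b hab
    obtain ⟨g, hg, h2, h1, ha, hb⟩ := hR.lines (l := a) (m := b) hab
    exact ⟨dualEquiv g, Subgroup.mem_map_of_mem _ hg, by rw [← map_mul, h2, map_one],
      fun e => h1 ((map_eq_one_iff _ (dualEquiv (P := P) (L := L)).injective).mp e), ha, hb⟩
  lines := by
    intro a b hab
    obtain ⟨g, hg, h2, h1, ha, hb⟩ := hR.pts (a := a) (b := b) hab
    exact ⟨dualEquiv g, Subgroup.mem_map_of_mem _ hg, by rw [← map_mul, h2, map_one],
      fun e => h1 ((map_eq_one_iff _ (dualEquiv (P := P) (L := L)).injective).mp e), ha, hb⟩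

theorem odd_elat (hR : ReflRich H) (l : L) : Odd (Nat.card (elat H l)) :=
  Odd.of_dvd_nat (hR.odd.pow (n := 2)) (card_elat_dvd H l)

theorem centres_eq_orbit (hR : ReflRich H) {g g' : Coll P L} {c c' : P} {l : L}
    (h : Refl H g c l) (h' : Refl H g' c' l) : ∃ s ∈ elat H l, s • c = c' := by
  by_cases hne : c = c'
  · exact ⟨1, one_mem _, (one_smul _ c).trans hne⟩
  set t := g * g' with ht
  have htE := h.elat_mul h' hne
  have hodd : Odd (orderOf t) := by
    have := orderOf_dvd_natCard (⟨t, htE⟩ : elat H l)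
    rw [Subgroup.orderOf_mk] at this
    exact (hR.odd_elat l).of_dvd_nat this
  obtain ⟨s, hs, hss⟩ := exists_sq_root_zpowers hodd
  have hsE : s ∈ elat H l := Subgroup.zpowers_le.mpr htE hs
  refine ⟨s⁻¹, inv_mem hsE, ?_⟩
  have hinv : g * s * g⁻¹ = s⁻¹ := by
    obtain ⟨m, rfl⟩ := Subgroup.mem_zpowers_iff.mp hs
    rw [← conj_zpow, ← inv_zpow]
    congr 1
    rw [ht, h.inv_eq, mul_inv_rev, h.inv_eq, h'.inv_eq, ← mul_assoc, h.sq, one_mul]
  have e : g' = s⁻¹ * g * s⁻¹⁻¹ := by
    calc g' = g * (s * s) := by rw [hss, ht, ← mul_assoc, h.sq, one_mul]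
      _ = g * s * g⁻¹ * g * s := by group
      _ = s⁻¹ * g * s⁻¹⁻¹ := by rw [hinv, inv_inv]
  have h1 := h.conj (inv_mem hsE.1)
  rw [← e, axis_fixed_line (inv_mem hsE).2.1] at h1
  exact (h'.point_eq h1).symm

theorem odd_centres (hR : ReflRich H) {g : Coll P L} {c : P} {l : L} (h : Refl H g c l) :
    Odd (Nat.card (CentreSet H l)) := by
  let f : elat H l → CentreSet H l := fun s => ⟨(s : Coll P L) • c, _,
    (axis_fixed_line s.2.2.1) ▸ h.conj s.2.1⟩
  have hf : Function.Bijective f := by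
    refine ⟨fun s t e => ?_, fun x => ?_⟩
    · exact Subtype.ext (elat_eq_of_smul s.2 t.2 (h.notMem hR.odd) (congrArg Subtype.val e))
    · obtain ⟨g', h'⟩ := x.2
      obtain ⟨s, hs, e⟩ := hR.centres_eq_orbit h h'
      exact ⟨⟨s, hs⟩, Subtype.ext e⟩
  rw [← Nat.card_congr (Equiv.ofBijective f hf)]
  exact hR.odd_elat l

/-- Among the axes belonging to a centre `u`, an involution fixing `u` fixes one. -/
theorem exists_fixed_axis (hR : ReflRich H) {k g : Coll P L} {u : P} {m : L}
    (hk : Refl H k u m) (hg : g ∈ H) (hg2 : g * g = 1) (hgu : g • u = u) :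
    ∃ k' M, Refl H k' u M ∧ g • M = M := by
  have hodd := hR.dual.odd_centres hk.dual
  let f : CentreSet (P := Dual L) (L := Dual P)
      (H.map (dualEquiv (P := P) (L := L)).toMonoidHom) u →
      CentreSet (P := Dual L) (L := Dual P)
      (H.map (dualEquiv (P := P) (L := L)).toMonoidHom) u := fun x => ⟨dualEquiv g • x.1, by
    obtain ⟨y, hy⟩ := x.2
    have h1 := hy.conj (x := dualEquiv g) (Subgroup.mem_map_of_mem _ hg)
    have e : dualEquiv g • (show Dual P from u) = (show Dual P from u) := hgu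
    rw [e] at h1
    exact ⟨_, h1⟩⟩
  have hf : Function.Involutive f := fun x => Subtype.ext (by
    change dualEquiv g • dualEquiv g • x.1 = x.1
    rw [← mul_smul, ← map_mul, hg2, map_one, one_smul])
  obtain ⟨x, hx⟩ := exists_fixed_of_odd f hf hodd
  obtain ⟨y, hy⟩ := x.2
  obtain ⟨k', -, hk'⟩ := Refl.exists_of_dual hy
  exact ⟨k', x.1, hk', congrArg Subtype.val hx⟩

/-- Every line is the axis of an involution. -/
theorem exists_refl_axis (hR : ReflRich H) (l : L) : ∃ g c, Refl H g c l := by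
  by_contra hno
  push Not at hno
  have pair : ∀ a b : P, a ∈ l → b ∈ l → a ≠ b → ∃ h c A, Refl H h c A ∧ h • l = l ∧
      (c = a ∧ b ∈ A ∨ c = b ∧ a ∈ A) ∧ h • a = a ∧ h • b = b ∧
      ∀ x : P, x ∈ l → h • x = x → x = a ∨ x = b := by
    intro a b ha hb hab
    obtain ⟨h, hh, h2, h1, hha, hhb⟩ := hR.pts hab
    obtain ⟨c, A, hA⟩ := hR.exists_refl hh h2 h1
    have hcA := hA.notMem hR.odd
    have hAl : A ≠ l := fun e => hno h c (e ▸ hA)
    have hl : h • l = l := by
      rw [← join_eq hab ha hb, smul_join h hab, hha, hhb]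
    have hcase : c = a ∧ b ∈ A ∨ c = b ∧ a ∈ A := by
      rcases fixed_point_cases hA.axis hA.centre h1 hha with e | e <;>
        rcases fixed_point_cases hA.axis hA.centre h1 hhb with e' | e'
      · exact absurd (e.trans e'.symm) hab
      · exact .inl ⟨e.symm, e'⟩
      · exact .inr ⟨e'.symm, e⟩
      · exact absurd (line_unique hab e e' ha hb) hAl
    refine ⟨h, c, A, hA, hl, hcase, hha, hhb, fun x hx hfx => ?_⟩
    rcases fixed_point_cases hA.axis hA.centre h1 hfx with e | e <;>
      rcases hcase with ⟨ec, em⟩ | ⟨ec, em⟩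
    · exact .inl (e.trans ec)
    · exact .inr (e.trans ec)
    · exact .inr (point_unique hAl e em hx hb)
    · exact .inl (point_unique hAl e em hx ha)
  set S := H ⊓ stabilizer (Coll P L) l with hS
  have memS : ∀ {a x : P}, a ∈ l → (∃ k ∈ S, k • a = x) → x ∈ l := by
    rintro a x ha ⟨k, hk, rfl⟩
    exact smul_mem_fix hk.2 ha
  have par : ∀ (h : Coll P L), h ∈ S → h * h = 1 → ∀ a : P,
      Nat.card {x : {x : P // ∃ k ∈ S, k • a = x} // h • x.1 = x.1} % 2 =
        Nat.card {x : P // ∃ k ∈ S, k • a = x} % 2 := by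
    intro h hh h2 a
    let f : {x : P // ∃ k ∈ S, k • a = x} → {x : P // ∃ k ∈ S, k • a = x} := fun x =>
      ⟨h • x.1, by
        obtain ⟨k, hk, e⟩ := x.2
        exact ⟨h * k, mul_mem hh hk, by rw [mul_smul, e]⟩⟩
    rw [← card_fixed_involutive_mod_two f (fun x => Subtype.ext (by
      change h • h • x.1 = x.1
      rw [← mul_smul, h2, one_smul]))]
    exact congrArg (· % 2) (Nat.card_congr (Equiv.subtypeEquivRight fun x =>
      ⟨fun e => Subtype.ext e, fun e => congrArg Subtype.val e⟩))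
  have orbit_single : ∀ a b : P, a ∈ l → b ∈ l → a ≠ b → (¬∃ k ∈ S, k • a = b) →
      ∀ x, (∃ k ∈ S, k • a = x) → x = a := by
    intro a b ha hb hab hdiff x hx
    by_contra hxa
    obtain ⟨h, c, A, hA, hl, -, hha, -, hfix⟩ := pair a b ha hb hab
    obtain ⟨h', c', A', hA', hl', -, hha', hhx', hfix'⟩ := pair a x ha (memS ha hx) (Ne.symm hxa)
    have e1 := par h ⟨hA.mem, hl⟩ hA.sq a
    have e2 := par h' ⟨hA'.mem, hl'⟩ hA'.sq a
    have f1 : Nat.card {y : {x : P // ∃ k ∈ S, k • a = x} // h • y.1 = y.1} = 1 := by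
      rw [Nat.card_eq_one_iff_unique]
      refine ⟨⟨fun y z => ?_⟩, ⟨⟨⟨a, 1, one_mem _, one_smul _ a⟩, hha⟩⟩⟩
      have key : ∀ w : {y : {x : P // ∃ k ∈ S, k • a = x} // h • y.1 = y.1}, w.1.1 = a :=
        fun w => (hfix _ (memS ha w.1.2) w.2).resolve_right fun e => hdiff (e ▸ w.1.2)
      exact Subtype.ext (Subtype.ext ((key y).trans (key z).symm))
    have f2 : Nat.card {y : {x : P // ∃ k ∈ S, k • a = x} // h' • y.1 = y.1} = 2 := by
      rw [Nat.card_eq_two_iff]
      refine ⟨⟨⟨a, 1, one_mem _, one_smul _ a⟩, hha'⟩, ⟨⟨x, hx⟩, hhx'⟩,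
        fun e => hxa (congrArg (fun w : {y : {x : P // ∃ k ∈ S, k • a = x} //
          h' • y.1 = y.1} => w.1.1) e).symm, ?_⟩
      refine Set.eq_univ_of_forall fun w => ?_
      rcases hfix' _ (memS ha w.1.2) w.2 with e | e
      · exact .inl (Subtype.ext (Subtype.ext e))
      · exact .inr (Subtype.ext (Subtype.ext e))
    rw [f1] at e1; rw [f2] at e2
    omega
  have trans : ∀ a b : P, a ∈ l → b ∈ l → ∃ k ∈ S, k • a = b := by
    intro a b ha hb
    by_contra hdiff
    have hab : a ≠ b := fun e => hdiff ⟨1, one_mem _, (one_smul _ a).trans e⟩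
    obtain ⟨x, hx, hxa, hxb⟩ := exists_mem_ne_ne l a b
    have hax : ¬∃ k ∈ S, k • a = x := fun h => hxa (orbit_single a b ha hb hab hdiff x h)
    obtain ⟨h, c, A, hA, hl, -, -, -, hfix⟩ := pair a b ha hb hab
    have hxa' : ¬∃ k ∈ S, k • x = a := fun ⟨k, hk, e⟩ =>
      hax ⟨k⁻¹, inv_mem hk, by rw [← e, inv_smul_smul]⟩
    have := orbit_single x a hx ha hxa hxa' (h • x) ⟨h, ⟨hA.mem, hl⟩, rfl⟩
    rcases hfix x hx this with e | e
    · exact hxa e
    · exact hxb e
  obtain ⟨a₀, ha₀, -, -⟩ := exists_mem_ne_ne l (nonempty_point P L).some (nonempty_point P L).some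
  obtain ⟨b₀, hb₀, hba₀, -⟩ := exists_mem_ne_ne l a₀ a₀
  obtain ⟨h, a, A, hA, hl, hcase, -, -, -⟩ := pair a₀ b₀ ha₀ hb₀ hba₀.symm
  obtain ⟨b, hb, hbA, hal⟩ : ∃ b, b ∈ l ∧ b ∈ A ∧ a ∈ l := by
    rcases hcase with ⟨e, e'⟩ | ⟨e, e'⟩
    · exact ⟨b₀, hb₀, e', e ▸ ha₀⟩
    · exact ⟨a₀, ha₀, e', e ▸ hb₀⟩
  have haA := hA.notMem hR.odd
  have hab : a ≠ b := fun e => haA (e ▸ hbA)
  obtain ⟨k, hk, hkab⟩ := trans a b hal hb
  have hb_centre := hA.conj (x := k) hk.1
  rw [hkab] at hb_centre
  obtain ⟨k', M, hM, hhM⟩ := hR.exists_fixed_axis hb_centre hA.mem hA.sq (hA.axis b hbA)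
  have hbM := hM.notMem hR.odd
  have hMA : M ≠ A := fun e => hbM (e ▸ hbA)
  have haM : a ∈ M := (fixed_line_cases hA.axis hA.centre hA.ne_one hhM).resolve_left hMA
  -- the group of perspectivities with centre `b` and axis `M`
  let K : Subgroup (Coll P L) :=
    { carrier := {x | x ∈ H ∧ Axis x M ∧ Centre x b}
      one_mem' := ⟨one_mem H, axis_one M, centre_one b⟩
      mul_mem' := fun h1 h2 => ⟨mul_mem h1.1 h2.1, h1.2.1.mul h2.2.1, h1.2.2.mul h2.2.2⟩
      inv_mem' := fun h1 => ⟨inv_mem h1.1, h1.2.1.inv, h1.2.2.inv⟩ }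
  have hkK : k' ∈ K := ⟨hM.mem, hM.axis, hM.centre⟩
  have heven : Even (Nat.card K) := by
    have h2 : orderOf (⟨k', hkK⟩ : K) = 2 := orderOf_eq_prime (by
      rw [pow_two]; exact Subtype.ext hM.sq) fun e => hM.ne_one (congrArg Subtype.val e)
    exact even_iff_two_dvd.mpr (h2 ▸ orderOf_dvd_natCard (⟨k', hkK⟩ : K))
  have hconj : ∀ x ∈ K, h * x * h⁻¹ ∈ K := by
    intro x hx
    refine ⟨mul_mem (mul_mem hA.mem hx.1) (inv_mem hA.mem), ?_, ?_⟩
    · have := hx.2.1.conj h; rwa [hhM] at this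
    · have := hx.2.2.conj h; rwa [hA.axis b hbA] at this
  let f : {x : K // x * x = 1 ∧ x ≠ 1} → {x : K // x * x = 1 ∧ x ≠ 1} := fun x =>
    ⟨⟨h * x.1 * h⁻¹, hconj _ x.1.2⟩, Subtype.ext (by
      change h * (x.1 : Coll P L) * h⁻¹ * (h * x.1 * h⁻¹) = 1
      have e : (x.1 : Coll P L) * x.1 = 1 := congrArg Subtype.val x.2.1
      rw [show h * (x.1 : Coll P L) * h⁻¹ * (h * x.1 * h⁻¹) =
        h * ((x.1 : Coll P L) * x.1) * h⁻¹ by group, e, mul_one, mul_inv_cancel]),
      fun e => x.2.2 (Subtype.ext (conj_eq_one_iff.mp (congrArg Subtype.val e :)))⟩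
  obtain ⟨x, hx⟩ := exists_fixed_of_odd f (fun x => Subtype.ext (Subtype.ext (by
    change h * (h * (x.1 : Coll P L) * h⁻¹) * h⁻¹ = x.1
    rw [hA.inv_eq, ← mul_assoc, ← mul_assoc, hA.sq, one_mul, mul_assoc, hA.sq, mul_one])))
    (odd_card_involutions heven)
  set g := ((x.1 : K) : Coll P L) with hgdef
  have hg : Refl H g b M := ⟨x.1.2.1, congrArg Subtype.val x.2.1,
    fun e => x.2.2 (Subtype.ext e), x.1.2.2.1, x.1.2.2.2⟩
  have hcomm : h * g = g * h := by
    have e : h * g * h⁻¹ = g :=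
      congrArg (fun w : {x : K // x * x = 1 ∧ x ≠ 1} => (w.1 : Coll P L)) hx
    exact (mul_inv_eq_iff_eq_mul.mp e)
  set z := h * g with hz
  have hz2 : z * z = 1 := by
    calc z * z = h * g * (g * h) := by rw [hz]; exact congrArg (h * g * ·) hcomm
      _ = h * (g * g) * h := by group
      _ = 1 := by rw [hg.sq, mul_one, hA.sq]
  have hz1 : z ≠ 1 := fun e => by
    have : g = h := by
      have := mul_eq_one_iff_inv_eq.mp e
      rw [hA.inv_eq] at this
      exact this.symm
    exact hab (hA.point_eq (this ▸ hg))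
  obtain ⟨d, X, hX⟩ := hR.exists_refl (mul_mem hA.mem hg.mem) hz2 hz1
  have hXl : X ≠ l := fun e => hno z d (e ▸ hX)
  have fa : z • a = a := by rw [hz, mul_smul, hg.axis a haM, centre_fixed_point hA.centre]
  have fb : z • b = b := by rw [hz, mul_smul, centre_fixed_point hg.centre, hA.axis b hbA]
  set c : P := meet A M
  have hcA : c ∈ A := meet_left hMA.symm
  have hcM : c ∈ M := meet_right hMA.symm
  have fc : z • c = c := by rw [hz, mul_smul, hg.axis c hcM, hA.axis c hcA]
  have hcb : c ≠ b := fun e => hbM (e ▸ hcM)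
  have hca : c ≠ a := fun e => haA (e ▸ hcA)
  rcases fixed_point_cases hX.axis hX.centre hz1 fa with ea | ea
  · have hbX := (fixed_point_cases hX.axis hX.centre hz1 fb).resolve_left
      fun e => hab (ea.trans e.symm)
    have hcX := (fixed_point_cases hX.axis hX.centre hz1 fc).resolve_left
      fun e => hca (e.trans ea.symm)
    have hXA : X = A := line_unique hcb hcX hbX hcA hbA
    have e : h * z = g := by rw [hz, ← mul_assoc, hA.sq, one_mul]
    have h2 : Refl H g a A := ⟨hg.mem, hg.sq, hg.ne_one, e ▸ hA.axis.mul (hXA ▸ hX.axis),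
      e ▸ hA.centre.mul (ea.symm ▸ hX.centre)⟩
    exact hab (h2.point_eq hg)
  rcases fixed_point_cases hX.axis hX.centre hz1 fb with eb | eb
  · have hcX := (fixed_point_cases hX.axis hX.centre hz1 fc).resolve_left
      fun e => hcb (e.trans eb.symm)
    have hXM : X = M := line_unique hca hcX ea hcM haM
    have e : z * g = h := by rw [hz, mul_assoc, hg.sq, mul_one]
    have h2 : Refl H h b M := ⟨hA.mem, hA.sq, hA.ne_one, e ▸ (hXM ▸ hX.axis).mul hg.axis,
      e ▸ (eb.symm ▸ hX.centre).mul hg.centre⟩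
    exact hab (hA.point_eq h2)
  · exact hXl (line_unique hab ea eb hal hb)

/-- Polar symmetry. -/
theorem polar (hR : ReflRich H) {g : Coll P L} {c : P} {l : L} (h : Refl H g c l) {u : P}
    (hu : u ∈ l) : ∃ k M, Refl H k u M ∧ c ∈ M := by
  obtain ⟨x, m, hx⟩ := hR.dual.exists_refl_axis (show Dual P from u)
  obtain ⟨k, -, hk⟩ := Refl.exists_of_dual hx
  obtain ⟨k', M, hM, hgM⟩ := hR.exists_fixed_axis hk h.mem h.sq (h.axis u hu)
  refine ⟨k', M, hM, (fixed_line_cases h.axis h.centre h.ne_one hgM).resolve_left ?_⟩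
  exact fun e => hM.notMem hR.odd (e ▸ hu)

/-- The group contains an elation. -/
theorem exists_elat_ne_bot (hR : ReflRich H) : ∃ l : L, ∃ g ∈ elat H l, g ≠ 1 := by
  classical
  by_contra hno
  push Not at hno
  haveI := Fintype.ofFinite P
  have cuniq : ∀ {g g' : Coll P L} {c c' : P} {l : L}, Refl H g c l → Refl H g' c' l → c = c' := by
    intro g g' c c' l h h'
    obtain ⟨s, hs, e⟩ := hR.centres_eq_orbit h h'
    rw [hno l s hs, one_smul] at e
    exact e
  have auniq : ∀ {g g' : Coll P L} {c : P} {l l' : L}, Refl H g c l → Refl H g' c l' → l = l' := by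
    intro g g' c l l' h h'
    obtain ⟨s, hs, e⟩ := hR.dual.centres_eq_orbit h.dual h'.dual
    by_cases hs1 : s = 1
    · subst hs1
      exact (one_smul (Coll (Dual L) (Dual P)) (show Dual L from l)).symm.trans e
    exfalso
    obtain ⟨t, ht, rfl⟩ := Subgroup.mem_map.mp hs.1
    obtain ⟨d, hd, hdc⟩ := hs.2.exists_centre hs1
    have ht1 : t ≠ 1 := fun e' => hs1 ((congrArg _ e').trans (map_one _))
    exact ht1 (hno d t ⟨ht, isElation_of_centre (l := (show L from d)) hdc hs.2.1 hd⟩)
  have hex : ∀ x : P, ∃ g l, Refl H g x l := by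
    intro x
    obtain ⟨y, m, hy⟩ := hR.dual.exists_refl_axis (show Dual P from x)
    obtain ⟨k, -, hk⟩ := Refl.exists_of_dual hy
    exact ⟨k, m, hk⟩
  choose gx ax hax using hex
  have hsymm : ∀ x y : P, y ∈ ax x → x ∈ ax y := by
    intro x y hy
    obtain ⟨k, M, hM, hxM⟩ := hR.polar (hax x) hy
    exact auniq hM (hax y) ▸ hxM
  have hinj : Function.Injective ax := fun x y e => cuniq (hax x) (e ▸ hax y)
  obtain ⟨r, hr, hrq⟩ := Nat.exists_prime_and_dvd
    (show ord P L ≠ 1 by have := one_lt_ord (P := P) (L := L); omega)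
  haveI := Fact.mk hr
  let A : Matrix P P (ZMod r) := fun x y => if y ∈ ax x then 1 else 0
  let J : Matrix P P (ZMod r) := fun _ _ => 1
  have hq0 : (ord P L : ZMod r) = 0 := (ZMod.natCast_eq_zero_iff _ _).mpr hrq
  have hN : (Fintype.card P : ZMod r) = 1 := by
    rw [← Nat.card_eq_fintype_card, card_points (L := L)]
    push_cast
    rw [hq0]; ring
  have hrow : ∀ x : P, ∑ y, A x y = 1 := by
    intro x
    simp only [A, Finset.sum_boole]
    rw [← Fintype.card_subtype, ← Nat.card_eq_fintype_card, card_on, Nat.cast_add, hq0, zero_add,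
      Nat.cast_one]
  have hAT : ∀ x y, A x y = A y x := fun x y => by
    simp only [A]
    exact if_congr ⟨hsymm x y, hsymm y x⟩ rfl rfl
  have hAA : A * A = J := by
    ext x y
    have e : (A * A) x y = ((Finset.univ.filter fun z => z ∈ ax x ∧ z ∈ ax y).card : ZMod r) := by
      rw [Matrix.mul_apply, ← Finset.sum_boole]
      refine Finset.sum_congr rfl fun z _ => ?_
      rw [hAT z y]
      simp only [A, ite_and]
      split_ifs <;> simp
    rw [e, ← Fintype.card_subtype, ← Nat.card_eq_fintype_card]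
    by_cases hxy : x = y
    · subst hxy
      rw [Nat.card_congr (Equiv.subtypeEquivRight fun z => and_self_iff
        : {z : P // z ∈ ax x ∧ z ∈ ax x} ≃ {z : P // z ∈ ax x}), card_on, Nat.cast_add, hq0,
        zero_add, Nat.cast_one]
    · have hne : ax x ≠ ax y := fun e => hxy (hinj e)
      rw [show Nat.card {z : P // z ∈ ax x ∧ z ∈ ax y} = 1 from Nat.card_eq_one_iff_unique.mpr
        ⟨⟨fun a b => Subtype.ext (point_unique hne a.2.1 b.2.1 a.2.2 b.2.2)⟩,
          ⟨⟨meet (ax x) (ax y), meet_left hne, meet_right hne⟩⟩⟩, Nat.cast_one]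
  have hAJ : A * J = J := by
    ext x y
    rw [Matrix.mul_apply]
    simpa [J] using hrow x
  have hJA : J * A = J := by
    ext x y
    rw [Matrix.mul_apply]
    simp only [J, one_mul]
    rw [Finset.sum_congr rfl fun z _ => hAT z y]
    exact hrow y
  have hJJ : J * J = J := by
    ext x y
    rw [Matrix.mul_apply]
    simp [J, Finset.card_univ, hN]
  have hnil : IsNilpotent (A - J) :=
    ⟨2, by rw [pow_two, sub_mul, mul_sub, mul_sub, hAA, hAJ, hJA, hJJ, sub_self]⟩
  have htr := (Matrix.isNilpotent_trace_of_isNilpotent hnil).eq_zero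
  have hdiag : ∀ x, A x x = 0 := fun x => if_neg ((hax x).notMem hR.odd)
  rw [Matrix.trace_sub, Matrix.trace, Matrix.trace] at htr
  have hJd : ∀ x, J x x = 1 := fun x => rfl
  simp only [Matrix.diag_apply, hdiag, hJd, Finset.sum_const_zero, Finset.sum_const,
    Finset.card_univ, nsmul_eq_mul, mul_one, hN, zero_sub, neg_eq_zero] at htr
  exact one_ne_zero htr

/-- The elations with axis `l` split along the centre of any involution fixing `l`. -/
theorem decomp (hR : ReflRich H) {g : Coll P L} {c : P} {l : L} (h : Refl H g c l) {w : P}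
    (hw : w ∈ l) : ∃ k M v, Refl H k w M ∧ c ∈ M ∧ v ∈ M ∧ v ∈ l ∧ v ≠ w ∧
      ∀ t ∈ elat H l, ∃ a ∈ elatC H w l, ∃ b ∈ elatC H v l, t = a * b := by
  obtain ⟨k, M, hk, hcM⟩ := hR.polar h hw
  have hMl : M ≠ l := fun e => h.notMem hR.odd (e ▸ hcM)
  have hwM := hk.notMem hR.odd
  refine ⟨k, M, meet M l, hk, hcM, meet_left hMl, meet_right hMl,
    fun e => hwM (e ▸ meet_left hMl), fun t ht => ?_⟩
  set v : P := meet M l with hv
  have hkl : k • l = l := hk.centre l hw
  have hconj : ∀ x ∈ elat H l, k * x * k⁻¹ ∈ elat H l := fun x hx =>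
    ⟨mul_mem (mul_mem hk.mem hx.1) (inv_mem hk.mem), hkl ▸ hx.2.conj k⟩
  set u := t⁻¹ * (k * t * k⁻¹) with hu
  have huE : u ∈ elat H l := mul_mem (inv_mem ht) (hconj t ht)
  have hku : k * u * k⁻¹ = u⁻¹ := by
    have e : k⁻¹ = k := hk.inv_eq
    calc k * u * k⁻¹ = k * t⁻¹ * (k * t * (k⁻¹ * k⁻¹)) := by rw [hu]; group
      _ = k * t⁻¹ * (k * t) := by rw [e, hk.sq, mul_one]
      _ = u⁻¹ := by
        rw [hu, mul_inv_rev, inv_inv, mul_inv_rev, mul_inv_rev, inv_inv]
        conv_rhs => rw [e]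
        group
  have hodd : Odd (orderOf u) := by
    have := orderOf_dvd_natCard (⟨u, huE⟩ : elat H l)
    rw [Subgroup.orderOf_mk] at this
    exact (hR.odd_elat l).of_dvd_nat this
  obtain ⟨s, hs, hss⟩ := exists_sq_root_zpowers hodd
  have hks : k * s * k⁻¹ = s⁻¹ := by
    obtain ⟨m, rfl⟩ := Subgroup.mem_zpowers_iff.mp hs
    rw [← conj_zpow, hku, inv_zpow]
  have hsE : s ∈ elat H l := Subgroup.zpowers_le.mpr huE hs
  have hsw : s ∈ elatC H w l := by
    refine Subgroup.zpowers_le.mpr (show u ∈ elatC H w l from ⟨huE, ?_⟩) hs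
    have hc := (hk.conj (x := s) hsE.1).centre
    rw [hsE.2.1 w hw] at hc
    have e : s * k * s⁻¹ = u * k := by
      calc s * k * s⁻¹ = s * (k * s * k⁻¹)⁻¹ * k := by group
        _ = u * k := by rw [hks, inv_inv, hss]
    rw [e] at hc
    have := hc.mul hk.centre
    rwa [mul_assoc, hk.sq, mul_one] at this
  have htsE : t * s ∈ elat H l := mul_mem ht hsE
  have hfix : k * (t * s) * k⁻¹ = t * s := by
    calc k * (t * s) * k⁻¹ = t * u * (k * s * k⁻¹) := by rw [hu]; group
      _ = t * s := by rw [hks, ← hss]; group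
  have htsv : t * s ∈ elatC H v l := by
    by_cases h1 : t * s = 1
    · rw [h1]; exact one_mem _
    obtain ⟨d, hd, hdc⟩ := htsE.2.exists_centre h1
    have hcj := hk.conj (x := t * s) htsE.1
    have e : t * s * k * (t * s)⁻¹ = k := by
      have e2 := mul_inv_eq_iff_eq_mul.mp hfix
      rw [← e2, mul_inv_cancel_right]
    rw [e] at hcj
    have hM := hcj.line_eq hk
    have hdM := (fixed_line_cases htsE.2.1 hdc h1 hM).resolve_left hMl
    have hdv : d = v := point_unique hMl hdM (meet_left hMl) hd (meet_right hMl)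
    exact ⟨htsE, hdv ▸ hdc⟩
  refine ⟨s⁻¹, inv_mem hsw, t * s, htsv, ?_⟩
  have hcom : Commute (t * s) s := elatC_commute (meet_right hMl) hw
    (fun e => hwM (e ▸ meet_left hMl)) htsv hsw
  rw [← mul_assoc, mul_assoc s⁻¹, ← mul_inv_cancel_right (t * s) s, hcom.eq]
  group

theorem card_elat_sum (l : L) [Fintype {c : P // c ∈ l}] :
    Nat.card (elat H l) = 1 + ∑ c : {c : P // c ∈ l}, (Nat.card (elatC H c.1 l) - 1) := by
  classical
  have key : Nat.card {g : elat H l // g ≠ 1} =
      ∑ c : {c : P // c ∈ l}, (Nat.card (elatC H c.1 l) - 1) := by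
    rw [← Nat.card_congr (Equiv.ofBijective
      (fun z : Σ c : {p : P // p ∈ l}, {g : elatC H c.1 l // g ≠ 1} =>
        (⟨⟨z.2.1.1, z.2.1.2.1⟩, fun e => z.2.2 (Subtype.ext (congrArg Subtype.val e :))⟩ :
          {g : elat H l // g ≠ 1})) ⟨?_, ?_⟩), Nat.card_sigma]
    · refine Finset.sum_congr rfl fun c _ => ?_
      have := card_subtype_add_not (fun g : elatC H c.1 l => g = 1)
      rw [Nat.card_unique] at this
      change Nat.card {g : elatC H c.1 l // ¬g = 1} = _
      omega
    · rintro ⟨c, g, hg⟩ ⟨d, g', hg'⟩ e'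
      have e1 : (g : Coll P L) = (g' : Coll P L) :=
        congrArg (fun w : {g : elat H l // g ≠ 1} => (w.1 : Coll P L)) e'
      have hcd : c = d := by
        refine Subtype.ext (centre_unique g.2.1.2.1 g.2.2 ?_ fun h1 => hg (Subtype.ext h1))
        rw [e1]; exact g'.2.2
      subst hcd
      have : g = g' := Subtype.ext e1
      subst this
      rfl
    · rintro ⟨g, hg⟩
      obtain ⟨c, hc, hgc⟩ := g.2.2.exists_centre fun h1 => hg (Subtype.ext h1)
      exact ⟨⟨⟨c, hc⟩, ⟨g, g.2, hgc⟩, fun h1 => hg (Subtype.ext (congrArg Subtype.val h1 :))⟩, rfl⟩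
  have := card_subtype_add_not (fun g : elat H l => g = 1)
  rw [Nat.card_unique] at this
  change 1 + Nat.card {g : elat H l // g ≠ 1} = Nat.card (elat H l) at this
  omega

theorem card_mul_le {l : L} {a b : P} (hab : a ≠ b) :
    Nat.card (elatC H a l) * Nat.card (elatC H b l) ≤ Nat.card (elat H l) := by
  rw [← Nat.card_prod]
  refine Nat.card_le_card_of_injective
    (fun z : elatC H a l × elatC H b l =>
      (⟨z.1.1 * z.2.1, mul_mem z.1.2.1 z.2.2.1⟩ : elat H l)) ?_
  rintro ⟨x, y⟩ ⟨x', y'⟩ e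
  have e1 : (x : Coll P L) * y = x' * y' := congrArg Subtype.val e
  have e2 : (x' : Coll P L)⁻¹ * x = y' * (y : Coll P L)⁻¹ := by
    rw [eq_mul_inv_iff_mul_eq, mul_assoc, e1, inv_mul_cancel_left]
  have hm : (x' : Coll P L)⁻¹ * x ∈ elatC H a l ⊓ elatC H b l :=
    ⟨Subgroup.mul_mem _ (Subgroup.inv_mem _ x'.2) x.2, e2 ▸ Subgroup.mul_mem _ y'.2 (Subgroup.inv_mem _ y.2)⟩
  rw [elatC_inf_eq_bot H l hab, Subgroup.mem_bot] at hm
  have hx : x = x' := Subtype.ext (inv_mul_eq_one.mp hm).symm
  subst hx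
  have hy : y = y' := Subtype.ext (mul_left_cancel e1)
  subst hy
  rfl

theorem card_le_mul {l : L} {a b : P}
    (hdec : ∀ t ∈ elat H l, ∃ x ∈ elatC H a l, ∃ y ∈ elatC H b l, t = x * y) :
    Nat.card (elat H l) ≤ Nat.card (elatC H a l) * Nat.card (elatC H b l) := by
  rw [← Nat.card_prod]
  refine Nat.card_le_card_of_surjective
    (fun z : elatC H a l × elatC H b l =>
      (⟨z.1.1 * z.2.1, mul_mem z.1.2.1 z.2.2.1⟩ : elat H l)) ?_
  intro t
  obtain ⟨x, hx, y, hy, e⟩ := hdec t t.2
  exact ⟨(⟨x, hx⟩, ⟨y, hy⟩), Subtype.ext e.symm⟩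

/-- Exponent transfer. -/
theorem pow_eq_one_of_centres {l : L} {a b : P} (ha : a ∈ l) (hb : b ∈ l) (hab : a ≠ b)
    {s t : Coll P L} (hs : s ∈ elatC H a l) (hs1 : s ≠ 1) {r : ℕ} (hsr : s ^ r = 1)
    (ht : t ∈ elatC H b l) : t ^ r = 1 := by
  by_contra hne
  have hcom : Commute t s := (elatC_commute ha hb hab hs ht).symm
  have hy : (t * s) ^ r = t ^ r := by rw [hcom.mul_pow, hsr, mul_one]
  have hy1 : t * s ≠ 1 := fun e => hne (by rw [← hy, e, one_pow])
  obtain ⟨d, -, hd⟩ := (mul_mem ht.1 hs.1 : t * s ∈ elat H l).2.exists_centre hy1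
  have hyd : t * s ∈ elatC H d l := ⟨mul_mem ht.1 hs.1, hd⟩
  have hdb : d = b := by
    by_contra hdb
    have : t ^ r ∈ elatC H d l ⊓ elatC H b l := ⟨hy ▸ pow_mem hyd r, pow_mem ht r⟩
    rw [elatC_inf_eq_bot H l hdb, Subgroup.mem_bot] at this
    exact hne this
  have : s ∈ elatC H a l ⊓ elatC H b l := by
    refine ⟨hs, ?_⟩
    have := mul_mem (inv_mem ht) (hdb ▸ hyd)
    rwa [inv_mul_cancel_left] at this
  rw [elatC_inf_eq_bot H l hab, Subgroup.mem_bot] at this
  exact hs1 this

theorem isPrimePow_of_pGroup {r : ℕ} [hr : Fact r.Prime] {K : Subgroup (Coll P L)}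
    (hK : ∀ t ∈ K, t ^ r = 1) (hcard : Nat.card K = ord P L) : IsPrimePow (ord P L) := by
  have hp : IsPGroup r K := fun t => ⟨1, Subtype.ext (by simpa using hK t t.2)⟩
  obtain ⟨k, hk⟩ := IsPGroup.iff_card.mp hp
  refine ⟨r, k, hr.out.prime, ?_, hk.symm.trans hcard⟩
  rcases Nat.eq_zero_or_pos k with h | h
  · exfalso
    rw [h, pow_zero] at hk
    have := one_lt_ord (P := P) (L := L)
    omega
  · exact h

/-- A plane of odd order with a rich group of involutory homologies has prime power order. -/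
theorem isPrimePow_ord (hR : ReflRich H) : IsPrimePow (ord P L) := by
  classical
  obtain ⟨l, g₁, hg₁, hg₁1⟩ := hR.exists_elat_ne_bot
  haveI := Fintype.ofFinite {c : P // c ∈ l}
  obtain ⟨g₀, c, hc⟩ := hR.exists_refl_axis l
  have hcl := hc.notMem hR.odd
  choose k M v hk hcM hvM hvl hvw hdec using fun w : {c : P // c ∈ l} => hR.decomp hc w.2
  obtain ⟨a₁, ha₁, hga⟩ := hg₁.2.exists_centre hg₁1
  have hq := one_lt_ord (P := P) (L := L)
  set e := Nat.card (elat H l) with he
  have hpos : ∀ x : P, 0 < Nat.card (elatC H x l) := fun x => Nat.card_pos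
  -- an element of prime order
  obtain ⟨a, ha, s₀, hs₀, r, hr, hr0⟩ : ∃ a : P, a ∈ l ∧ ∃ s ∈ elatC H a l,
      ∃ r : ℕ, r.Prime ∧ orderOf s = r := by
    have hcard : Nat.card (elatC H a₁ l) ≠ 1 := fun h1 => by
      haveI := (Nat.card_eq_one_iff_unique.mp h1).1
      exact hg₁1 (congrArg Subtype.val
        (Subsingleton.elim (⟨g₁, hg₁, hga⟩ : elatC H a₁ l) ⟨1, one_mem _⟩))
    obtain ⟨r, hr, hrd⟩ := Nat.exists_prime_and_dvd hcard
    haveI := Fact.mk hr
    obtain ⟨x, hx⟩ := exists_prime_orderOf_dvd_card' r hrd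
    exact ⟨a₁, ha₁, x, x.2, r, hr, by rw [← Subgroup.orderOf_coe] at hx; exact hx⟩
  haveI := Fact.mk hr
  have hs₀1 : s₀ ≠ 1 := fun h => hr.ne_one (by rw [← hr0, h, orderOf_one])
  have hs₀r : s₀ ^ r = 1 := hr0 ▸ pow_orderOf_eq_one s₀
  by_cases hsingle : elat H l ≤ elatC H a l
  · -- all elations with axis `l` have centre `a`
    have hva : ∀ x : {c : P // c ∈ l}, x.1 ≠ a → v x = a := by
      intro x hxa
      obtain ⟨p, hp, q, hq', e'⟩ := hdec x s₀ hs₀.1
      have hp1 : p ∈ elatC H x.1 l ⊓ elatC H a l := ⟨hp, hsingle hp.1⟩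
      rw [elatC_inf_eq_bot H l hxa, Subgroup.mem_bot] at hp1
      rw [hp1, one_mul] at e'
      by_contra hne
      have hq1 : s₀ ∈ elatC H (v x) l ⊓ elatC H a l := ⟨e' ▸ hq', hs₀⟩
      rw [elatC_inf_eq_bot H l hne, Subgroup.mem_bot] at hq1
      exact hs₀1 hq1
    have hca : c ≠ a := fun h => hcl (h ▸ ha)
    set M₀ := join L c a with hM₀
    have haM : a ∈ M₀ := join_right hca
    have hM₀l : M₀ ≠ l := fun h => hcl (h ▸ join_left hca)
    have hMeq : ∀ x : {c : P // c ∈ l}, x.1 ≠ a → M x = M₀ := fun x hxa =>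
      line_unique hca (hcM x) (hva x hxa ▸ hvM x) (join_left hca) haM
    obtain ⟨x₀, hx₀, hx₀a, -⟩ := exists_mem_ne_ne l a a
    have hmap : ∀ x : {p : P // p ∈ l ∧ p ≠ a}, ∃ s ∈ elatC H a M₀, s • x₀ = x.1 := by
      intro x
      by_cases hxx : x₀ = x.1
      · exact ⟨1, one_mem _, (one_smul _ x₀).trans hxx⟩
      have h0 := hk ⟨x₀, hx₀⟩
      have h1 := hk ⟨x.1, x.2.1⟩
      rw [hMeq ⟨x₀, hx₀⟩ hx₀a] at h0
      rw [hMeq ⟨x.1, x.2.1⟩ x.2.2] at h1
      obtain ⟨s, hs, hsx⟩ := hR.centres_eq_orbit h0 h1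
      have hs1 : s ≠ 1 := fun h => hxx (by
        have hsx' : s • x₀ = x.1 := hsx
        rw [h, one_smul] at hsx'; exact hsx')
      obtain ⟨d, hd, hdc⟩ := hs.2.exists_centre hs1
      have hdx : d ≠ x₀ := fun h => h0.notMem hR.odd (show x₀ ∈ M₀ from h ▸ hd)
      have hl : join L d x₀ = l := line_unique hxx (join_right hdx)
        (hsx ▸ smul_mem_line_centre hdc (join_left hdx) (join_right hdx)) hx₀ x.2.1
      have hdl : d ∈ l := mem_of_eq_ln (join_left hdx) hl
      have hda : d = a := point_unique hM₀l hd haM hdl ha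
      exact ⟨s, ⟨hs, hda ▸ hdc⟩, hsx⟩
    choose sm hsm hsmx using hmap
    have hcard : Nat.card (elatC H a M₀) = ord P L := by
      refine le_antisymm (Nat.le_of_dvd (by omega) (card_elatC_dvd H haM)) ?_
      rw [← card_mem_ne (P := P) (l := l) ha]
      refine Nat.card_le_card_of_injective (fun x => (⟨sm x, hsm x⟩ : elatC H a M₀)) ?_
      intro x y h
      have h' : sm x = sm y := congrArg Subtype.val h
      exact Subtype.ext (by rw [← hsmx x, ← hsmx y, h'])
    refine isPrimePow_of_pGroup (r := r) (fun t ht => ?_) hcard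
    by_contra hne
    have hcom : Commute t s₀ :=
      centre_commute hM₀l haM ha ht.1.2.1 ht.2 hs₀.1.2.1 hs₀.2
    have hy : (t * s₀) ^ r = t ^ r := by rw [hcom.mul_pow, hs₀r, mul_one]
    have hy1 : t * s₀ ≠ 1 := fun h => hne (by rw [← hy, h, one_pow])
    obtain ⟨X, hX⟩ := exists_axis (ht.2.mul hs₀.2) hy1
    have hXM : X = M₀ := by
      refine axis_unique (g := t ^ r) ?_ (pow_mem ht r).1.2.1 hne
      rw [← hy]
      have hpow : ∀ j : ℕ, Axis ((t * s₀) ^ j) X := by
        intro j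
        induction j with
        | zero => rw [pow_zero]; exact axis_one X
        | succ j ih => rw [pow_succ]; exact ih.mul hX
      exact hpow r
    have hsM : Axis s₀ M₀ := by
      have := ht.1.2.1.inv.mul (hXM ▸ hX)
      rwa [inv_mul_cancel_left] at this
    exact hM₀l (axis_unique hsM hs₀.1.2.1 hs₀1)
  · -- elations with axis `l` have at least two centres
    obtain ⟨t₀, ht₀, ht₀a⟩ := SetLike.not_le_iff_exists.mp hsingle
    have ht₀1 : t₀ ≠ 1 := fun h => ht₀a (h ▸ one_mem _)
    obtain ⟨b, hb, htb⟩ := ht₀.2.exists_centre ht₀1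
    have hab : a ≠ b := fun h => ht₀a ⟨ht₀, h ▸ htb⟩
    have ht₀r := pow_eq_one_of_centres ha hb hab hs₀ hs₀1 hs₀r
      (⟨ht₀, htb⟩ : t₀ ∈ elatC H b l)
    have hexp : ∀ t ∈ elat H l, t ^ r = 1 := by
      intro t ht
      by_cases ht1 : t = 1
      · rw [ht1, one_pow]
      obtain ⟨d, hd, hdc⟩ := ht.2.exists_centre ht1
      by_cases hda : a = d
      · exact pow_eq_one_of_centres hb hd (fun h => hab (hda.trans h.symm))
          (⟨ht₀, htb⟩ : t₀ ∈ elatC H b l) ht₀1 ht₀r ⟨ht, hdc⟩
      · exact pow_eq_one_of_centres ha hd hda hs₀ hs₀1 hs₀r ⟨ht, hdc⟩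
    have hlt : ∀ x : P, Nat.card (elatC H x l) < e := by
      intro x
      rw [he]
      refine lt_of_le_of_ne (Subgroup.card_le_of_le (elatC_le H x l)) fun hcard => ?_
      have heq := Subgroup.eq_of_le_of_card_ge (elatC_le H x l) hcard.ge
      have h1 : s₀ ∈ elatC H x l := heq ▸ hs₀.1
      have h2 : t₀ ∈ elatC H x l := heq ▸ ht₀
      exact hab ((centre_unique hs₀.1.2.1 hs₀.2 h1.2 hs₀1).trans
        (centre_unique ht₀.2.1 h2.2 htb ht₀1))
    have hsum := card_elat_sum (H := H) l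
    rw [← he] at hsum
    by_cases hbig : ∃ x : {c : P // c ∈ l},
        e < Nat.card (elatC H x.1 l) * Nat.card (elatC H x.1 l)
    · obtain ⟨x, hx⟩ := hbig
      set A := Nat.card (elatC H x.1 l) with hA
      have hB : ∀ y : {c : P // c ∈ l}, y ≠ x → Nat.card (elatC H y.1 l) * A = e := by
        intro y hy
        have hyx : y.1 ≠ x.1 := fun h => hy (Subtype.ext h)
        refine le_antisymm (card_mul_le hyx) ?_
        by_cases hvx : v y = x.1
        · have h := card_le_mul (hdec y)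
          rwa [hvx] at h
        exfalso
        have h1 := card_mul_le (H := H) (l := l) hyx
        have h2 := card_mul_le (H := H) (l := l) hvx
        have h3 := card_le_mul (hdec y)
        rw [← hA, ← he] at h1 h2
        rw [← he] at h3
        have h4 := Nat.mul_le_mul h1 h2
        have h5 : e * (A * A) ≤ e * e := by
          refine le_trans (Nat.mul_le_mul_right (A * A) h3) ?_
          calc Nat.card (elatC H y.1 l) * Nat.card (elatC H (v y) l) * (A * A)
              = Nat.card (elatC H y.1 l) * A * (Nat.card (elatC H (v y) l) * A) := by ring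
            _ ≤ e * e := h4
        have he0 : 0 < e := lt_of_le_of_lt (Nat.zero_le _) (hlt x.1)
        exact absurd (Nat.le_of_mul_le_mul_left h5 he0) (by omega)
      obtain ⟨y₀, hy₀, hy₀x, -⟩ := exists_mem_ne_ne l x.1 x.1
      set B := Nat.card (elatC H y₀ l) with hBdef
      have hBA : B * A = e := hB ⟨y₀, hy₀⟩ fun h => hy₀x (congrArg Subtype.val h)
      have hA0 : 0 < A := hpos x.1
      have hBall : ∀ y : {c : P // c ∈ l}, y ≠ x → Nat.card (elatC H y.1 l) = B := fun y hy =>
        Nat.eq_of_mul_eq_mul_right hA0 ((hB y hy).trans hBA.symm)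
      have hB2 : 2 ≤ B := by
        by_contra h
        have : A < e := hlt x.1
        have hb1 : B = 1 := by have := hpos y₀; omega
        rw [hb1, one_mul] at hBA
        omega
      rw [Finset.sum_eq_add_sum_sdiff_singleton_of_mem (Finset.mem_univ x),
        Finset.sum_congr rfl (g := fun _ => B - 1) (fun y hy => by
          rw [hBall y (by simpa using hy)]), Finset.sum_const, smul_eq_mul,
        Finset.card_sdiff] at hsum
      simp only [Finset.inter_univ, Finset.card_singleton, Finset.card_univ,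
        ← Nat.card_eq_fintype_card, card_on, Nat.add_sub_cancel] at hsum
      have hAq : A = ord P L := by
        obtain ⟨B', hB'⟩ : ∃ B', B = B' + 1 := ⟨B - 1, by omega⟩
        obtain ⟨A', hA'⟩ : ∃ A', A = A' + 1 := ⟨A - 1, by omega⟩
        rw [← hA, hA', hB', ← hBA, hB', hA', Nat.add_sub_cancel, Nat.add_sub_cancel] at hsum
        have h6 : B' * (A' + 1) = B' * ord P L := by nlinarith
        have := Nat.eq_of_mul_eq_mul_left (show 0 < B' by omega) h6
        omega
      exact isPrimePow_of_pGroup (K := elatC H x.1 l) (fun t ht => hexp t ht.1) hAq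
    · push Not at hbig
      have hsq : ∀ x : {c : P // c ∈ l},
          Nat.card (elatC H x.1 l) * Nat.card (elatC H x.1 l) = e := by
        intro x
        have h1 := hbig x
        have h2 := hbig ⟨v x, hvl x⟩
        have h3 := card_le_mul (hdec x)
        rw [← he] at h3
        refine le_antisymm h1 ?_
        have hv0 : 0 < Nat.card (elatC H (v x) l) := hpos (v x)
        by_contra h4
        push Not at h4
        nlinarith
      set A := Nat.card (elatC H a l) with hA
      have hall : ∀ x : {c : P // c ∈ l}, Nat.card (elatC H x.1 l) = A := fun x =>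
        Nat.mul_self_inj.mp ((hsq x).trans (hsq ⟨a, ha⟩).symm)
      have hA2 : 2 ≤ A := by
        by_contra h
        have hb1 : A = 1 := by have := hpos a; omega
        have := hsq ⟨a, ha⟩
        rw [← hA, hb1] at this
        have h7 := hlt a
        rw [← hA] at h7
        omega
      rw [Finset.sum_congr rfl (g := fun _ => A - 1) (fun y _ => by rw [hall y]),
        Finset.sum_const, smul_eq_mul, Finset.card_univ, ← Nat.card_eq_fintype_card, card_on,
        ← hsq ⟨a, ha⟩] at hsum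
      have hAq : A = ord P L := by
        obtain ⟨A', hA'⟩ : ∃ A', A = A' + 1 := ⟨A - 1, by omega⟩
        rw [← hA, hA', Nat.add_sub_cancel] at hsum
        have h6 : A' * (A' + 2) = A' * (ord P L + 1) := by nlinarith
        have := Nat.eq_of_mul_eq_mul_left (show 0 < A' by omega) h6
        omega
      exact isPrimePow_of_pGroup (K := elatC H a l) (fun t ht => hexp t ht.1) hAq

end ReflRich

end Cfsg.Lib.Plane
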