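import Cfsg.Agent.Lib.Plane.Perspectivity

/-!
# Involutory collineations: perspectivities or Baer
-/

set_option autoImplicit false
set_option linter.unusedSectionVars false
set_option linter.style.haveILetI false

namespace Cfsg.Lib.Plane

open Configuration

variable {P L : Type*} [Membership P L] [ProjectivePlane P L] [Finite P] [Finite L]

theorem fix_zpowers_iff {g : Coll P L} {p : P} : p ∈ fixSet (Subgroup.zpowers g) ↔ g • p = p := by
  constructor
  · exact fun h => h g (Subgroup.mem_zpowers g)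
  · intro h x hx
    have : Subgroup.zpowers g ≤ MulAction.stabilizer (Coll P L) p :=
      Subgroup.zpowers_le.mpr h
    exact this hx

theorem fix_zpowers_line_iff {g : Coll P L} {l : L} :
    (∀ x ∈ Subgroup.zpowers g, x • l = l) ↔ g • l = l := by
  constructor
  · exact fun h => h g (Subgroup.mem_zpowers g)
  · intro h x hx
    have : Subgroup.zpowers g ≤ MulAction.stabilizer (Coll P L) l :=
      Subgroup.zpowers_le.mpr h
    exact this hx

theorem smul_smul_self {g : Coll P L} (h2 : g * g = 1) (p : P) : g • g • p = p := by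
  rw [← mul_smul, h2, one_smul]

/-- A fixed line with two fixed points and at most one moved point is an axis. -/
theorem axis_of_moved_le_one {g : Coll P L} (h2 : g * g = 1) {l : L} (hl : g • l = l)
    (h : Nat.card {p : P // p ∈ l ∧ g • p ≠ p} ≤ 1) : Axis g l := by
  intro p hp
  by_contra hne
  haveI : Subsingleton {p : P // p ∈ l ∧ g • p ≠ p} :=
    Finite.card_le_one_iff_subsingleton.mp h
  have := Subsingleton.elim (⟨g • p, smul_mem_fix hl hp,
    fun e => hne (smul_left_cancel g e)⟩ : {p : P // p ∈ l ∧ g • p ≠ p}) ⟨p, hp, hne⟩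
  exact hne (congrArg Subtype.val this)

theorem card_fixed_on_add_moved (g : Coll P L) (l : L) :
    Nat.card {p : P // p ∈ l ∧ g • p = p} + Nat.card {p : P // p ∈ l ∧ g • p ≠ p}
      = ord P L + 1 := by
  rw [← card_on (P := P) l]
  have h := card_subtype_add_not (fun p : {p : P // p ∈ l} => g • p.val = p.val)
  rw [Nat.card_congr (Equiv.subtypeSubtypeEquivSubtypeInter (fun p : P => p ∈ l)
      (fun p => g • p = p)), Nat.card_congr (Equiv.subtypeSubtypeEquivSubtypeInter
      (fun p : P => p ∈ l) (fun p => ¬ g • p = p))] at h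
  exact h

theorem card_moved_eq_sum {g : Coll P L} (h2 : g * g = 1) [Fintype {l : L // g • l = l}] :
    Nat.card {p : P // g • p ≠ p} =
      ∑ l : {l : L // g • l = l}, Nat.card {p : P // p ∈ l.1 ∧ g • p ≠ p} := by
  classical
  rw [← Nat.card_sigma]
  refine Nat.card_congr
    { toFun := fun p => ⟨⟨join L p.1 (g • p.1), ?_⟩, p.1, join_left (Ne.symm p.2), p.2⟩
      invFun := fun x => ⟨x.2.1, x.2.2.2⟩
      left_inv := fun p => rfl
      right_inv := ?_ }
  · rw [smul_join g (Ne.symm p.2), smul_smul_self h2]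
    exact join_eq p.2 (join_right (Ne.symm p.2)) (join_left (Ne.symm p.2))
  · rintro ⟨⟨l, hl⟩, p, hpl, hp⟩
    have e : join L p (g • p) = l := join_eq (Ne.symm hp) hpl (smul_mem_fix hl hpl)
    refine Sigma.subtype_ext (Subtype.ext ?_) rfl
    exact e

/-- An involution is a perspectivity or fixes a subplane of square root order. -/
theorem invol_dichotomy {g : Coll P L} (h2 : g * g = 1) (h1 : g ≠ 1) :
    (∃ l : L, Axis g l) ∨ ∃ hq : HasQuad L (fixSet (Subgroup.zpowers g)),
      letI := fixPlane (Subgroup.zpowers g) hq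
      ord (FixP (Subgroup.zpowers g)) (FixL (Subgroup.zpowers g)) ^ 2 = ord P L := by
  classical
  haveI := Fintype.ofFinite P
  haveI := Fintype.ofFinite L
  set n := ord P L with hn
  have hn1 : 1 < n := one_lt_ord
  have hsum := card_moved_eq_sum (g := g) h2
  have hN : Nat.card {p : P // g • p = p} + Nat.card {p : P // g • p ≠ p} = n ^ 2 + n + 1 := by
    rw [hn, ← card_points (L := L)]
    exact card_subtype_add_not (fun p : P => g • p = p)
  set f := Nat.card {p : P // g • p = p} with hf
  have hlines : Fintype.card {l : L // g • l = l} = f := by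
    rw [hf, card_fixed_eq, Nat.card_eq_fintype_card]
  by_cases hq : HasQuad L (fixSet (Subgroup.zpowers g))
  · right
    refine ⟨hq, ?_⟩
    letI := fixPlane (Subgroup.zpowers g) hq
    set k := ord (FixP (Subgroup.zpowers g)) (FixL (Subgroup.zpowers g)) with hk
    have hkn : k < n := ord_fix_lt _ hq (Subgroup.zpowers_ne_bot.mpr h1)
    have hf' : f = k ^ 2 + k + 1 := by
      rw [hk, ← card_fixP _ hq]
      exact Nat.card_congr (Equiv.subtypeEquivRight fun p => fix_zpowers_iff.symm)
    have hon : ∀ l : {l : L // g • l = l},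
        Nat.card {p : P // p ∈ l.1 ∧ g • p ≠ p} = n - k := by
      intro l
      have h3 := card_fixed_on_add_moved g l.1
      have h4 : Nat.card {p : P // p ∈ l.1 ∧ g • p = p} = k + 1 := by
        rw [hk, ← card_on (P := FixP (Subgroup.zpowers g))
          (⟨l.1, fix_zpowers_line_iff.mpr l.2⟩ : FixL (Subgroup.zpowers g))]
        exact Nat.card_congr
          { toFun := fun p => ⟨⟨p.1, fix_zpowers_iff.mpr p.2.2⟩, p.2.1⟩
            invFun := fun p => ⟨p.1.1, p.2, fix_zpowers_iff.mp p.1.2⟩
            left_inv := fun _ => rfl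
            right_inv := fun _ => rfl }
      rw [← hn] at h3
      omega
    rw [Finset.sum_congr rfl fun l _ => hon l, Finset.sum_const, Finset.card_univ, hlines,
      smul_eq_mul] at hsum
    rw [hsum, hf'] at hN
    obtain ⟨d, hd⟩ : ∃ d, n = k + d + 1 := ⟨n - k - 1, by omega⟩
    rw [hd] at hN ⊢
    rw [show k + d + 1 - k = d + 1 by omega] at hN
    have : (k ^ 2 + k + 1) * (d + 1) = (2 * k + d + 2) * (d + 1) := by nlinarith
    have := Nat.eq_of_mul_eq_mul_right (by omega) this
    omega
  left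
  obtain ⟨l₀, hl₀⟩ := exists_line_of_not_hasQuad hq
  have hle : ∀ l : {l : L // g • l = l}, Nat.card {p : P // p ∈ l.1 ∧ g • p ≠ p} ≤ n + 1 :=
    fun l => by have := card_fixed_on_add_moved g l.1; omega
  have hfge : n ≤ f := by
    have h3 : Nat.card {p : P // g • p ≠ p} ≤ f * (n + 1) := by
      rw [hsum]
      refine (Finset.sum_le_sum fun l _ => hle l).trans ?_
      rw [Finset.sum_const, Finset.card_univ, hlines, smul_eq_mul]
    by_contra hlt
    nlinarith
  set i₀ := Nat.card {p : P // p ∈ l₀ ∧ g • p = p} with hi₀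
  have hi : f ≤ i₀ + 1 := by
    have h3 : Nat.card {p : {p : P // g • p = p} // p.1 ∈ l₀} = i₀ := by
      rw [hi₀]
      exact Nat.card_congr
        { toFun := fun p => ⟨p.1.1, p.2, p.1.2⟩
          invFun := fun p => ⟨⟨p.1, p.2.2⟩, p.2.1⟩
          left_inv := fun _ => rfl
          right_inv := fun _ => rfl }
    have h4 : Nat.card {p : {p : P // g • p = p} // ¬p.1 ∈ l₀} ≤ 1 := by
      rw [Finite.card_le_one_iff_subsingleton]
      exact ⟨fun a b => Subtype.ext (Subtype.ext
        (hl₀ a.1.1 (fix_zpowers_iff.mpr a.1.2) b.1.1 (fix_zpowers_iff.mpr b.1.2) a.2 b.2))⟩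
    have h5 := card_subtype_add_not (fun p : {p : P // g • p = p} => p.1 ∈ l₀)
    omega
  have two_fixed : ∀ l : L, 2 ≤ Nat.card {p : P // p ∈ l ∧ g • p = p} → g • l = l := by
    intro l hl
    obtain ⟨a, b, hab⟩ : ∃ a b : {p : P // p ∈ l ∧ g • p = p}, a ≠ b :=
      (Finite.one_lt_card_iff_nontrivial.mp hl).exists_pair_ne
    have hne : a.1 ≠ b.1 := fun e => hab (Subtype.ext e)
    exact line_unique hne (mem_of_fix a.2.2 a.2.1) (mem_of_fix b.2.2 b.2.1) a.2.1 b.2.1
  by_cases hbig : n ≤ i₀
  · refine ⟨l₀, axis_of_moved_le_one h2 (two_fixed l₀ (by omega)) ?_⟩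
    have := card_fixed_on_add_moved g l₀
    omega
  by_cases hn2 : n = 2
  · obtain ⟨a, b, hab⟩ : ∃ a b : {p : P // g • p = p}, a ≠ b :=
      (Finite.one_lt_card_iff_nontrivial.mp (show 1 < Nat.card {p : P // g • p = p} by omega)).exists_pair_ne
    have hne : a.1 ≠ b.1 := fun e => hab (Subtype.ext e)
    refine ⟨join L a.1 b.1, axis_of_moved_le_one h2 ?_ ?_⟩
    · rw [smul_join g hne, a.2, b.2]
    · have h3 := card_fixed_on_add_moved g (join L a.1 b.1)
      have h4 : 2 ≤ Nat.card {p : P // p ∈ join L a.1 b.1 ∧ g • p = p} := by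
        let u : Bool → {p : P // p ∈ join L a.1 b.1 ∧ g • p = p} := fun c =>
          bif c then ⟨a.1, join_left hne, a.2⟩ else ⟨b.1, join_right hne, b.2⟩
        have hu : Function.Injective u := by
          intro x y hxy
          cases x <;> cases y <;> simp [u, Subtype.ext_iff] at hxy ⊢
          · exact hne hxy.symm
          · exact hne hxy
        simpa using Nat.card_le_card_of_injective u hu
      omega
  exfalso
  have hfix₀ : g • l₀ = l₀ := two_fixed l₀ (by omega)
  obtain ⟨c, hc⟩ : ∃ c : {p : P // g • p = p}, c.1 ∉ l₀ := by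
    by_contra hno
    push Not at hno
    have : f ≤ i₀ := by
      rw [hf, hi₀]
      exact Nat.card_le_card_of_injective (fun p => ⟨p.1, hno p, p.2⟩)
        fun a b e => Subtype.ext (congrArg (fun q : {p : P // p ∈ l₀ ∧ g • p = p} => q.1) e)
    omega
  obtain ⟨a⟩ : Nonempty {p : P // p ∈ l₀ ∧ g • p = p} := (Nat.card_pos_iff.mp (by omega)).1
  have hca : c.1 ≠ a.1 := fun e => hc (mem_of_eq_pt e a.2.1)
  set m : L := join L c.1 a.1 with hm
  have hmfix : g • m = m := by rw [hm, smul_join g hca, c.2, a.2.2]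
  have hml : (⟨m, hmfix⟩ : {l : L // g • l = l}) ≠ ⟨l₀, hfix₀⟩ := fun e =>
    hc (mem_of_eq_ln (join_left hca) (congrArg Subtype.val e))
  have hm1 : Nat.card {p : P // p ∈ m ∧ g • p ≠ p} ≤ n - 1 := by
    have h3 := card_fixed_on_add_moved g m
    have h4 : 2 ≤ Nat.card {p : P // p ∈ m ∧ g • p = p} := by
      let u : Bool → {p : P // p ∈ m ∧ g • p = p} := fun x =>
        bif x then ⟨c.1, join_left hca, c.2⟩ else ⟨a.1, join_right hca, a.2.2⟩
      have hu : Function.Injective u := by
        intro x y hxy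
        cases x <;> cases y <;> simp [u, Subtype.ext_iff] at hxy ⊢
        · exact hca hxy.symm
        · exact hca hxy
      simpa using Nat.card_le_card_of_injective u hu
    omega
  have h0 := card_fixed_on_add_moved g l₀
  have hsplit := Finset.sum_eq_add_sum_sdiff_singleton_of_mem (Finset.mem_univ (⟨l₀, hfix₀⟩ : {l : L // g • l = l}))
    (fun l : {l : L // g • l = l} => Nat.card {p : P // p ∈ l.1 ∧ g • p ≠ p})
  have hm2 : (⟨m, hmfix⟩ : {l : L // g • l = l}) ∈
      Finset.univ \ ({⟨l₀, hfix₀⟩} : Finset {l : L // g • l = l}) := by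
    simp [hml]
  have hsplit2 := Finset.sum_eq_add_sum_sdiff_singleton_of_mem hm2
    (fun l : {l : L // g • l = l} => Nat.card {p : P // p ∈ l.1 ∧ g • p ≠ p})
  have hrest : ∑ l ∈ (Finset.univ \ ({⟨l₀, hfix₀⟩} : Finset {l : L // g • l = l})) \
      {⟨m, hmfix⟩}, Nat.card {p : P // p ∈ l.1 ∧ g • p ≠ p} ≤ (f - 2) * (n + 1) := by
    refine (Finset.sum_le_sum fun l _ => hle l).trans ?_
    rw [Finset.sum_const, smul_eq_mul, Finset.card_sdiff_of_subset (by simpa using hml),
      Finset.card_sdiff_of_subset (Finset.subset_univ _), Finset.card_univ, hlines]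
    simp only [Finset.card_singleton]
    rw [show f - 1 - 1 = f - 2 by omega]
  have hfn : f = n := by omega
  rw [hsum, hfn] at hN
  rw [hfn] at hrest
  rw [← hn] at h0
  dsimp only at hsplit hsplit2
  obtain ⟨n', hn'⟩ : ∃ n', n = n' + 3 := ⟨n - 3, by omega⟩
  rw [hn'] at hrest hN hm1 h0 hbig
  rw [show n' + 3 - 2 = n' + 1 by omega] at hrest
  rw [← hi₀] at h0
  have e0 : Nat.card {p : P // p ∈ l₀ ∧ g • p ≠ p} ≤ 2 := by omega
  have e1 : Nat.card {p : P // p ∈ m ∧ g • p ≠ p} ≤ n' + 2 := by omega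
  nlinarith

theorem exists_fixed_pair {g : Coll P L} (h2 : g * g = 1) (h1 : g ≠ 1) :
    ∃ a b : P, a ≠ b ∧ g • a = a ∧ g • b = b := by
  rcases invol_dichotomy h2 h1 with ⟨l, hl⟩ | ⟨hq, -⟩
  · obtain ⟨a, ha, -, -⟩ := exists_mem_ne_ne l (nonempty_point P L).some (nonempty_point P L).some
    obtain ⟨b, hb, hba, -⟩ := exists_mem_ne_ne l a a
    exact ⟨b, a, hba, hl b hb, hl a ha⟩
  · obtain ⟨a, ha, b, hb, c, hc, d, hd, habc, -, -, -⟩ := hq
    exact ⟨a, b, habc.ne₁₂, fix_zpowers_iff.mp ha, fix_zpowers_iff.mp hb⟩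

end Cfsg.Lib.Plane
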