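import Cfsg.Agent.Lib.Plane.Semilinear

/-!
# No semilinear pair inside a space of invertible maps
-/

set_option autoImplicit false
set_option linter.unusedSectionVars false
set_option linter.style.haveILetI false

namespace Cfsg.Lib.Plane

open Finset

variable {K : Type*} [Field K] [Finite K] {W : Type*} [AddCommGroup W] [Finite W]
variable (ρ : K →+* AddMonoid.End W)

/-- The hypotheses on a space of maps containing the scalars. -/
structure SpaceData (S : AddSubgroup (AddMonoid.End W)) : Prop where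
  scalar : ∀ a, ρ a ∈ S
  unit : ∀ A ∈ S, A ≠ 0 → IsUnit A
  jordan : ∀ A ∈ S, ∀ B ∈ S, A * B * A ∈ S
  maximal : ∀ X ∈ S, IsComp ρ 1 X → ∃ a, ρ a = X

variable {ρ} {S : AddSubgroup (AddMonoid.End W)}

theorem SpaceData.smulU (h : SpaceData ρ S) : ∀ a, ∀ X ∈ S, ρ a * X * ρ a ∈ S :=
  fun a X hX => h.jordan _ (h.scalar a) X hX

theorem SpaceData.one_mem (h : SpaceData ρ S) : (1 : AddMonoid.End W) ∈ S := by
  simpa using h.scalar 1

theorem SpaceData.pow_mem (h : SpaceData ρ S) {A : AddMonoid.End W} (hA : A ∈ S) :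
    ∀ j : ℕ, A ^ j ∈ S
  | 0 => by simpa using h.one_mem
  | 1 => by simpa using hA
  | j + 2 => by
    have := h.jordan A hA _ (h.pow_mem hA j)
    rwa [← pow_succ' A j, ← pow_succ] at this

theorem rho_injective [Nontrivial W] (ρ : K →+* AddMonoid.End W) : Function.Injective ρ := by
  haveI : Nontrivial (AddMonoid.End W) := by
    obtain ⟨x, hx⟩ := exists_ne (0 : W)
    exact ⟨⟨1, 0, fun h => hx (DFunLike.congr_fun h x)⟩⟩
  exact ρ.injective

/-- Lower-order terms. -/
def lowPart (ρ : K →+* AddMonoid.End W) (Y Z : AddMonoid.End W) (j : ℕ) :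
    AddSubgroup (AddMonoid.End W) :=
  AddSubgroup.closure {T | ∃ (a : K) (i : ℕ), i < j ∧ (T = ρ a * Y ^ i ∨ T = ρ a * Z ^ i)}

theorem lowPart_mem (Y Z : AddMonoid.End W) {j i : ℕ} (a : K) (hi : i < j) :
    ρ a * Y ^ i ∈ lowPart ρ Y Z j ∧ ρ a * Z ^ i ∈ lowPart ρ Y Z j :=
  ⟨AddSubgroup.subset_closure ⟨a, i, hi, Or.inl rfl⟩,
    AddSubgroup.subset_closure ⟨a, i, hi, Or.inr rfl⟩⟩

section Pair

variable {σ : RingAut K} {Y Z : AddMonoid.End W}

theorem mul_lowPart (hY : IsComp ρ σ Y) (hZ : IsComp ρ σ⁻¹ Z) {c₁ c₂ : K}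
    (hc₁ : ρ c₁ = Y * Z) (hc₂ : ρ c₂ = Z * Y) {j : ℕ} {T : AddMonoid.End W}
    (hT : T ∈ lowPart ρ Y Z j) : (Y + Z) * T ∈ lowPart ρ Y Z (j + 1) := by
  induction hT using AddSubgroup.closure_induction with
  | mem T hT =>
    obtain ⟨a, i, hi, hcase⟩ := hT
    rcases Nat.eq_zero_or_pos i with rfl | hpos
    · have hT' : T = ρ a := by rcases hcase with h | h <;> simpa using h
      rw [hT', add_mul, hY, hZ]
      exact add_mem (by simpa using (lowPart_mem (ρ := ρ) Y Z (σ a) (by omega : 1 < j + 1)).1)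
        (by simpa using (lowPart_mem (ρ := ρ) Y Z (σ⁻¹ a) (by omega : 1 < j + 1)).2)
    · obtain ⟨i, rfl⟩ : ∃ i', i = i' + 1 := ⟨i - 1, by omega⟩
      rcases hcase with rfl | rfl
      · rw [add_mul, ← mul_assoc, hY, ← mul_assoc Z, hZ, mul_assoc, ← pow_succ' Y,
          mul_assoc _ Z, pow_succ' Y i, ← mul_assoc Z Y, ← hc₂, ← mul_assoc,
          ← map_mul]
        exact add_mem (lowPart_mem (ρ := ρ) Y Z _ (by omega)).1
          (lowPart_mem (ρ := ρ) Y Z _ (by omega)).1
      · rw [add_mul, ← mul_assoc, hY, ← mul_assoc Z, hZ, mul_assoc _ Z, ← pow_succ' Z,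
          mul_assoc, pow_succ' Z i, ← mul_assoc Y Z, ← hc₁, ← mul_assoc, ← map_mul]
        exact add_mem (lowPart_mem (ρ := ρ) Y Z _ (by omega)).2
          (lowPart_mem (ρ := ρ) Y Z _ (by omega)).2
  | zero => simp
  | add x y _ _ hx hy => rw [mul_add]; exact add_mem hx hy
  | neg x _ hx => rw [mul_neg]; exact neg_mem hx

theorem pow_sub_mem_lowPart (hY : IsComp ρ σ Y) (hZ : IsComp ρ σ⁻¹ Z) {c₁ c₂ : K}
    (hc₁ : ρ c₁ = Y * Z) (hc₂ : ρ c₂ = Z * Y) {j : ℕ} (hj : 1 ≤ j) :
    (Y + Z) ^ j - (Y ^ j + Z ^ j) ∈ lowPart ρ Y Z j := by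
  induction j, hj using Nat.le_induction with
  | base => simp
  | succ j hj ih =>
    obtain ⟨i, rfl⟩ : ∃ i', j = i' + 1 := ⟨j - 1, by omega⟩
    have e : (Y + Z) ^ (i + 1 + 1) - (Y ^ (i + 1 + 1) + Z ^ (i + 1 + 1)) =
        (Y + Z) * ((Y + Z) ^ (i + 1) - (Y ^ (i + 1) + Z ^ (i + 1))) +
          ρ c₂ * Y ^ i + ρ c₁ * Z ^ i := by
      rw [hc₁, hc₂, mul_assoc, mul_assoc, ← pow_succ', ← pow_succ', pow_succ' (Y + Z) (i + 1),
        pow_succ' Y (i + 1), pow_succ' Z (i + 1)]
      noncomm_ring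
    rw [e]
    exact add_mem (add_mem (mul_lowPart hY hZ hc₁ hc₂ ih)
      (lowPart_mem (ρ := ρ) Y Z c₂ (by omega)).1) (lowPart_mem (ρ := ρ) Y Z c₁ (by omega)).2

theorem comp_one_lowPart (hY : IsComp ρ σ Y) (hZ : IsComp ρ σ⁻¹ Z) {T : AddMonoid.End W}
    (hT : T ∈ lowPart ρ Y Z (orderOf σ)) : ∃ a, ρ a = comp ρ 1 T := by
  induction hT using AddSubgroup.closure_induction with
  | mem T hT =>
    obtain ⟨a, i, hi, hcase⟩ := hT
    rcases Nat.eq_zero_or_pos i with rfl | hpos
    · have hT' : T = ρ a := by rcases hcase with h | h <;> simpa using h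
      exact ⟨a, by rw [hT', comp_self (isComp_one_rho a)]⟩
    · have hne : σ ^ i ≠ 1 := pow_ne_one_of_lt_orderOf hpos.ne' hi
      refine ⟨0, ?_⟩
      rw [map_zero]
      rcases hcase with rfl | rfl
      · rw [comp_other ((hY.pow i).smul a) hne]
      · rw [comp_other ((hZ.pow i).smul a) (by rw [inv_pow]; exact inv_ne_one.mpr hne)]
  | zero => exact ⟨0, by simp⟩
  | add x y _ _ hx hy =>
    obtain ⟨a, ha⟩ := hx; obtain ⟨b, hb⟩ := hy
    exact ⟨a + b, by rw [map_add, map_add, ha, hb]⟩
  | neg x _ hx => obtain ⟨a, ha⟩ := hx; exact ⟨-a, by rw [map_neg, map_neg, ha]⟩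

/-- The cross products are scalars. -/
theorem exists_cross (h : SpaceData ρ S) (hY : IsComp ρ σ Y) (hZ : IsComp ρ σ⁻¹ Z)
    (hZ0 : σ * σ = 1 → Z = 0) (hX : Y + Z ∈ S) :
    ∃ c₁ c₂ : K, ρ c₁ = Y * Z ∧ ρ c₂ = Z * Y := by
  by_cases hσσ : σ * σ = 1
  · exact ⟨0, 0, by simp [hZ0 hσσ], by simp [hZ0 hσσ]⟩
  have hid : ∀ a, ∃ e, ρ e = ρ (σ a) * (Y * Z) + ρ (σ⁻¹ a) * (Z * Y) := by
    intro a
    obtain ⟨e, he⟩ := comp_one_mem_range h.smulU h.maximal (h.jordan _ hX _ (h.scalar a))
    refine ⟨e, he.trans ?_⟩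
    have exp : (Y + Z) * ρ a * (Y + Z) = ρ (σ a) * (Y * Y) + ρ (σ a) * (Y * Z) +
        (ρ (σ⁻¹ a) * (Z * Y) + ρ (σ⁻¹ a) * (Z * Z)) := by
      rw [add_mul, hY, hZ, add_mul, mul_assoc, mul_assoc, mul_add, mul_add, mul_add, mul_add]
    have hne' : σ⁻¹ * σ⁻¹ ≠ 1 := by
      rw [← mul_inv_rev]; exact inv_ne_one.mpr hσσ
    have h1 : IsComp ρ 1 (ρ (σ a) * (Y * Z)) := by
      have := (hY.mul hZ).smul (σ a); rwa [mul_inv_cancel] at this
    have h2 : IsComp ρ 1 (ρ (σ⁻¹ a) * (Z * Y)) := by
      have := (hZ.mul hY).smul (σ⁻¹ a); rwa [inv_mul_cancel] at this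
    rw [exp, map_add, map_add, map_add, comp_other ((hY.mul hY).smul _) hσσ,
      comp_other ((hZ.mul hZ).smul _) hne', comp_self h1, comp_self h2, zero_add, add_zero]
  obtain ⟨a, ha⟩ : ∃ a, σ a ≠ σ⁻¹ a := by
    by_contra hno
    push Not at hno
    apply hσσ
    apply RingEquiv.ext
    intro a
    change σ (σ a) = a
    rw [hno a]
    exact σ.apply_symm_apply a
  obtain ⟨e₁, he₁⟩ := hid 1
  obtain ⟨e₂, he₂⟩ := hid a
  simp only [map_one, one_mul] at he₁
  set D := σ a - σ⁻¹ a
  have hD : D ≠ 0 := sub_ne_zero.mpr ha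
  have key : ρ D * (Y * Z) = ρ (e₂ - σ⁻¹ a * e₁) := by
    simp only [D, map_sub, map_mul, he₁, he₂, mul_add, sub_mul]
    abel
  have hYZ : ρ (D⁻¹ * (e₂ - σ⁻¹ a * e₁)) = Y * Z := by
    rw [map_mul, ← key, ← mul_assoc, ← map_mul, inv_mul_cancel₀ hD, map_one, one_mul]
  refine ⟨_, e₁ - D⁻¹ * (e₂ - σ⁻¹ a * e₁), hYZ, ?_⟩
  rw [map_sub, hYZ, he₁, add_sub_cancel_left]

end Pair

/-- The linear recursion of a plane spanned by `v` and `Y v`. -/
def casSeq (σ : RingAut K) (β γ : K) : ℕ → K × K
  | 0 => (0, 1)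
  | j + 1 => (σ (casSeq σ β γ j).1 * β + σ (casSeq σ β γ j).2, σ (casSeq σ β γ j).1 * γ)

theorem casSeq_det (σ : RingAut K) (β γ : K) : ∀ j : ℕ,
    (casSeq σ β γ j).2 * (casSeq σ β γ (j + 1)).1 - (casSeq σ β γ (j + 1)).2 * (casSeq σ β γ j).1
      = normPow σ j (-γ)
  | 0 => by simp [casSeq, normPow_zero]
  | j + 1 => by
    rw [normPow_succ, ← casSeq_det σ β γ j, map_sub, map_mul, map_mul]
    simp only [casSeq]
    ring

theorem casSeq_spec {σ : RingAut K} {Y : AddMonoid.End W} (hY : IsComp ρ σ Y) {β γ : K} {v : W}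
    (hv : Y (Y v) = ρ β (Y v) + ρ γ v) : ∀ j : ℕ,
    (Y ^ j) v = ρ (casSeq σ β γ j).1 (Y v) + ρ (casSeq σ β γ j).2 v
  | 0 => by simp [casSeq]
  | j + 1 => by
    rw [pow_succ']
    change Y ((Y ^ j) v) = _
    rw [casSeq_spec hY hv j, map_add]
    change (Y * ρ _) (Y v) + (Y * ρ _) v = _
    rw [hY, hY]
    change ρ _ (Y (Y v)) + ρ _ (Y v) = _
    simp only [casSeq, map_add, map_mul]
    rw [hv, map_add]
    change _ = ρ _ (ρ β (Y v)) + ρ _ (Y v) + ρ _ (ρ γ v)
    abel

/-- Conjugation by a unit on a finite field of maps. -/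
theorem exists_conj_aut {K' : Type*} [Field K'] [Finite K'] (ρ' : K' →+* AddMonoid.End W)
    (hinj : Function.Injective ρ') (Y : AddMonoid.End W) (hYinj : Function.Injective Y)
    (h : ∀ x : K', ∃ y : K', Y * ρ' x = ρ' y * Y) :
    ∃ σ' : RingAut K', IsComp ρ' σ' Y := by
  classical
  choose f hf using h
  have hsurj : Function.Surjective Y := Finite.surjective_of_injective hYinj
  have cancel : ∀ {A B : AddMonoid.End W}, A * Y = B * Y → A = B := fun {A B} e =>
    AddMonoidHom.ext fun x => by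
      obtain ⟨z, rfl⟩ := hsurj x
      exact DFunLike.congr_fun e z
  let fh : K' →+* K' :=
    { toFun := f
      map_one' := hinj (cancel (by rw [← hf, map_one, mul_one, one_mul]))
      map_mul' := fun x y => hinj (cancel (by
        rw [← hf, map_mul, ← mul_assoc, hf, mul_assoc, hf, ← mul_assoc, ← map_mul]))
      map_zero' := hinj (cancel (by rw [← hf, map_zero, mul_zero, zero_mul]))
      map_add' := fun x y => hinj (cancel (by
        rw [← hf, map_add, mul_add, hf, hf, ← add_mul, ← map_add])) }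
  exact ⟨RingEquiv.ofBijective fh ⟨fh.injective, Finite.surjective_of_injective fh.injective⟩,
    fun a => hf a⟩

section Step

variable [Nontrivial W] {σ : RingAut K} {Y : AddMonoid.End W}

/-- A plane invariant under `Y` without eigenvectors. -/
theorem exists_step (hY : IsComp ρ σ Y) {d g : K} (hd : σ d = d) (hg : σ g = g) (hg0 : g ≠ 0)
    (hquad : Y ^ orderOf σ * Y ^ orderOf σ - ρ d * Y ^ orderOf σ + ρ g = 0)
    (hYinj : Function.Injective Y)
    (hno : ∀ r, σ r = r → r * r - d * r + g ≠ 0) :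
    ∃ (v : W) (β γ : K), v ≠ 0 ∧ Y (Y v) = ρ β (Y v) + ρ γ v := by
  classical
  set k := orderOf σ with hk
  set R := Y ^ k with hR
  have hkpos : 0 < k := orderOf_aut_pos σ
  have hρR : ∀ a, Commute R (ρ a) := fun a => by
    have := hY.pow k a
    rw [pow_orderOf_eq_one] at this
    exact this
  by_cases hδ : ∃ (δ : K) (w : W), w ≠ 0 ∧ R w = ρ δ w
  · obtain ⟨δ, w, hw, hRw⟩ := hδ
    have hroot : δ * δ - d * δ + g = 0 := by
      by_contra hne
      apply hw
      have h1 : (R * R - ρ d * R + ρ g) w = 0 := by rw [hquad]; rfl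
      change R (R w) - ρ d (R w) + ρ g w = 0 at h1
      rw [hRw] at h1
      change (R * ρ δ) w - ρ d (ρ δ w) + ρ g w = 0 at h1
      rw [(hρR δ).eq] at h1
      change ρ δ (R w) - ρ d (ρ δ w) + ρ g w = 0 at h1
      rw [hRw] at h1
      have h2 : ρ (δ * δ - d * δ + g) w = 0 := by
        rw [map_add, map_sub, map_mul, map_mul]
        exact h1
      have h3 : ρ ((δ * δ - d * δ + g)⁻¹) (ρ (δ * δ - d * δ + g) w) = 0 := by rw [h2, map_zero]
      change (ρ ((δ * δ - d * δ + g)⁻¹) * ρ (δ * δ - d * δ + g)) w = 0 at h3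
      rw [← map_mul, inv_mul_cancel₀ hne, map_one] at h3
      exact h3
    have hσδ : σ δ ≠ δ := fun h => hno δ h hroot
    have hσδ' : σ δ = d - δ := by
      have h1 := congrArg σ hroot
      simp only [map_add, map_sub, map_mul, map_zero, hd, hg] at h1
      have h2 : (σ δ - δ) * (σ δ + δ - d) = 0 := by linear_combination h1 - hroot
      rcases mul_eq_zero.mp h2 with h3 | h3
      · exact absurd (sub_eq_zero.mp h3) hσδ
      · linear_combination h3
    have hσσδ : (σ ^ 2) δ = δ := by
      rw [pow_two]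
      change σ (σ δ) = δ
      rw [hσδ', map_sub, hd, hσδ']
      ring
    have heven : Even k := by
      by_contra hodd
      obtain ⟨m, hm⟩ := Nat.not_even_iff_odd.mp hodd
      apply hσδ
      have h1 : (σ ^ k) δ = δ := by rw [hk, pow_orderOf_eq_one]; rfl
      rw [hm, pow_succ'] at h1
      have h2 : ∀ i, (σ ^ (2 * i)) δ = δ := by
        intro i
        induction i with
        | zero => rfl
        | succ i ih => rw [Nat.mul_succ, pow_add]; change (σ ^ (2 * i)) ((σ ^ 2) δ) = δ; rw [hσσδ, ih]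
      change σ ((σ ^ (2 * m)) δ) = δ at h1
      rwa [h2] at h1
    obtain ⟨m, hm⟩ := heven
    have hord : orderOf (σ ^ 2) = m := by
      rw [orderOf_pow' σ (by norm_num), ← hk]
      have : Nat.gcd k 2 = 2 := Nat.gcd_eq_right ⟨m, by omega⟩
      rw [this]
      omega
    have hδ0 : δ ≠ 0 := fun h => hσδ (by simp [h])
    obtain ⟨w', hw'0, hw'⟩ := normPow_surjective (σ ^ 2) (r := δ⁻¹)
      (by rw [map_inv₀, hσσδ]) (inv_ne_zero hδ0)
    rw [hord] at hw'
    let W' : AddSubgroup W :=
      { carrier := {x | R x = ρ δ x}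
        zero_mem' := by simp
        add_mem' := fun {x y} hx hy => by
          simp only [Set.mem_ofPred_eq] at hx hy ⊢
          rw [map_add, hx, hy, map_add]
        neg_mem' := fun {x} hx => by
          simp only [Set.mem_ofPred_eq] at hx ⊢
          rw [map_neg, hx, map_neg] }
    have hY2 : IsComp ρ (σ ^ 2) (Y ^ 2) := hY.pow 2
    obtain ⟨v, hv, hv0, hTv⟩ := exists_fixed_vector ρ (σ ^ 2) (ρ w' * Y ^ 2)
      (fun a => by rw [mul_assoc, hY2, ← mul_assoc, ← map_mul, mul_comm w', map_mul, mul_assoc])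
      W'
      (fun a x hx => by
        change R (ρ a x) = ρ δ (ρ a x)
        change (R * ρ a) x = (ρ δ * ρ a) x
        rw [(hρR a).eq, ← map_mul, mul_comm δ, map_mul]
        exact congrArg (ρ a) hx)
      (fun x hx => by
        change R (ρ w' ((Y ^ 2) x)) = ρ δ (ρ w' ((Y ^ 2) x))
        change (R * ρ w') ((Y ^ 2) x) = (ρ δ * ρ w') ((Y ^ 2) x)
        rw [(hρR w').eq, ← map_mul, mul_comm δ, map_mul]
        refine congrArg (ρ w') ?_
        change (R * Y ^ 2) x = (ρ δ * Y ^ 2) x
        rw [hR, ← pow_add, add_comm, pow_add, ← hR]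
        have e : ρ δ * Y ^ 2 = Y ^ 2 * ρ δ := by rw [hY2, hσσδ]
        rw [e]
        exact congrArg (fun y => (Y ^ 2 : AddMonoid.End W) y) hx)
      (fun x hx => by
        rw [hord, hY2.smul_pow, ← pow_mul, show 2 * m = k by omega, hw']
        change ρ δ⁻¹ (R x) = x
        rw [show R x = ρ δ x from hx]
        change (ρ δ⁻¹ * ρ δ) x = x
        rw [← map_mul, inv_mul_cancel₀ hδ0, map_one]
        rfl)
      (fun h => hw (by
        have : w ∈ W' := hRw
        rwa [h, AddSubgroup.mem_bot] at this))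
    refine ⟨v, 0, w'⁻¹, hv0, ?_⟩
    rw [map_zero]
    change Y (Y v) = 0 + ρ w'⁻¹ v
    rw [zero_add]
    change ρ w' ((Y ^ 2) v) = v at hTv
    have h4 : ρ w'⁻¹ (ρ w' ((Y ^ 2) v)) = ρ w'⁻¹ v := by rw [hTv]
    change (ρ w'⁻¹ * ρ w') ((Y ^ 2) v) = _ at h4
    rw [← map_mul, inv_mul_cancel₀ hw'0, map_one, pow_two] at h4
    exact h4
  · push Not at hδ
    let K₁ : Subring (AddMonoid.End W) :=
      { carrier := {T | ∃ a b, T = ρ a * R + ρ b}
        one_mem' := ⟨0, 1, by simp⟩
        zero_mem' := ⟨0, 0, by simp⟩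
        add_mem' := by
          rintro _ _ ⟨a, b, rfl⟩ ⟨a', b', rfl⟩
          exact ⟨a + a', b + b', by rw [map_add, map_add, add_mul]; abel⟩
        neg_mem' := by
          rintro _ ⟨a, b, rfl⟩
          exact ⟨-a, -b, by rw [map_neg, map_neg, neg_mul]; abel⟩
        mul_mem' := by
          rintro _ _ ⟨a, b, rfl⟩ ⟨a', b', rfl⟩
          refine ⟨a * a' * d + (a * b' + b * a'), b * b' - a * a' * g, ?_⟩
          have hRR : R * R = ρ d * R - ρ g := by
            rw [eq_sub_iff_add_eq, ← sub_eq_zero]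
            rw [← hquad]
            abel
          calc (ρ a * R + ρ b) * (ρ a' * R + ρ b')
              = ρ a * (R * ρ a') * R + ρ a * (R * ρ b') + ρ b * ρ a' * R + ρ b * ρ b' := by
                noncomm_ring
            _ = ρ a * ρ a' * (R * R) + ρ a * ρ b' * R + ρ b * ρ a' * R + ρ b * ρ b' := by
                rw [(hρR a').eq, (hρR b').eq]; noncomm_ring
            _ = _ := by
                rw [hRR, map_add, map_add, map_sub, map_mul, map_mul, map_mul, map_mul, map_mul,
                  map_mul, map_mul]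
                noncomm_ring }
    have hcomm : ∀ x y : K₁, x * y = y * x := by
      rintro ⟨_, a, b, rfl⟩ ⟨_, a', b', rfl⟩
      apply Subtype.ext
      have c1 : ∀ c : K, Commute (ρ c) (ρ a * R + ρ b) := fun c =>
        (((Commute.all c a).map ρ).mul_right (hρR c).symm).add_right ((Commute.all c b).map ρ)
      have c2 : Commute R (ρ a * R + ρ b) :=
        ((hρR a).mul_right (Commute.refl R)).add_right (hρR b)
      exact (((c1 a').mul_left c2).add_left (c1 b')).eq.symm
    have hinjK : ∀ x : K₁, x ≠ 0 → Function.Injective (x : AddMonoid.End W) := by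
      rintro ⟨_, a, b, rfl⟩ hne
      rw [injective_iff_map_eq_zero]
      intro x hx
      by_contra hx0
      change ρ a (R x) + ρ b x = 0 at hx
      by_cases ha : a = 0
      · subst ha
        by_cases hb : b = 0
        · subst hb
          exact hne (Subtype.ext (by simp))
        · rw [map_zero] at hx
          have h1 : (ρ b⁻¹ * ρ b) x = 0 := by
            change ρ b⁻¹ (ρ b x) = 0
            have : ρ b x = 0 := by simpa using hx
            rw [this, map_zero]
          rw [← map_mul, inv_mul_cancel₀ hb, map_one] at h1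
          exact hx0 h1
      · refine hδ (-(a⁻¹ * b)) x hx0 ?_
        have h1 : ρ a⁻¹ (ρ a (R x) + ρ b x) = 0 := by rw [hx, map_zero]
        rw [map_add] at h1
        change (ρ a⁻¹ * ρ a) (R x) + (ρ a⁻¹ * ρ b) x = 0 at h1
        rw [← map_mul, inv_mul_cancel₀ ha, map_one, ← map_mul] at h1
        rw [map_neg]
        exact eq_neg_of_add_eq_zero_left h1
    letI : CommRing K₁ := { (inferInstance : Ring K₁) with mul_comm := hcomm }
    haveI : Nontrivial K₁ := ⟨⟨0, 1, fun h => by
      obtain ⟨x, hx⟩ := exists_ne (0 : W)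
      exact hx (DFunLike.congr_fun (congrArg Subtype.val h) x).symm⟩⟩
    haveI : NoZeroDivisors K₁ := ⟨fun {x y} h => by
      by_contra hno'
      push Not at hno'
      apply hno'.2
      apply Subtype.ext
      apply AddMonoidHom.ext
      intro z
      apply hinjK x hno'.1
      have := DFunLike.congr_fun (congrArg Subtype.val h) z
      change (x : AddMonoid.End W) ((y : AddMonoid.End W) z) = 0 at this
      exact this.trans (map_zero _).symm⟩
    haveI : IsDomain K₁ := NoZeroDivisors.to_isDomain _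
    haveI : Finite (AddMonoid.End W) :=
      Finite.of_injective (fun f : AddMonoid.End W => (f : W → W)) DFunLike.coe_injective
    letI := Fintype.ofFinite K₁
    letI : Field K₁ := Fintype.fieldOfDomain K₁
    let ρ' : K₁ →+* AddMonoid.End W := K₁.subtype
    have hρ'inj : Function.Injective ρ' := Subtype.val_injective
    let ι : ∀ a : K, K₁ := fun a => ⟨ρ a, 0, a, by simp⟩
    let R' : K₁ := ⟨R, 1, 0, by simp⟩
    obtain ⟨σ', hσ'⟩ := exists_conj_aut ρ' hρ'inj Y hYinj (by
      rintro ⟨_, a, b, rfl⟩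
      refine ⟨⟨ρ (σ a) * R + ρ (σ b), σ a, σ b, rfl⟩, ?_⟩
      change Y * (ρ a * R + ρ b) = (ρ (σ a) * R + ρ (σ b)) * Y
      rw [mul_add, ← mul_assoc, hY, hY, add_mul, mul_assoc, mul_assoc (ρ (σ a)) R, hR,
        ← pow_succ', ← pow_succ])
    have cancelY : ∀ (j : ℕ) {A B : AddMonoid.End W}, A * Y ^ j = B * Y ^ j → A = B := by
      intro j
      induction j with
      | zero => intro A B h; simpa using h
      | succ j ih =>
        intro A B h
        rw [pow_succ', ← mul_assoc, ← mul_assoc] at h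
        have h2 := ih h
        exact AddMonoidHom.ext fun x => by
          obtain ⟨z, rfl⟩ := Finite.surjective_of_injective hYinj x
          exact DFunLike.congr_fun h2 z
    have hσ'k : σ' ^ k = 1 := by
      apply RingEquiv.ext
      rintro ⟨_, a, b, rfl⟩
      apply hρ'inj
      apply cancelY k
      rw [← hσ'.pow k]
      change R * (ρ a * R + ρ b) = (ρ a * R + ρ b) * R
      exact (((hρR a).mul_right (Commute.refl R)).add_right (hρR b)).eq
    have hord : orderOf σ' = k := by
      apply Nat.dvd_antisymm (orderOf_dvd_of_pow_eq_one hσ'k)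
      apply orderOf_dvd_of_pow_eq_one
      apply RingEquiv.ext
      intro a
      apply rho_injective ρ
      apply cancelY (orderOf σ')
      rw [← hY.pow (orderOf σ')]
      have := hσ'.pow (orderOf σ') (ι a)
      rw [pow_orderOf_eq_one] at this
      exact this
    have hR'0 : R' ≠ 0 := by
      intro h
      obtain ⟨x, hx⟩ := exists_ne (0 : W)
      have hRinj : ∀ j, Function.Injective (Y ^ j : AddMonoid.End W) := by
        intro j
        induction j with
        | zero => exact fun a b h => h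
        | succ j ih => rw [pow_succ]; exact ih.comp hYinj
      apply hx
      apply hRinj k
      have := DFunLike.congr_fun (congrArg Subtype.val h) x
      exact this.trans (map_zero _).symm
    have hσ'R : σ' R' = R' := by
      apply hρ'inj
      apply cancelY 1
      rw [pow_one, ← hσ']
      change Y * R = R * Y
      rw [hR, ← pow_succ', ← pow_succ]
    obtain ⟨w', hw'0, hw'⟩ := normPow_surjective σ' (r := R'⁻¹)
      (by rw [map_inv₀, hσ'R]) (inv_ne_zero hR'0)
    rw [hord] at hw'
    obtain ⟨v, -, hv0, hTv⟩ := exists_fixed_vector ρ' σ' (ρ' w' * Y)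
      (fun a => by rw [mul_assoc, hσ', ← mul_assoc, ← map_mul, mul_comm w', map_mul, mul_assoc])
      ⊤ (fun _ _ _ => trivial) (fun _ _ => trivial)
      (fun x _ => by
        rw [hord, hσ'.smul_pow, hw']
        change (ρ' R'⁻¹ * ρ' R') x = x
        rw [← map_mul, inv_mul_cancel₀ hR'0, map_one]
        rfl)
      (fun h => by
        obtain ⟨x, hx⟩ := exists_ne (0 : W)
        have : x ∈ (⊤ : AddSubgroup W) := trivial
        rw [h, AddSubgroup.mem_bot] at this
        exact hx this)
    have hYv : Y v = ρ' w'⁻¹ v := by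
      change ρ' w' (Y v) = v at hTv
      have h4 : ρ' w'⁻¹ (ρ' w' (Y v)) = ρ' w'⁻¹ v := by rw [hTv]
      change (ρ' w'⁻¹ * ρ' w') (Y v) = _ at h4
      rw [← map_mul, inv_mul_cancel₀ hw'0, map_one] at h4
      exact h4
    obtain ⟨a, b, hab⟩ := (w'⁻¹).2
    obtain ⟨a', b', hab'⟩ := (σ' w'⁻¹ * w'⁻¹).2
    have hYv' : Y v = ρ a (R v) + ρ b v := by rw [hYv]; exact DFunLike.congr_fun hab v
    have hYYv : Y (Y v) = ρ a' (R v) + ρ b' v := by
      rw [hYv]
      change (Y * ρ' w'⁻¹) v = _
      rw [hσ']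
      change ρ' (σ' w'⁻¹) (Y v) = _
      rw [hYv]
      change (ρ' (σ' w'⁻¹) * ρ' w'⁻¹) v = _
      rw [← map_mul]
      exact DFunLike.congr_fun hab' v
    have ha : a ≠ 0 := by
      intro h
      subst h
      rw [map_zero] at hYv'
      have hYb : Y v = ρ b v := by simpa using hYv'
      exact hδ _ v hv0 (hY.pow_eigen hYb k)
    refine ⟨v, a' * a⁻¹, b' - a' * a⁻¹ * b, hv0, ?_⟩
    rw [hYYv, hYv', map_add, map_sub, map_mul, map_mul, map_mul]
    change _ = (ρ a' * ρ a⁻¹ * ρ a) (R v) + ρ a' (ρ a⁻¹ (ρ b v)) +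
      (ρ b' v - ρ a' (ρ a⁻¹ (ρ b v)))
    rw [mul_assoc, ← map_mul _ a⁻¹, inv_mul_cancel₀ ha, map_one, mul_one]
    abel

end Step

section NoPair

variable [Nontrivial W] {σ : RingAut K} {Y Z : AddMonoid.End W}

theorem eq_zero_of_smul_comp (h : SpaceData ρ S) {Y : AddMonoid.End W} (hY : Y ≠ 0) {a : K}
    (ha : ρ a * Y = 0) : a = 0 := by
  by_contra hne
  apply hY
  have : ρ a⁻¹ * (ρ a * Y) = 0 := by rw [ha, mul_zero]
  rwa [← mul_assoc, ← map_mul, inv_mul_cancel₀ hne, map_one, one_mul] at this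

/-- The set of attainable twisted coefficients is everything. -/
theorem mem_twistClosure (σ : RingAut K) (hσσ : σ * σ ≠ 1) (t : K) :
    t ∈ AddSubgroup.closure {x : K | ∃ b c, x = b * σ c + c * σ b} := by
  classical
  set T := AddSubgroup.closure {x : K | ∃ b c, x = b * σ c + c * σ b} with hT
  have gen_mem : ∀ b c, b * σ c + c * σ b ∈ T := fun b c =>
    AddSubgroup.subset_closure ⟨b, c, rfl⟩
  have hmul : ∀ x ∈ T, ∀ y ∈ T, x * y ∈ T := by
    intro x hx y hy
    induction hx using AddSubgroup.closure_induction with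
    | mem x hx =>
      obtain ⟨b, c, rfl⟩ := hx
      induction hy using AddSubgroup.closure_induction with
      | mem y hy =>
        obtain ⟨b', c', rfl⟩ := hy
        have := add_mem (gen_mem (b * b') (c * c')) (gen_mem (b * c') (c * b'))
        convert this using 1
        simp only [map_mul]
        ring
      | zero => simp
      | add u v _ _ hu hv => rw [mul_add]; exact add_mem hu hv
      | neg u _ hu => rw [mul_neg]; exact neg_mem hu
    | zero => simp
    | add u v _ _ hu hv => rw [add_mul]; exact add_mem hu hv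
    | neg u _ hu => rw [neg_mul]; exact neg_mem hu
  have hsum : ∀ a, a + σ a ∈ T := fun a => by
    have := gen_mem a 1
    rw [map_one, mul_one, one_mul] at this
    exact this
  have h1 : (1 : K) ∈ T := by
    by_contra h1
    have hclosed : ∀ x ∈ T, x ≠ 0 → False := by
      intro x hx hx0
      letI := Fintype.ofFinite K
      apply h1
      have hpow : ∀ i : ℕ, x ^ (i + 1) ∈ T := by
        intro i
        induction i with
        | zero => simpa using hx
        | succ i ih => rw [pow_succ]; exact hmul _ ih _ hx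
      have h2 := hpow (Fintype.card K - 2)
      have h3 : 2 ≤ Fintype.card K := Fintype.one_lt_card
      rw [show Fintype.card K - 2 + 1 = Fintype.card K - 1 by omega,
        FiniteField.pow_card_sub_one_eq_one x hx0] at h2
      exact h2
    obtain ⟨a, ha⟩ : ∃ a, σ (σ a) ≠ a := by
      by_contra hno
      push Not at hno
      exact hσσ (RingEquiv.ext hno)
    have z : ∀ x ∈ T, x = 0 := fun x hx => not_not.mp (hclosed x hx)
    have e1 := z _ (hsum a)
    have e2 := z _ (hsum (σ a))
    exact ha (by linear_combination e2 - e1)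
  let R : Subring K :=
    { carrier := T
      one_mem' := h1
      mul_mem' := fun {x y} hx hy => hmul x hx y hy
      zero_mem' := zero_mem T
      add_mem' := fun hx hy => add_mem hx hy
      neg_mem' := fun hx => neg_mem hx }
  obtain ⟨p, hp⟩ := CharP.exists K
  haveI : Fact p.Prime := ⟨CharP.char_is_prime K p⟩
  letI := Fintype.ofFinite R
  letI : Field R := Fintype.fieldOfDomain R
  haveI : CharP R p := R.subtype.charP R.subtype_injective p
  obtain ⟨n, -, hn⟩ := FiniteField.card R p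
  have hfixR : ∀ x ∈ T, x ^ p ^ (n : ℕ) = x := by
    intro x hx
    have h2 := FiniteField.pow_card (⟨x, hx⟩ : R)
    rw [hn] at h2
    exact congrArg Subtype.val h2
  let τ : RingAut K := RingEquiv.ofBijective (iterateFrobenius K p n)
    ⟨(iterateFrobenius K p n).injective,
      Finite.surjective_of_injective (iterateFrobenius K p n).injective⟩
  have hτ : ∀ x, τ x = x ^ p ^ (n : ℕ) := fun x => iterateFrobenius_def ..
  have key : ∀ a, τ a = a ∨ τ a = σ a := by
    intro a
    have e1 : τ (a + σ a) = a + σ a := by rw [hτ]; exact hfixR _ (hsum a)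
    have hprod : a * σ a ∈ T := by
      have good : ∀ c, c + σ c ≠ 0 → c * σ c ∈ T := by
        intro c hc
        letI := Fintype.ofFinite K
        have hinv : (c + σ c)⁻¹ ∈ R := by
          have e : (c + σ c)⁻¹ = (c + σ c) ^ (Fintype.card K - 2) := by
            apply inv_eq_of_mul_eq_one_right
            rw [← pow_succ', show Fintype.card K - 2 + 1 = Fintype.card K - 1 from by
              have : 2 ≤ Fintype.card K := Fintype.one_lt_card
              omega]
            exact FiniteField.pow_card_sub_one_eq_one _ hc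
          rw [e]
          exact pow_mem (show c + σ c ∈ R from hsum c) _
        have := hmul _ (gen_mem (c * c) c) _ (show (c + σ c)⁻¹ ∈ T from hinv)
        convert this using 1
        rw [map_mul]
        field_simp
      by_cases hc : a + σ a = 0
      · obtain ⟨c, hc'⟩ : ∃ c, c + σ c ≠ 0 := by
          by_contra hno
          push Not at hno
          apply hσσ
          apply RingEquiv.ext
          intro x
          change σ (σ x) = x
          linear_combination hno (σ x) - hno x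
        have h5 := good (a + c) (by
          rw [map_add]
          intro e
          exact hc' (by linear_combination e - hc))
        have h6 := sub_mem (sub_mem h5 (gen_mem a c)) (good c hc')
        convert h6 using 1
        rw [map_add]
        ring
      · exact good a hc
    have e2 : τ (a * σ a) = a * σ a := by rw [hτ]; exact hfixR _ hprod
    rw [map_add] at e1
    rw [map_mul] at e2
    have : (τ a - a) * (τ a - σ a) = 0 := by linear_combination τ a * e1 - e2
    rcases mul_eq_zero.mp this with h' | h'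
    · exact Or.inl (sub_eq_zero.mp h')
    · exact Or.inr (sub_eq_zero.mp h')
  have hτ1 : τ = 1 := by
    by_contra hne
    obtain ⟨a₀, ha₀⟩ : ∃ a, τ a ≠ a := by
      by_contra hno
      push Not at hno
      exact hne (RingEquiv.ext hno)
    have hτσ : τ = σ := by
      apply RingEquiv.ext
      intro a
      rcases key a with h' | h'
      · have h0 : τ a₀ = σ a₀ := (key a₀).resolve_left ha₀
        rcases key (a + a₀) with h'' | h''
        · rw [map_add, h'] at h''
          exact absurd (add_left_cancel h'') ha₀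
        · rw [map_add, map_add, h0] at h''
          exact add_right_cancel h''
      · exact h'
    apply hσσ
    apply RingEquiv.ext
    intro a
    change σ (σ a) = a
    have e1 : τ (a + σ a) = a + σ a := by rw [hτ]; exact hfixR _ (hsum a)
    rw [hτσ, map_add, add_comm a] at e1
    exact add_left_cancel e1
  letI := Fintype.ofFinite K
  by_contra ht
  have hlt : Fintype.card R < Fintype.card K :=
    Fintype.card_subtype_lt (p := fun x => x ∈ R) ht
  have hall : ∀ x : K, x ^ Fintype.card R = x := fun x => by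
    rw [hn, ← hτ, hτ1]; rfl
  have h1lt : 1 < Fintype.card R := Fintype.one_lt_card
  have hf := FiniteField.X_pow_card_sub_X_ne_zero K h1lt
  have hroots : (univ : Finset K).val ⊆
      (Polynomial.X ^ Fintype.card R - Polynomial.X : Polynomial K).roots := by
    intro x _
    rw [Polynomial.mem_roots hf]
    simp [Polynomial.IsRoot, hall x]
  have := Polynomial.card_le_degree_of_subset_roots hroots
  rw [card_univ, FiniteField.X_pow_card_sub_X_natDegree_eq K h1lt] at this
  omega

/-- Main contradiction, `Y` not nilpotent. -/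
theorem noPair_aux (h : SpaceData ρ S) (hσ : σ ≠ 1) (hY : IsComp ρ σ Y)
    (hZ : IsComp ρ σ⁻¹ Z) (hZ0 : σ * σ = 1 → Z = 0) (hX : Y + Z ∈ S)
    (hR0 : Y ^ orderOf σ ≠ 0) : False := by
  classical
  set k := orderOf σ with hk
  have hkpos : 0 < k := orderOf_aut_pos σ
  set R := Y ^ k with hR
  have hYne : Y ≠ 0 := by
    intro e
    apply hR0
    rw [hR, e, zero_pow hkpos.ne']
  obtain ⟨c₁, c₂, hc₁, hc₂⟩ := exists_cross h hY hZ hZ0 hX
  have hσc : σ c₂ = c₁ := by
    by_contra hne
    apply sub_ne_zero.mpr hne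
    apply eq_zero_of_smul_comp h hYne
    rw [map_sub, sub_mul, ← hY, hc₂, hc₁, mul_assoc, sub_self]
  obtain ⟨d, hd⟩ : ∃ d, ρ d = R + Z ^ k := by
    obtain ⟨a, ha⟩ := comp_one_mem_range h.smulU h.maximal (h.pow_mem hX k)
    obtain ⟨b, hb⟩ := comp_one_lowPart hY hZ (pow_sub_mem_lowPart hY hZ hc₁ hc₂ hkpos)
    refine ⟨a - b, ?_⟩
    rw [map_sub, ha, hb, ← map_sub, sub_sub_cancel, map_add]
    have e1 : IsComp ρ 1 (Y ^ k) := by
      have := hY.pow k; rwa [hk, pow_orderOf_eq_one] at this
    have e2 : IsComp ρ 1 (Z ^ k) := by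
      have := hZ.pow k; rwa [inv_pow, hk, pow_orderOf_eq_one, inv_one] at this
    rw [comp_self e1, comp_self e2]
  have hZY : Z ^ k * Y = Y * Z ^ k := by
    obtain ⟨k', hk'⟩ : ∃ k', k = k' + 1 := ⟨k - 1, by omega⟩
    rw [hk']
    nth_rw 1 [pow_succ]
    rw [mul_assoc, ← hc₂, hZ.pow k', pow_succ' Z k', ← mul_assoc, ← hc₁]
    congr 2
    rw [← hσc]
    congr 1
    rw [inv_pow, inv_eq_iff_mul_eq_one, ← pow_succ, ← hk', hk, pow_orderOf_eq_one]
  have hdσ : σ d = d := by
    by_contra hne
    apply sub_ne_zero.mpr hne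
    apply eq_zero_of_smul_comp h hYne
    rw [map_sub, sub_mul, ← hY, hd, mul_add, add_mul, hZY, hR, ← pow_succ', ← pow_succ, sub_self]
  have hprod : ∀ j, Y ^ j * Z ^ j = ρ (normPow σ j c₁) := by
    intro j
    induction j with
    | zero => simp [normPow_zero]
    | succ j ih =>
      rw [pow_succ' Y, pow_succ Z, mul_assoc, ← mul_assoc (Y ^ j), ih, ← mul_assoc, hY,
        mul_assoc, ← hc₁, ← map_mul, normPow_succ, mul_comm]
  set g := normPow σ k c₁ with hg
  have hgσ : σ g = g := normPow_fixed σ k (by rw [hk, pow_orderOf_eq_one]) c₁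
  have hρR : ∀ a, Commute R (ρ a) := fun a => by
    have := hY.pow k a
    rw [hk, pow_orderOf_eq_one] at this
    exact this
  have hquad : R * R - ρ d * R + ρ g = 0 := by
    rw [← hprod k, ← hR, show Z ^ k = ρ d - R by rw [hd, add_sub_cancel_left], mul_sub,
      (hρR d).eq]
    abel
  have hXk0 : c₁ = 0 → d ≠ 0 := by
    intro hc hd0
    have hc2 : c₂ = 0 := by
      apply σ.injective
      rw [hσc, hc, map_zero]
    have hpow : ∀ j, 1 ≤ j → (Y + Z) ^ j = Y ^ j + Z ^ j := by
      intro j hj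
      induction j, hj using Nat.le_induction with
      | base => simp
      | succ j hj ih =>
        obtain ⟨i, rfl⟩ : ∃ i', j = i' + 1 := ⟨j - 1, by omega⟩
        rw [pow_succ', ih, add_mul, mul_add, mul_add, pow_succ' Z i, pow_succ' Y i,
          ← mul_assoc Y Z, ← mul_assoc Z Y, ← hc₁, ← hc₂, hc, hc2, map_zero, zero_mul, zero_mul,
          add_zero, zero_add, ← pow_succ' Y, ← pow_succ' Z, ← pow_succ' Y, ← pow_succ' Z]
    have hne : Y + Z ≠ 0 := by
      intro e
      apply hYne
      have := congrArg (comp ρ σ) e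
      rw [map_add, map_zero, comp_self hY] at this
      by_cases hσσ : σ * σ = 1
      · rwa [hZ0 hσσ, map_zero, add_zero] at this
      · rwa [comp_other hZ (fun e' => hσσ (by nth_rw 1 [← e']; exact inv_mul_cancel σ)),
          add_zero] at this
    have hu := (h.unit _ hX hne).pow k
    rw [hpow k hkpos, ← hd, hd0, map_zero] at hu
    obtain ⟨x, hx⟩ := exists_ne (0 : W)
    obtain ⟨u, hu⟩ := hu
    exact hx (by
      have h1 := u.inv_mul
      rw [hu, mul_zero] at h1
      exact (DFunLike.congr_fun h1 x).symm)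
  have hne_elem : ∀ u : K, ∀ t : K, t ≠ 0 → ρ u + (ρ t * Y + ρ (σ⁻¹ t) * Z) ≠ 0 := by
    intro u t ht e
    have := congrArg (comp ρ σ) e
    rw [map_add, map_add, map_zero, comp_other (isComp_one_rho u) (Ne.symm hσ), zero_add,
      comp_self (hY.smul t)] at this
    have hZc : comp ρ σ (ρ (σ⁻¹ t) * Z) = 0 := by
      by_cases hσσ : σ * σ = 1
      · rw [hZ0 hσσ, mul_zero, map_zero]
      · exact comp_other (hZ.smul _) (fun e' => hσσ (by nth_rw 1 [← e']; exact inv_mul_cancel σ))
    rw [hZc, add_zero] at this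
    exact ht (eq_zero_of_smul_comp h hYne this)
  have kill : ∀ T ∈ S, T ≠ 0 → ∀ v, v ≠ 0 → T v ≠ 0 := by
    intro T hT hT0 v hv hTv
    obtain ⟨u, hu⟩ := h.unit T hT hT0
    apply hv
    have : ((↑u⁻¹ : AddMonoid.End W) * T) v = v := by rw [← hu, Units.inv_mul]; rfl
    change (↑u⁻¹ : AddMonoid.End W) (T v) = v at this
    rw [hTv, map_zero] at this
    exact this.symm
  by_cases hroot : ∃ r, σ r = r ∧ r * r - d * r + g = 0
  · obtain ⟨r, r', hr, hr', hsum, hrr', hr0⟩ : ∃ r r', σ r = r ∧ σ r' = r' ∧ r + r' = d ∧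
        r * r' = g ∧ r ≠ 0 := by
      by_cases hg0 : g = 0
      · refine ⟨d, 0, hdσ, map_zero σ, add_zero d, by rw [mul_zero, hg0], hXk0 ?_⟩
        by_contra hc
        exact normPow_ne_zero σ k hc hg0
      · obtain ⟨r, hr, hre⟩ := hroot
        refine ⟨r, d - r, hr, by rw [map_sub, hdσ, hr], by ring, by linear_combination -hre, ?_⟩
        intro e
        subst e
        exact hg0 (by simpa using hre)
    have hfac : (R - ρ r) * (R - ρ r') = 0 := by
      rw [← hquad, ← hsum, ← hrr', map_add, map_mul, mul_sub, sub_mul, sub_mul, add_mul,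
        (hρR r').eq]
      abel
    obtain ⟨r₁, W', hW'ne, hr₁σ, hr₁0, hW', hW'inv, hW'ρ⟩ : ∃ (r₁ : K) (W' : AddSubgroup W),
        W' ≠ ⊥ ∧ σ r₁ = r₁ ∧ r₁ ≠ 0 ∧ (∀ x ∈ W', R x = ρ r₁ x) ∧ (∀ x ∈ W', Y x ∈ W') ∧
        ∀ a, ∀ x ∈ W', ρ a x ∈ W' := by
      by_cases hz : R - ρ r' = 0
      · refine ⟨r', ⊤, ?_, hr', ?_, fun x _ => DFunLike.congr_fun (sub_eq_zero.mp hz) x,
          fun _ _ => trivial, fun _ _ _ => trivial⟩
        · intro e
          obtain ⟨x, hx⟩ := exists_ne (0 : W)
          have : x ∈ (⊤ : AddSubgroup W) := trivial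
          rw [e, AddSubgroup.mem_bot] at this
          exact hx this
        · intro e
          apply hR0
          rw [sub_eq_zero.mp hz, e, map_zero]
      · refine ⟨r, (R - ρ r' : AddMonoid.End W).range, ?_, hr, hr0, ?_, ?_, ?_⟩
        · intro e
          apply hz
          apply AddMonoidHom.ext
          intro x
          have : (R - ρ r') x ∈ (R - ρ r' : AddMonoid.End W).range := ⟨x, rfl⟩
          rw [e, AddSubgroup.mem_bot] at this
          exact this
        · rintro _ ⟨x, rfl⟩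
          have := DFunLike.congr_fun hfac x
          exact sub_eq_zero.mp this
        · rintro _ ⟨x, rfl⟩
          refine ⟨Y x, ?_⟩
          change ((R - ρ r') * Y) x = (Y * (R - ρ r')) x
          rw [sub_mul, mul_sub, hY, hr', hR, ← pow_succ, ← pow_succ']
        · rintro a _ ⟨x, rfl⟩
          refine ⟨ρ a x, ?_⟩
          change ((R - ρ r') * ρ a) x = (ρ a * (R - ρ r')) x
          rw [sub_mul, mul_sub, (hρR a).eq, ← map_mul, mul_comm r', map_mul]
    obtain ⟨w, hw0, hw⟩ := normPow_surjective σ (r := r₁⁻¹)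
      (by rw [map_inv₀, hr₁σ]) (inv_ne_zero hr₁0)
    rw [← hk] at hw
    obtain ⟨v, hv, hv0, hTv⟩ := exists_fixed_vector ρ σ (ρ w * Y)
      (fun a => by rw [mul_assoc, hY, ← mul_assoc, ← map_mul, mul_comm w, map_mul, mul_assoc])
      W' hW'ρ (fun x hx => hW'ρ w _ (hW'inv x hx))
      (fun x hx => by
        rw [← hk, hY.smul_pow, hw]
        change ρ r₁⁻¹ (R x) = x
        rw [hW' x hx]
        change (ρ r₁⁻¹ * ρ r₁) x = x
        rw [← map_mul, inv_mul_cancel₀ hr₁0, map_one]
        rfl) hW'ne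
    set b := w⁻¹ with hb
    have hb0 : b ≠ 0 := inv_ne_zero hw0
    have hYv : Y v = ρ b v := by
      change ρ w (Y v) = v at hTv
      have h4 : ρ b (ρ w (Y v)) = ρ b v := by rw [hTv]
      change (ρ b * ρ w) (Y v) = _ at h4
      rw [← map_mul, inv_mul_cancel₀ hw0, map_one] at h4
      exact h4
    have hb0' : σ⁻¹ b ≠ 0 := (map_ne_zero_iff _ (σ⁻¹ : RingAut K).injective).mpr hb0
    have hZv : Z v = ρ ((σ⁻¹ b)⁻¹ * c₂) v := by
      have h1 : ρ c₂ v = ρ (σ⁻¹ b) (Z v) := by
        rw [hc₂]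
        change Z (Y v) = _
        rw [hYv]
        change (Z * ρ b) v = _
        rw [hZ]
        rfl
      rw [map_mul]
      change Z v = ρ (σ⁻¹ b)⁻¹ (ρ c₂ v)
      rw [h1]
      change _ = (ρ (σ⁻¹ b)⁻¹ * ρ (σ⁻¹ b)) (Z v)
      rw [← map_mul, inv_mul_cancel₀ hb0', map_one]
      rfl
    have hu := hne_elem (-(b + (σ⁻¹ b)⁻¹ * c₂)) 1 one_ne_zero
    rw [map_one, one_mul, map_one, map_one, one_mul] at hu
    refine kill _ (add_mem (h.scalar _) hX) hu v hv0 ?_
    change ρ _ v + (Y v + Z v) = 0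
    rw [hYv, hZv, map_neg, map_add]
    change -(ρ b v + ρ ((σ⁻¹ b)⁻¹ * c₂) v) + (ρ b v + ρ ((σ⁻¹ b)⁻¹ * c₂) v) = 0
    exact neg_add_cancel _
  · push Not at hroot
    have hg0 : g ≠ 0 := by
      intro e
      exact hroot 0 (map_zero σ) (by simp [e])
    have hσσ : σ * σ ≠ 1 := by
      intro e
      apply hg0
      have : c₁ = 0 := rho_injective ρ (by rw [hc₁, hZ0 e, mul_zero, map_zero])
      rw [hg, this]
      exact Finset.prod_eq_zero (mem_range.mpr hkpos) (map_zero _)
    have hc10 : c₁ ≠ 0 := by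
      intro e
      apply hg0
      rw [hg, e]
      exact Finset.prod_eq_zero (mem_range.mpr hkpos) (map_zero _)
    have hYinj : Function.Injective Y := by
      rw [injective_iff_map_eq_zero]
      intro x hx
      have h1 : (R * Z ^ k) x = ρ g x := by rw [hR, hprod]
      have hYR : R * Z ^ k = Z ^ k * R := by
        rw [show Z ^ k = ρ d - R by rw [hd, add_sub_cancel_left], mul_sub, sub_mul, (hρR d).eq]
      have hRx : R x = 0 := by
        obtain ⟨k', hk'⟩ : ∃ k', k = k' + 1 := ⟨k - 1, by omega⟩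
        rw [hR, hk', pow_succ]
        change (Y ^ k') (Y x) = 0
        rw [hx, map_zero]
      rw [hYR] at h1
      change (Z ^ k) (R x) = ρ g x at h1
      rw [hRx, map_zero] at h1
      have h2 : (ρ g⁻¹ * ρ g) x = 0 := by
        change ρ g⁻¹ (ρ g x) = 0
        rw [← h1, map_zero]
      rwa [← map_mul, inv_mul_cancel₀ hg0, map_one] at h2
    obtain ⟨v, β, γ, hv0, hv⟩ := exists_step hY hdσ hgσ hg0 hquad hYinj hroot
    have hind : ∀ b, Y v ≠ ρ b v := by
      intro b hYb
      have hN : σ (normPow σ k b) = normPow σ k b :=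
        normPow_fixed σ k (by rw [hk, pow_orderOf_eq_one]) b
      apply hroot _ hN
      by_contra hne
      apply hv0
      have hRv : R v = ρ (normPow σ k b) v := hY.pow_eigen hYb k
      have h1 : (R * R - ρ d * R + ρ g) v = 0 := by rw [hquad]; rfl
      change R (R v) - ρ d (R v) + ρ g v = 0 at h1
      rw [hRv] at h1
      change (R * ρ (normPow σ k b)) v - ρ d (ρ (normPow σ k b) v) + ρ g v = 0 at h1
      rw [(hρR _).eq] at h1
      change ρ _ (R v) - ρ d (ρ (normPow σ k b) v) + ρ g v = 0 at h1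
      rw [hRv] at h1
      set e := normPow σ k b * normPow σ k b - d * normPow σ k b + g
      have h2 : ρ e v = 0 := by
        rw [map_add, map_sub, map_mul, map_mul]
        exact h1
      have h3 : (ρ e⁻¹ * ρ e) v = 0 := by
        change ρ e⁻¹ (ρ e v) = 0
        rw [h2, map_zero]
      rwa [← map_mul, inv_mul_cancel₀ hne, map_one] at h3
    have indep : ∀ a b : K, ρ a (Y v) + ρ b v = 0 → a = 0 ∧ b = 0 := by
      intro a b hab
      by_cases ha : a = 0
      · refine ⟨ha, ?_⟩
        by_contra hb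
        apply hv0
        rw [ha, map_zero] at hab
        have hb' : ρ b v = 0 := by simpa using hab
        have h3 : (ρ b⁻¹ * ρ b) v = 0 := by
          change ρ b⁻¹ (ρ b v) = 0
          rw [hb', map_zero]
        rwa [← map_mul, inv_mul_cancel₀ hb, map_one] at h3
      · exfalso
        apply hind (-(a⁻¹ * b))
        have h3 : ρ a⁻¹ (ρ a (Y v) + ρ b v) = 0 := by rw [hab, map_zero]
        rw [map_add] at h3
        change (ρ a⁻¹ * ρ a) (Y v) + (ρ a⁻¹ * ρ b) v = 0 at h3
        rw [← map_mul, inv_mul_cancel₀ ha, map_one, ← map_mul] at h3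
        rw [map_neg]
        exact eq_neg_of_add_eq_zero_left h3
    set α := (casSeq σ β γ k).1
    set δ := (casSeq σ β γ k).2
    set α₁ := (casSeq σ β γ (k + 1)).1
    set δ₁ := (casSeq σ β γ (k + 1)).2
    have hRv : R v = ρ α (Y v) + ρ δ v := casSeq_spec hY hv k
    have hRYv : R (Y v) = ρ α₁ (Y v) + ρ δ₁ v := by
      rw [← casSeq_spec hY hv (k + 1), pow_succ]
      rfl
    have h1 : (R * R - ρ d * R + ρ g) v = 0 := by rw [hquad]; rfl
    change R (R v) - ρ d (R v) + ρ g v = 0 at h1
    have hRR : R (R v) = ρ α (R (Y v)) + ρ δ (R v) := by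
      conv_lhs => rw [hRv, map_add]
      change (R * ρ α) (Y v) + (R * ρ δ) v = _
      rw [(hρR α).eq, (hρR δ).eq]
      rfl
    rw [hRR, hRYv, hRv, map_add, map_add, map_add] at h1
    have h2 := indep (α * α₁ + δ * α - d * α) (α * δ₁ + δ * δ - d * δ + g) (by
      rw [← h1]
      simp only [map_add, map_sub, map_mul]
      change (ρ α (ρ α₁ (Y v)) + ρ δ (ρ α (Y v)) - ρ d (ρ α (Y v))) +
        (ρ α (ρ δ₁ v) + ρ δ (ρ δ v) - ρ d (ρ δ v) + ρ g v) = _
      abel)
    have hdet : normPow σ k (-γ) = g := by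
      rw [← casSeq_det σ β γ k]
      change δ * α₁ - δ₁ * α = g
      by_cases hα : α = 0
      · rw [hα] at h2 hRv
        have hRv' : R v = ρ δ v := by simpa using hRv
        have hRY : R (Y v) = ρ (σ δ) (Y v) := by
          change (R * Y) v = (ρ (σ δ) * Y) v
          rw [hR, ← pow_succ, pow_succ', ← hR, ← hY]
          exact congrArg Y hRv'
        have h3 := indep (α₁ - σ δ) δ₁ (by
          rw [map_sub]
          change ρ α₁ (Y v) - ρ (σ δ) (Y v) + ρ δ₁ v = 0
          rw [← hRY, hRYv]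
          abel)
        have hroot' : δ * δ - d * δ + g = 0 := by linear_combination h2.2
        have hσδ : σ δ ≠ δ := fun e => hroot δ e hroot'
        have e1 := congrArg σ hroot'
        simp only [map_add, map_sub, map_mul, map_zero, hdσ, hgσ] at e1
        have e2 : (σ δ - δ) * (σ δ + δ - d) = 0 := by linear_combination e1 - hroot'
        have e3 : σ δ + δ - d = 0 :=
          (mul_eq_zero.mp e2).resolve_left (sub_ne_zero.mpr hσδ)
        rw [hα, mul_zero, sub_zero, show α₁ = σ δ from sub_eq_zero.mp h3.1]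
        linear_combination δ * e3 - hroot'
      · have e1 : α₁ + δ - d = 0 := by
          have : α * (α₁ + δ - d) = 0 := by linear_combination h2.1
          exact (mul_eq_zero.mp this).resolve_left hα
        linear_combination δ * e1 - h2.2
    have hu1 : normPow σ k (-γ / c₁) = 1 := by
      have h4 := normPow_mul σ k (-γ / c₁) c₁
      rw [div_mul_cancel₀ _ hc10, hdet, ← hg] at h4
      exact mul_right_cancel₀ hg0 (by rw [one_mul, ← h4])
    obtain ⟨t, ht0, ht⟩ := hilbert90 σ (u := -γ / c₁) hu1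
    have hmemt : ρ t * Y + ρ (σ⁻¹ t) * Z ∈ S := by
      clear ht ht0
      induction mem_twistClosure σ hσσ t using AddSubgroup.closure_induction with
      | mem x hx =>
        obtain ⟨b, c, rfl⟩ := hx
        have hpol := sub_mem (sub_mem (h.smulU (b + c) _ hX) (h.smulU b _ hX)) (h.smulU c _ hX)
        convert hpol using 1
        have e : ρ (b + c) * (Y + Z) * ρ (b + c) - ρ b * (Y + Z) * ρ b - ρ c * (Y + Z) * ρ c
            = ρ b * (Y * ρ c) + ρ c * (Y * ρ b) + (ρ b * (Z * ρ c) + ρ c * (Z * ρ b)) := by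
          rw [map_add]
          noncomm_ring
        rw [e, hY, hY, hZ, hZ]
        have e2 : σ⁻¹ (b * σ c + c * σ b) = c * σ⁻¹ b + b * σ⁻¹ c := by
          rw [map_add, map_mul, map_mul]
          change σ⁻¹ b * σ.symm (σ c) + σ⁻¹ c * σ.symm (σ b) = _
          rw [σ.symm_apply_apply, σ.symm_apply_apply]
          ring
        rw [e2]
        simp only [map_add, map_mul]
        noncomm_ring
      | zero => simp
      | add x y _ _ hx hy =>
        rw [map_add, map_add, map_add, add_mul, add_mul, add_add_add_comm]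
        exact add_mem hx hy
      | neg x _ hx =>
        rw [map_neg, map_neg, map_neg, neg_mul, neg_mul, ← neg_add]
        exact neg_mem hx
    set u := σ⁻¹ (-(σ t * β)) with hu
    have hu' : σ u = -(σ t * β) := σ.apply_symm_apply _
    refine kill _ (add_mem (h.scalar u) hmemt) (hne_elem u t ht0) v hv0 ?_
    apply hYinj
    rw [map_zero]
    change (Y * (ρ u + (ρ t * Y + ρ (σ⁻¹ t) * Z))) v = 0
    rw [mul_add, mul_add, ← mul_assoc, ← mul_assoc, hY, hY, hY, mul_assoc _ Y Z, ← hc₁, hu',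
      show σ (σ⁻¹ t) = t from σ.apply_symm_apply t]
    change ρ _ (Y v) + (ρ (σ t) (Y (Y v)) + ρ t (ρ c₁ v)) = 0
    rw [hv, map_add]
    change ρ _ (Y v) + ((ρ (σ t) * ρ β) (Y v) + (ρ (σ t) * ρ γ) v + (ρ t * ρ c₁) v) = 0
    rw [← map_mul, ← map_mul, ← map_mul, map_neg,
      show t * c₁ = -(σ t * γ) by
        field_simp at ht
        linear_combination -ht
      , map_neg]
    change -(ρ (σ t * β) (Y v)) + (ρ (σ t * β) (Y v) + ρ (σ t * γ) v + -(ρ (σ t * γ) v)) = 0
    abel

/-- A member of `S` has no proper semilinear part. -/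
theorem noPair (h : SpaceData ρ S) (hσ : σ ≠ 1) (hY : IsComp ρ σ Y) (hZ : IsComp ρ σ⁻¹ Z)
    (hZ0 : σ * σ = 1 → Z = 0) (hX : Y + Z ∈ S) (hY0 : Y ≠ 0) : False := by
  classical
  by_cases hR : Y ^ orderOf σ = 0
  swap
  · exact noPair_aux h hσ hY hZ hZ0 hX hR
  obtain ⟨x, hx⟩ := exists_ne (0 : W)
  have hk : 0 < orderOf σ := orderOf_aut_pos σ
  by_cases hσσ : σ * σ = 1
  · rw [hZ0 hσσ, add_zero] at hX
    obtain ⟨u, hu⟩ := (h.unit _ hX hY0).pow (orderOf σ)
    apply hx
    have h1 := u.inv_mul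
    rw [hu, hR, mul_zero] at h1
    exact (DFunLike.congr_fun h1 x).symm
  refine noPair_aux (σ := σ⁻¹) (Y := Z) (Z := Y) h (inv_ne_one.mpr hσ) hZ
    (by rw [inv_inv]; exact hY)
    (fun e => absurd (by rw [← mul_inv_rev] at e; exact inv_eq_one.mp e) hσσ)
    (by rw [add_comm]; exact hX) ?_
  rw [orderOf_inv]
  intro hZk
  obtain ⟨c₁, c₂, hc₁, hc₂⟩ := exists_cross h hY hZ hZ0 hX
  set k := orderOf σ
  obtain ⟨a, ha⟩ := comp_one_mem_range h.smulU h.maximal (h.pow_mem hX k)
  have hc10 : c₁ = 0 := by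
    by_contra hc
    have hprod : ∀ j, Y ^ j * Z ^ j = ρ (normPow σ j c₁) := by
      intro j
      induction j with
      | zero => simp [normPow_zero]
      | succ j ih =>
        rw [pow_succ' Y, pow_succ Z, mul_assoc, ← mul_assoc (Y ^ j), ih, ← mul_assoc, hY,
          mul_assoc, ← hc₁, ← map_mul, normPow_succ, mul_comm]
    have h1 := hprod k
    rw [hR, zero_mul, eq_comm, ← map_zero ρ] at h1
    exact normPow_ne_zero σ k hc (rho_injective ρ h1)
  have hc20 : c₂ = 0 := by
    by_contra hc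
    have h3 : Y * ρ c₂ = ρ c₁ * Y := by rw [hc₂, hc₁, mul_assoc]
    rw [hY, hc10, map_zero, zero_mul] at h3
    exact hc (σ.injective (by rw [eq_zero_of_smul_comp h hY0 h3, map_zero]))
  have hpow : ∀ j, 1 ≤ j → (Y + Z) ^ j = Y ^ j + Z ^ j := by
    intro j hj
    induction j, hj using Nat.le_induction with
    | base => simp
    | succ j hj ih =>
      obtain ⟨i, rfl⟩ : ∃ i', j = i' + 1 := ⟨j - 1, by omega⟩
      rw [pow_succ', ih, add_mul, mul_add, mul_add, pow_succ' Z i, pow_succ' Y i,
        ← mul_assoc Y Z, ← mul_assoc Z Y, ← hc₁, ← hc₂, hc10, hc20, map_zero, zero_mul, zero_mul,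
        add_zero, zero_add, ← pow_succ' Y, ← pow_succ' Z, ← pow_succ' Y, ← pow_succ' Z]
  have hne : Y + Z ≠ 0 := by
    intro e
    apply hY0
    have h4 := congrArg (comp ρ σ) e
    rwa [map_add, map_zero, comp_self hY,
      comp_other hZ (fun e' => hσσ (by nth_rw 1 [← e']; exact inv_mul_cancel σ)),
      add_zero] at h4
  obtain ⟨u, hu⟩ := (h.unit _ hX hne).pow k
  apply hx
  have h1 := u.inv_mul
  rw [hu, hpow k hk, hR, hZk, add_zero, mul_zero] at h1
  exact (DFunLike.congr_fun h1 x).symm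

/-- Every member of `S` is a scalar. -/
theorem mem_range_of_mem (h : SpaceData ρ S) {X : AddMonoid.End W} (hX : X ∈ S) :
    ∃ a, ρ a = X := by
  classical
  letI := Fintype.ofFinite (RingAut K)
  by_cases hcase : ∃ σ : RingAut K, σ ≠ 1 ∧ comp ρ σ X ≠ 0
  · obtain ⟨σ, hσ, hne⟩ := hcase
    obtain ⟨Y, Z, hY, hZ, hZ0, hmem, hY0⟩ := exists_class h.smulU σ hσ hX hne
    exact absurd (noPair h hσ hY hZ hZ0 hmem hY0) id
  · push Not at hcase
    refine h.maximal X hX ?_
    rw [← sum_comp (ρ := ρ) X, Finset.sum_eq_single 1 (fun τ _ hτ => hcase τ hτ)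
      (fun e => absurd (mem_univ _) e)]
    exact isComp_comp 1 X

end NoPair

end Cfsg.Lib.Plane
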