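import Cfsg.Agent.Lib.Plane.Perspectivity
import Cfsg.Agent.Lib.Plane.Orbits

/-!
# Collineation groups doubly transitive on points
-/

set_option autoImplicit false
set_option linter.unusedSectionVars false
set_option linter.style.haveILetI false

namespace Cfsg.Lib.Plane

open Configuration MulAction

variable {P L : Type*} [Membership P L]

/-- `G` is doubly transitive on points. -/
def TwoTrans (G : Subgroup (Coll P L)) : Prop :=
  ∀ ⦃p q p' q' : P⦄, p ≠ q → p' ≠ q' → ∃ g ∈ G, g • p = p' ∧ g • q = q'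

/-- The subgroup of `G` fixing the point `p`. -/
def stP (G : Subgroup (Coll P L)) (p : P) : Subgroup (Coll P L) := G ⊓ stabilizer (Coll P L) p

/-- The subgroup of `G` fixing the line `l`. -/
def stL (G : Subgroup (Coll P L)) (l : L) : Subgroup (Coll P L) := G ⊓ stabilizer (Coll P L) l

/-- The subgroup of `G` fixing the point `c` and the line `l`. -/
def stF (G : Subgroup (Coll P L)) (c : P) (l : L) : Subgroup (Coll P L) := stP G c ⊓ stL G l

theorem mem_stP {G : Subgroup (Coll P L)} {p : P} {g : Coll P L} :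
    g ∈ stP G p ↔ g ∈ G ∧ g • p = p := Iff.rfl

theorem mem_stL {G : Subgroup (Coll P L)} {l : L} {g : Coll P L} :
    g ∈ stL G l ↔ g ∈ G ∧ g • l = l := Iff.rfl

theorem mem_stF {G : Subgroup (Coll P L)} {c : P} {l : L} {g : Coll P L} :
    g ∈ stF G c l ↔ g ∈ G ∧ g • c = c ∧ g • l = l :=
  ⟨fun h => ⟨h.1.1, h.1.2, h.2.2⟩, fun h => ⟨⟨h.1, h.2.1⟩, ⟨h.1, h.2.2⟩⟩⟩

/-- The dual group. -/
def dualGroup (G : Subgroup (Coll P L)) : Subgroup (Coll (Dual L) (Dual P)) :=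
  G.map (dualEquiv (P := P) (L := L)).toMonoidHom

theorem mem_dualGroup {G : Subgroup (Coll P L)} {g : Coll P L} (hg : g ∈ G) :
    dualEquiv g ∈ dualGroup G := Subgroup.mem_map_of_mem _ hg

theorem exists_of_mem_dualGroup {G : Subgroup (Coll P L)} {x : Coll (Dual L) (Dual P)}
    (hx : x ∈ dualGroup G) : ∃ g ∈ G, dualEquiv g = x := Subgroup.mem_map.mp hx

variable [ProjectivePlane P L] [Finite P] [Finite L]
variable {G : Subgroup (Coll P L)}

theorem exists_other (p : P) (L : Type*) [Membership P L] [ProjectivePlane P L] [Finite L] :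
    ∃ q : P, q ≠ p := by
  obtain ⟨l⟩ := nonempty_line (L := L) P
  obtain ⟨q, -, hq, -⟩ := exists_mem_ne_ne l p p
  exact ⟨q, hq⟩

namespace TwoTrans

theorem point_trans (h : TwoTrans G) (p p' : P) : ∃ g ∈ G, g • p = p' := by
  obtain ⟨q, hq⟩ := exists_other p L
  obtain ⟨q', hq'⟩ := exists_other p' L
  obtain ⟨g, hg, e, -⟩ := h hq.symm hq'.symm
  exact ⟨g, hg, e⟩

theorem stP_trans (h : TwoTrans G) {p q q' : P} (hq : q ≠ p) (hq' : q' ≠ p) :
    ∃ g ∈ stP G p, g • q = q' := by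
  obtain ⟨g, hg, e1, e2⟩ := h hq.symm hq'.symm
  exact ⟨g, mem_stP.mpr ⟨hg, e1⟩, e2⟩

theorem flag_trans (h : TwoTrans G) {p p' : P} {l l' : L} (hp : p ∈ l) (hp' : p' ∈ l') :
    ∃ g ∈ G, g • p = p' ∧ g • l = l' := by
  obtain ⟨q, hq, hqp, -⟩ := exists_mem_ne_ne l p p
  obtain ⟨q', hq', hqp', -⟩ := exists_mem_ne_ne l' p' p'
  obtain ⟨g, hg, e1, e2⟩ := h hqp.symm hqp'.symm
  refine ⟨g, hg, e1, ?_⟩
  exact line_unique hqp' (mem_of_eq_pt e2.symm (smul_mem g hq))
    (mem_of_eq_pt e1.symm (smul_mem g hp)) hq' hp'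

theorem line_trans (h : TwoTrans G) (l l' : L) : ∃ g ∈ G, g • l = l' := by
  obtain ⟨p, hp, -, -⟩ := exists_mem_ne_ne l (nonempty_point P L).some (nonempty_point P L).some
  obtain ⟨p', hp', -, -⟩ := exists_mem_ne_ne l' (nonempty_point P L).some (nonempty_point P L).some
  obtain ⟨g, hg, -, e⟩ := h.flag_trans hp hp'
  exact ⟨g, hg, e⟩

theorem stP_trans_missing (h : TwoTrans G) {p : P} {l m : L} (hl : p ∉ l) (hm : p ∉ m) :
    ∃ g ∈ stP G p, g • l = m := by
  obtain ⟨q, hq⟩ := exists_other p L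
  refine exists_smul_line_eq (stP G p) p q (fun r => ?_) (fun m => p ∉ m) ?_ hl hm
    (t := join L p q) (fun h' => h' (join_left hq.symm))
  · by_cases hr : r = p
    · exact .inl ⟨1, one_mem _, (one_smul _ p).trans hr.symm⟩
    · exact .inr (h.stP_trans hq hr)
  · intro g hg m hm' h'
    exact hm' (by rw [← (mem_stP.mp hg).2] at h'; exact (smul_mem_iff g).mp h')

theorem antiflag_trans (h : TwoTrans G) {p p' : P} {l l' : L} (hp : p ∉ l) (hp' : p' ∉ l') :
    ∃ g ∈ G, g • p = p' ∧ g • l = l' := by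
  obtain ⟨g, hg, e⟩ := h.point_trans p p'
  have hgl : p' ∉ g • l := e ▸ smul_notMem g hp
  obtain ⟨k, hk, e'⟩ := h.stP_trans_missing hgl hp'
  refine ⟨k * g, mul_mem (mem_stP.mp hk).1 hg, ?_, ?_⟩
  · rw [mul_smul, e, (mem_stP.mp hk).2]
  · rw [mul_smul, e']

theorem stL_trans_off (h : TwoTrans G) {l : L} {p q : P} (hp : p ∉ l) (hq : q ∉ l) :
    ∃ g ∈ stL G l, g • p = q := by
  obtain ⟨g, hg, e1, e2⟩ := h.antiflag_trans hp hq
  exact ⟨g, mem_stL.mpr ⟨hg, e2⟩, e1⟩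

theorem stL_trans_on (h : TwoTrans G) {l : L} {p q : P} (hp : p ∈ l) (hq : q ∈ l) :
    ∃ g ∈ stL G l, g • p = q := by
  obtain ⟨g, hg, e1, e2⟩ := h.flag_trans hp hq
  exact ⟨g, mem_stL.mpr ⟨hg, e2⟩, e1⟩

theorem stL_trans_lines (h : TwoTrans G) {l m m' : L} (hm : m ≠ l) (hm' : m' ≠ l) :
    ∃ g ∈ stL G l, g • m = m' := by
  obtain ⟨a, ha, -, -⟩ := exists_mem_ne_ne l (nonempty_point P L).some (nonempty_point P L).some
  obtain ⟨b, hb⟩ := Nondegenerate.exists_point (P := P) l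
  refine exists_smul_line_eq (stL G l) a b (fun r => ?_) (fun k => k ≠ l) ?_ hm hm'
    (t := l) (fun h' => h' rfl)
  · by_cases hr : r ∈ l
    · exact .inl (h.stL_trans_on ha hr)
    · exact .inr (h.stL_trans_off hb hr)
  · intro g hg k hk h'
    rw [← (mem_stL.mp hg).2] at h'
    exact hk (smul_left_cancel g h')

theorem dual (h : TwoTrans G) : TwoTrans (dualGroup G) := by
  have key : ∀ ⦃a b a' b' : L⦄, a ≠ b → a' ≠ b' → ∃ g ∈ G, g • a = a' ∧ g • b = b' := by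
    intro a b a' b' hab hab'
    obtain ⟨g, hg, e⟩ := h.line_trans a a'
    have hgm : g • b ≠ a' := fun h' => hab (smul_left_cancel g (e.trans h'.symm))
    obtain ⟨k, hk, e'⟩ := h.stL_trans_lines hgm hab'.symm
    exact ⟨k * g, mul_mem (mem_stL.mp hk).1 hg, by rw [mul_smul, e, (mem_stL.mp hk).2],
      by rw [mul_smul, e']⟩
  intro l m l' m' hlm hlm'
  obtain ⟨g, hg, e, e'⟩ := key (a := l) (b := m) (a' := l') (b' := m') hlm hlm'
  exact ⟨dualEquiv g, mem_dualGroup hg, e, e'⟩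

theorem stF_trans_on (h : TwoTrans G) {c x y : P} {l : L} (hc : c ∈ l) (hx : x ∈ l) (hy : y ∈ l)
    (hxc : x ≠ c) (hyc : y ≠ c) : ∃ g ∈ stF G c l, g • x = y := by
  obtain ⟨g, hg, e1, e2⟩ := h hxc.symm hyc.symm
  exact ⟨g, mem_stF.mpr ⟨hg, e1, line_unique hyc (mem_of_eq_pt e2.symm (smul_mem g hx))
    (mem_of_eq_pt e1.symm (smul_mem g hc)) hy hc⟩, e2⟩

theorem card_orb_points (h : TwoTrans G) (p : P) :
    Nat.card ↥(orb G p) = ord P L ^ 2 + ord P L + 1 := by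
  rw [show orb G p = Set.univ from Set.eq_univ_of_forall fun q => h.point_trans p q,
    Nat.card_univ, card_points (L := L)]

theorem card_orb_off (h : TwoTrans G) {l : L} {p : P} (hp : p ∉ l) :
    Nat.card ↥(orb (stL G l) p) = ord P L ^ 2 := by
  rw [show orb (stL G l) p = {q | q ∉ l} from Set.ext fun q =>
    ⟨fun ⟨g, hg, e⟩ => show q ∉ l from e ▸ fun h' => hp ((smul_mem_iff g).mp
      (mem_of_eq_ln h' (mem_stL.mp hg).2.symm)),
     fun hq => h.stL_trans_off hp hq⟩]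
  exact card_off l

theorem card_orb_flag_line (h : TwoTrans G) {c : P} {l : L} (hc : c ∈ l) :
    Nat.card ↥(orb (stP G c) l) = ord P L + 1 := by
  rw [show orb (stP G c) l = {m | c ∈ m} from Set.ext fun m =>
    ⟨fun ⟨g, hg, e⟩ => show c ∈ m from mem_of_eq_ln
      (mem_of_eq_pt (mem_stP.mp hg).2.symm (smul_mem g hc)) e,
     fun hm => by
      obtain ⟨g, hg, e1, e2⟩ := h.flag_trans hc hm
      exact ⟨g, mem_stP.mpr ⟨hg, e1⟩, e2⟩⟩]
  exact card_through c

theorem card_orb_flag_point (h : TwoTrans G) {c : P} {l : L} (hc : c ∈ l) :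
    Nat.card ↥(orb (stL G l) c) = ord P L + 1 := by
  rw [show orb (stL G l) c = {q | q ∈ l} from Set.ext fun q =>
    ⟨fun ⟨g, hg, e⟩ => show q ∈ l from mem_of_eq_pt e.symm
      (smul_mem_fix (mem_stL.mp hg).2 hc),
     fun hq => h.stL_trans_on hc hq⟩]
  exact card_on l

theorem card_orb_on (h : TwoTrans G) {c x : P} {l : L} (hc : c ∈ l) (hx : x ∈ l) (hxc : x ≠ c) :
    Nat.card ↥(orb (stF G c l) x) = ord P L := by
  rw [show orb (stF G c l) x = {q | q ∈ l ∧ q ≠ c} from Set.ext fun q =>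
    ⟨fun ⟨g, hg, e⟩ => ⟨mem_of_eq_pt e.symm (smul_mem_fix (mem_stF.mp hg).2.2 hx),
      fun h' => hxc (smul_left_cancel g ((e.trans h').trans (mem_stF.mp hg).2.1.symm))⟩,
     fun hq => h.stF_trans_on hc hx hq.1 hxc hq.2⟩]
  exact card_mem_ne hc

end TwoTrans

end Cfsg.Lib.Plane
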