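import Cfsg.Agent.Lib.Plane.Involution
import Cfsg.Agent.Lib.Plane.TwoTrans

/-!
# Fixed structures of `p`-groups of collineations
-/

set_option autoImplicit false
set_option linter.unusedSectionVars false
set_option linter.style.haveILetI false

namespace Cfsg.Lib.Plane

open Configuration MulAction

section Group

variable {Γ : Type*} [Group Γ] [Finite Γ]

/-- A `p`-group fixes a point of any invariant set of size prime to `p`. -/
theorem exists_fixed_of_not_dvd {α : Type*} [MulAction Γ α] {p : ℕ} [Fact p.Prime]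
    {T : Subgroup Γ} (hT : IsPGroup p T) (Q : α → Prop) (hQ : ∀ t ∈ T, ∀ x, Q x → Q (t • x))
    (hcard : ¬p ∣ Nat.card {x // Q x}) : ∃ x, Q x ∧ ∀ t ∈ T, t • x = x := by
  letI : MulAction T {x // Q x} :=
    { smul := fun t x => ⟨(t : Γ) • x.1, hQ t t.2 x.1 x.2⟩
      one_smul := fun x => Subtype.ext (one_smul Γ x.1)
      mul_smul := fun a b x => Subtype.ext (mul_smul (a : Γ) b x.1) }
  obtain ⟨x, hx⟩ := hT.nonempty_fixed_point_of_prime_not_dvd_card {x // Q x} hcard
  exact ⟨x.1, x.2, fun t ht => congrArg Subtype.val (hx ⟨t, ht⟩)⟩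

/-- A nontrivial `p`-group has a central element of order `p`. -/
theorem exists_central_prime {p : ℕ} [Fact p.Prime] {T : Subgroup Γ} (hT : IsPGroup p T)
    (hne : T ≠ ⊥) : ∃ z ∈ T, orderOf z = p ∧ ∀ t ∈ T, t * z = z * t := by
  haveI : Nontrivial T := T.nontrivial_iff_ne_bot.mpr hne
  haveI := hT.center_nontrivial
  obtain ⟨m, hm⟩ := IsPGroup.iff_card.mp (hT.to_subgroup (Subgroup.center T))
  have hdvd : p ∣ Nat.card (Subgroup.center T) := by
    rw [hm]
    refine dvd_pow_self p fun h => ?_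
    rw [h, pow_zero] at hm
    exact absurd hm (Finite.one_lt_card).ne'
  obtain ⟨z, hz⟩ := exists_prime_orderOf_dvd_card' p hdvd
  refine ⟨((z : T) : Γ), z.1.2, by rw [Subgroup.orderOf_coe, Subgroup.orderOf_coe, hz],
    fun t ht => ?_⟩
  exact congrArg Subtype.val (Subgroup.mem_center_iff.mp z.2 ⟨t, ht⟩)

/-- An element with nontrivial image of `p`-power order has a power of `p`-power order with
nontrivial image. -/
theorem exists_ppower_lift {X : Type*} [Group X] {p : ℕ} [hp : Fact p.Prime] {N : Subgroup Γ}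
    (φ : N →* X) (g : N) (h1 : φ g ≠ 1) {i : ℕ} (hi : φ g ^ p ^ i = 1) :
    ∃ j : ℕ, φ (g ^ j) ≠ 1 ∧ IsPGroup p (Subgroup.zpowers (((g ^ j : N) : N) : Γ)) := by
  obtain ⟨c, d, hd, hcd⟩ := Nat.exists_eq_pow_mul_and_not_dvd
    (show orderOf g ≠ 0 from (orderOf_pos g).ne') p hp.out.ne_one
  refine ⟨d, fun h => h1 ?_, ?_⟩
  · rw [map_pow] at h
    have h2 : orderOf (φ g) ∣ Nat.gcd (p ^ i) d :=
      Nat.dvd_gcd (orderOf_dvd_of_pow_eq_one hi) (orderOf_dvd_of_pow_eq_one h)
    rw [(Nat.Coprime.pow_left i (hp.out.coprime_iff_not_dvd.mpr hd) : Nat.gcd (p ^ i) d = 1),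
      Nat.dvd_one, orderOf_eq_one_iff] at h2
    exact h2
  · rintro ⟨x, hx⟩
    obtain ⟨k, rfl⟩ := Subgroup.mem_zpowers_iff.mp hx
    refine ⟨c, Subtype.ext ?_⟩
    have e : ((g ^ d) ^ p ^ c : N) = 1 := by
      rw [← pow_mul, mul_comm, ← hcd, pow_orderOf_eq_one]
    change (((g ^ d : N) : Γ) ^ k) ^ p ^ c = 1
    rw [← zpow_natCast, zpow_comm, zpow_natCast, ← Subgroup.coe_pow, e, Subgroup.coe_one, one_zpow]

end Group

variable {P L : Type*} [Membership P L] [ProjectivePlane P L] [Finite P] [Finite L]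

/-- A group containing a nontrivial perspectivity fixes no quadrangle. -/
theorem not_hasQuad_of_axis {T : Subgroup (Coll P L)} {g : Coll P L} {l : L} (hgT : g ∈ T)
    (hl : Axis g l) (hg : g ≠ 1) : ¬HasQuad L (fixSet T) := by
  rintro ⟨a, ha, b, hb, c, hc, d, hd, habc, habd, hacd, hbcd⟩
  obtain ⟨e, he⟩ := exists_centre hl hg
  have h : ∀ x, x ∈ fixSet T → x = e ∨ x ∈ l := fun x hx =>
    fixed_point_cases hl he hg (hx g hgT)
  rcases h a ha with ea | ea
  · exact hbcd l ⟨(h b hb).resolve_left fun eb => habc.ne₁₂ (ea.trans eb.symm),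
      (h c hc).resolve_left fun ec => habc.ne₁₃ (ea.trans ec.symm),
      (h d hd).resolve_left fun ed => habd.ne₁₃ (ea.trans ed.symm)⟩
  rcases h b hb with eb | eb
  · exact hacd l ⟨ea, (h c hc).resolve_left fun ec => habc.ne₂₃ (eb.trans ec.symm),
      (h d hd).resolve_left fun ed => habd.ne₂₃ (eb.trans ed.symm)⟩
  rcases h c hc with ec | ec
  · exact habd l ⟨ea, eb, (h d hd).resolve_left fun ed => hacd.ne₂₃ (ec.trans ed.symm)⟩
  · exact habc l ⟨ea, eb, ec⟩

theorem indHom_eq_one {H : Subgroup (Coll P L)} (hq : HasQuad L (fixSet H)) {g : Coll P L}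
    (hn : g ∈ Subgroup.normalizer (H : Set (Coll P L))) :
    indHom H ⟨g, hn⟩ = 1 ↔ ∀ p ∈ fixSet H, g • p = p := by
  constructor
  · intro h p hp
    have h1 := indHom_point H ⟨g, hn⟩ ⟨p, hp⟩
    rw [h, one_smul] at h1
    exact h1.symm
  · intro h
    letI := fixPlane H hq
    exact coll_eq_one fun p => Subtype.ext ((indHom_point H ⟨g, hn⟩ p).trans (h p.1 p.2))

theorem indGroup_isPGroup {p : ℕ} {G : Subgroup (Coll P L)} (H : Subgroup (Coll P L))
    (hG : IsPGroup p G) : IsPGroup p (indGroup G H) := by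
  refine IsPGroup.map ?_ _
  exact hG.comap_of_injective _ (Subgroup.subtype_injective _)

/-- The points fixed by the induced group. -/
def fixIndEquiv {T H : Subgroup (Coll P L)} (hHT : H ≤ T)
    (hTN : T ≤ Subgroup.normalizer (H : Set (Coll P L))) :
    FixP (indGroup T H) ≃ FixP T where
  toFun x := ⟨x.1.1, fun t ht => congrArg Subtype.val (x.2 _ (mem_indGroup ht (hTN ht)))⟩
  invFun y := ⟨⟨y.1, fun h hh => y.2 h (hHT hh)⟩, fun z hz => by
    obtain ⟨g, hn, hg, rfl⟩ := exists_of_mem_indGroup hz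
    exact Subtype.ext (y.2 g hg)⟩
  left_inv _ := rfl
  right_inv _ := rfl

theorem hasQuad_indGroup {T H : Subgroup (Coll P L)} (hHT : H ≤ T)
    (hq : HasQuad L (fixSet T)) : HasQuad (FixL H) (fixSet (indGroup T H)) := by
  letI := fixPlane H (hq.mono (fixSet_anti hHT))
  refine (hasQuad_sub hq (fixSet_anti hHT)).mono ?_
  intro x hx z hz
  obtain ⟨g, hn, hg, rfl⟩ := exists_of_mem_indGroup hz
  exact Subtype.ext (hx g hg)

/-- The order of the plane is an iterated square of the order of the fixed subplane of a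
`2`-group. -/
theorem ord_eq_pow_fix {P : Type*} {L : Type*} [Membership P L] [ProjectivePlane P L] [Finite P]
    [Finite L] (T : Subgroup (Coll P L)) (hT : IsPGroup 2 T) (hq : HasQuad L (fixSet T)) :
    letI := fixPlane T hq
    ∃ j, ord (FixP T) (FixL T) ^ 2 ^ j = ord P L := by
  suffices key : ∀ (k : ℕ) (P : Type _) (L : Type _) [Membership P L] [ProjectivePlane P L]
      [Finite P] [Finite L] (T : Subgroup (Coll P L)) (hT : IsPGroup 2 T)
      (hq : HasQuad L (fixSet T)), Nat.card T = k →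
      letI := fixPlane T hq
      ∃ j, ord (FixP T) (FixL T) ^ 2 ^ j = ord P L from key _ P L T hT hq rfl
  intro k
  induction k using Nat.strong_induction_on with
  | _ k ih =>
  intro P L _ _ _ _ T hT hq hk
  letI := fixPlane T hq
  by_cases hne : T = ⊥
  · refine ⟨0, ?_⟩
    rw [pow_zero, pow_one]
    apply ord_eq_of_card_eq
    refine Nat.card_congr (Equiv.subtypeUnivEquiv fun p h hh => ?_)
    subst hne
    rw [Subgroup.mem_bot.mp hh, one_smul]
  obtain ⟨z, hz, hzo, hzc⟩ := exists_central_prime hT hne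
  have hz2 : z * z = 1 := by rw [← pow_two, ← hzo, pow_orderOf_eq_one]
  have hz1 : z ≠ 1 := fun h => by rw [h, orderOf_one] at hzo; omega
  rcases invol_dichotomy hz2 hz1 with ⟨l, hl⟩ | ⟨hqz, hm⟩
  · exact absurd hq (not_hasQuad_of_axis hz hl hz1)
  set Z := Subgroup.zpowers z with hZ
  have hZT : Z ≤ T := Subgroup.zpowers_le.mpr hz
  have hTN : T ≤ Subgroup.normalizer (Z : Set (Coll P L)) := fun t ht => by
    refine Subgroup.mem_normalizer_iff.mpr fun h => ?_
    have key : ∀ {x : Coll P L}, x ∈ Z → t * x * t⁻¹ = x := fun {x} hx => by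
      obtain ⟨i, rfl⟩ := Subgroup.mem_zpowers_iff.mp hx
      have : t * z * t⁻¹ = z := by rw [hzc t ht, mul_inv_cancel_right]
      rw [← conj_zpow, this]
    refine ⟨fun hh => by rw [key hh]; exact hh, fun hh => ?_⟩
    have h2 : t * (t * h * t⁻¹) * t⁻¹ = t * h * t⁻¹ := key hh
    have h3 := mul_left_cancel (mul_right_cancel h2)
    rw [h3] at hh
    exact hh
  letI := fixPlane Z hqz
  set T' := indGroup T Z with hT'
  have hqT' : HasQuad (FixL Z) (fixSet T') := hasQuad_indGroup hZT hq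
  have hlt : Nat.card T' < k := by
    rw [← hk]
    let f : T →* Coll (FixP Z) (FixL Z) := (indHom Z).comp (Subgroup.inclusion hTN)
    have hrange : T' = f.range := by
      ext x
      constructor
      · intro hx
        obtain ⟨g, hn, hg, e⟩ := exists_of_mem_indGroup hx
        exact ⟨⟨g, hg⟩, e⟩
      · rintro ⟨g, rfl⟩
        exact mem_indGroup g.2 (hTN g.2)
    rw [hrange]
    refine lt_of_le_of_ne (Nat.le_of_dvd Nat.card_pos (Subgroup.card_range_dvd f)) fun e => ?_
    have hinj : Function.Injective f := by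
      have hs : Function.Surjective f.rangeRestrict := f.rangeRestrict_surjective
      have := ((Nat.bijective_iff_surjective_and_card _).mpr ⟨hs, e.symm⟩).1
      exact fun a b hab => this (Subtype.ext hab)
    refine hz1 (congrArg Subtype.val (hinj (a₁ := (⟨z, hz⟩ : T)) (a₂ := 1) ?_))
    rw [map_one]
    exact (indHom_eq_one hqz (hTN hz)).mpr fun p hp => hp z (Subgroup.mem_zpowers z)
  obtain ⟨j, hj⟩ := ih _ hlt (FixP Z) (FixL Z) T' (indGroup_isPGroup Z hT) hqT' rfl
  refine ⟨j + 1, ?_⟩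
  letI := fixPlane T' hqT'
  have e : ord (FixP T') (FixL T') = ord (FixP T) (FixL T) :=
    ord_eq_of_card_eq (Nat.card_congr (fixIndEquiv hZT hTN))
  rw [pow_succ, pow_mul, ← e, hj, hm]

end Cfsg.Lib.Plane
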