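import Cfsg.Agent.Lib.Plane.PGroupFix
import Cfsg.Agent.Lib.Plane.Homology

/-!
# Without perspectivities a doubly transitive plane has odd prime power order
-/

set_option autoImplicit false
set_option linter.unusedSectionVars false
set_option linter.style.haveILetI false

namespace Cfsg.Lib.Plane

open Configuration MulAction

section Group

variable {Γ : Type*} [Group Γ] [Finite Γ] {α : Type*} [MulAction Γ α]

theorem dvd_card_of_orbits [Finite α] {H : Subgroup Γ} (Q : α → Prop)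
    (hQ : ∀ h ∈ H, ∀ x, Q x → Q (h • x)) {d : ℕ}
    (hd : ∀ x, Q x → d ∣ Nat.card ↥(orb H x)) : d ∣ Nat.card {x // Q x} := by
  letI act : MulAction H {x // Q x} :=
    { smul := fun h x => ⟨(h : Γ) • x.1, hQ h h.2 x.1 x.2⟩
      one_smul := fun x => Subtype.ext (one_smul Γ x.1)
      mul_smul := fun a b x => Subtype.ext (mul_smul (a : Γ) b x.1) }
  haveI := Fintype.ofFinite (MulAction.orbitRel.Quotient H {x // Q x})
  rw [Nat.card_congr (MulAction.selfEquivSigmaOrbitsQuotientStabilizer H {x // Q x}),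
    Nat.card_sigma]
  refine Finset.dvd_sum fun ω _ => (hd ω.out.1 ω.out.2).trans (dvd_of_eq ?_)
  rw [← Nat.card_congr (MulAction.orbitEquivQuotientStabilizer H ω.out)]
  exact Nat.card_congr
    { toFun := fun y => ⟨⟨y.1, by
        obtain ⟨k, hk, e⟩ := y.2
        exact e ▸ hQ k hk _ ω.out.2⟩, by
        obtain ⟨k, hk, e⟩ := y.2
        exact ⟨⟨k, hk⟩, Subtype.ext e⟩⟩
      invFun := fun y => ⟨y.1.1, by
        obtain ⟨k, e⟩ := y.2
        exact ⟨k, k.2, congrArg Subtype.val e⟩⟩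
      left_inv := fun _ => rfl
      right_inv := fun _ => rfl }

omit [Finite Γ] in
theorem fix_pow {x : Γ} {a : α} (h : x • a = a) (j : ℕ) : x ^ j • a = a := by
  induction j with
  | zero => rw [pow_zero, one_smul]
  | succ j ih => rw [pow_succ, mul_smul, h, ih]

theorem exists_invol_pow {x : Γ} (h : Even (orderOf x)) :
    ∃ j : ℕ, x ^ j * x ^ j = 1 ∧ x ^ j ≠ 1 := by
  obtain ⟨j, hj⟩ := h
  refine ⟨j, by rw [← pow_add, ← hj, pow_orderOf_eq_one], fun e => ?_⟩
  have h1 := Nat.le_of_dvd (by have := orderOf_pos x; omega) (orderOf_dvd_of_pow_eq_one e)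
  have := orderOf_pos x
  omega

theorem even_orderOf_of_swap {x : Γ} {a b : α} (hab : a ≠ b) (h1 : x • a = b) (h2 : x • b = a) :
    Even (orderOf x) := by
  by_contra h
  obtain ⟨j, hj⟩ := Nat.not_even_iff_odd.mp h
  have e : (x ^ 2) ^ (j + 1) = x := by
    rw [← pow_mul, show 2 * (j + 1) = orderOf x + 1 by omega, pow_succ, pow_orderOf_eq_one,
      one_mul]
  have hfix : x ^ 2 • a = a := by rw [pow_two, mul_smul, h1, h2]
  have := fix_pow hfix (j + 1)
  rw [e, h1] at this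
  exact hab this.symm

/-- Either the normalizer is transitive on ordered fixed pairs, or `T` grows. -/
theorem pair_alternative {G T : Subgroup Γ} (hT : IsPGroup 2 T) (hTG : T ≤ G)
    (h2 : ∀ ⦃a b a' b' : α⦄, a ≠ b → a' ≠ b' → ∃ g ∈ G, g • a = a' ∧ g • b = b') {a b : α}
    (hab : a ≠ b) (ha : ∀ t ∈ T, t • a = a) (hb : ∀ t ∈ T, t • b = b) :
    (∀ a' b' : α, a' ≠ b' → (∀ t ∈ T, t • a' = a') → (∀ t ∈ T, t • b' = b') →
      ∃ n ∈ G, n ∈ Subgroup.normalizer (T : Set Γ) ∧ n • a = a' ∧ n • b = b') ∨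
    ∃ g ∈ G, g ∈ Subgroup.normalizer (T : Set Γ) ∧ g ∉ T ∧ g • a = a ∧ g • b = b ∧
      IsPGroup 2 (Subgroup.zpowers g) := by
  haveI : Fact (Nat.Prime 2) := ⟨Nat.prime_two⟩
  set K := G ⊓ stabilizer Γ (a, b) with hK
  have hTK : T ≤ K := fun t ht => ⟨hTG ht, Prod.ext (ha t ht) (hb t ht)⟩
  obtain ⟨X, hX, hTX⟩ := exists_isSyl_ge 2 hT hTK
  by_cases hTX' : T = X
  · left
    intro a' b' hab' ha' hb'
    subst hTX'
    obtain ⟨g, hg, e1, e2⟩ := h2 hab hab'
    obtain ⟨n, hn, hnN, e⟩ := witt (x := (a, b)) (y := (a', b')) hX ⟨g, hg, Prod.ext e1 e2⟩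
      fun t ht => Prod.ext (ha' t ht) (hb' t ht)
    exact ⟨n, hn, hnN, congrArg Prod.fst e, congrArg Prod.snd e⟩
  · right
    obtain ⟨g, hg, hgT, hgN⟩ := exists_normalizer_not_mem hX.isPGroup hTX hTX'
    exact ⟨g, (hX.le hg).1, hgN, hgT, congrArg Prod.fst (hX.le hg).2,
      congrArg Prod.snd (hX.le hg).2, hX.isPGroup.to_le (Subgroup.zpowers_le.mpr hg)⟩

end Group

variable {P L : Type*} [Membership P L] [ProjectivePlane P L] [Finite P] [Finite L]
variable {G : Subgroup (Coll P L)}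

/-- `G` contains no nontrivial perspectivity. -/
def NoPersp (G : Subgroup (Coll P L)) : Prop := ∀ l : L, ∀ g ∈ G, Axis g l → g = 1

theorem exists_invol (h : TwoTrans G) : ∃ z ∈ G, z * z = 1 ∧ z ≠ 1 := by
  obtain ⟨a⟩ := nonempty_point P L
  obtain ⟨b, hb⟩ := exists_other a L
  obtain ⟨g, hg, e1, e2⟩ := h hb.symm hb
  obtain ⟨j, h2, h1⟩ := exists_invol_pow (even_orderOf_of_swap hb.symm e1 e2)
  exact ⟨g ^ j, pow_mem hg j, h2, h1⟩

theorem NoPersp.baer (hno : NoPersp G) {z : Coll P L} (hz : z ∈ G) (h2 : z * z = 1)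
    (h1 : z ≠ 1) : ∃ hq : HasQuad L (fixSet (Subgroup.zpowers z)),
      letI := fixPlane (Subgroup.zpowers z) hq
      ord (FixP (Subgroup.zpowers z)) (FixL (Subgroup.zpowers z)) ^ 2 = ord P L :=
  (invol_dichotomy h2 h1).resolve_left fun ⟨l, hl⟩ => h1 (hno l z hz hl)

theorem odd_of_noPersp (h : TwoTrans G) (hno : NoPersp G) : Odd (ord P L) := by
  classical
  haveI : Fact (Nat.Prime 2) := ⟨Nat.prime_two⟩
  by_contra heven
  rw [Nat.not_odd_iff_even] at heven
  set n := ord P L with hn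
  obtain ⟨S, hS⟩ := exists_isSyl 2 G
  obtain ⟨z₀, hz₀, h20, h10⟩ := exists_invol h
  have hSne : S ≠ ⊥ := by
    intro hbot
    have ho : orderOf z₀ = 2 := orderOf_eq_prime (by rw [pow_two, h20]) h10
    have hpg : IsPGroup 2 (Subgroup.zpowers z₀) :=
      IsPGroup.of_card (n := 1) (by rw [Nat.card_zpowers, ho, pow_one])
    have := hS.card_le hpg (Subgroup.zpowers_le.mpr hz₀)
    rw [hbot, Nat.card_zpowers, ho, Subgroup.card_bot] at this
    omega
  have hodd1 : ¬2 ∣ Nat.card {x : P // True} := by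
    rw [Nat.card_congr (Equiv.subtypeUnivEquiv fun _ => trivial), card_points (L := L), ← hn,
      ← even_iff_two_dvd]
    simp [heven, parity_simps]
  obtain ⟨p, -, hp⟩ := exists_fixed_of_not_dvd hS.isPGroup (fun _ : P => True)
    (fun _ _ _ _ => trivial) hodd1
  have hodd2 : ¬2 ∣ Nat.card {l : L // p ∈ l} := by
    rw [card_through, ← hn, ← even_iff_two_dvd]
    simp [heven, parity_simps]
  obtain ⟨l, hpl, hl⟩ := exists_fixed_of_not_dvd hS.isPGroup (fun l : L => p ∈ l)
    (fun t ht l' hl' => mem_of_eq_pt (hp t ht).symm (smul_mem t hl')) hodd2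
  obtain ⟨z, hz, hzo, hzc⟩ := exists_central_prime hS.isPGroup hSne
  have hz2 : z * z = 1 := by rw [← pow_two, ← hzo, pow_orderOf_eq_one]
  have hz1 : z ≠ 1 := fun h' => by rw [h', orderOf_one] at hzo; omega
  obtain ⟨hq, hm⟩ := hno.baer (hS.le hz) hz2 hz1
  letI := fixPlane (Subgroup.zpowers z) hq
  set m := ord (FixP (Subgroup.zpowers z)) (FixL (Subgroup.zpowers z)) with hm'
  have hm1 : 1 < m := one_lt_ord
  obtain ⟨b, c, hc, hbc⟩ := Nat.exists_eq_pow_mul_and_not_dvd (show m ≠ 0 by omega) 2 (by norm_num)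
  have hb : 1 ≤ b := by
    rcases Nat.eq_zero_or_pos b with hb | hb
    · exfalso
      rw [hb, pow_zero, one_mul] at hbc
      rw [← hn] at hm
      rw [← hm, hbc, Nat.even_pow] at heven
      exact hc (even_iff_two_dvd.mp heven.1)
    · exact hb
  have hdn : 2 ^ (2 * b) ∣ n := ⟨c ^ 2, by rw [hn, ← hm, hbc]; ring⟩
  have horb : ∀ x : P, x ≠ p → 2 ^ (2 * b) ∣ Nat.card ↥(orb S x) := by
    intro x hx
    have hK : IsSyl 2 S (stP G p) :=
      hS.of_le (fun s hs => mem_stP.mpr ⟨hS.le hs, hp s hs⟩) inf_le_left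
    refine dvd_orb_of_coprime hK.le x ?_ (hK.coprime _)
    rw [show orb (stP G p) x = {q | q ≠ p} from Set.ext fun q =>
      ⟨fun ⟨g, hg, e⟩ hqp => hx (smul_left_cancel g ((e.trans hqp).trans (mem_stP.mp hg).2.symm)),
        fun hq' => h.stP_trans hx hq'⟩]
    have hcard : Nat.card {q : P // q ≠ p} = n * (n + 1) := by
      have := card_subtype_add_not (fun q : P => q = p)
      rw [Nat.card_unique, card_points (L := L)] at this
      change Nat.card {q : P // ¬q = p} = _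
      rw [← hn] at this
      linarith
    change 2 ^ (2 * b) ∣ Nat.card {q : P // q ≠ p}
    rw [hcard]
    exact hdn.mul_right _
  have hdF : 2 ^ (2 * b) ∣ Nat.card {x : P // (x ∈ l ∧ x ≠ p) ∧ z • x = x} := by
    refine dvd_card_of_orbits (H := S) _ (fun s hs x hx => ⟨⟨smul_mem_fix (hl s hs) hx.1.1,
      fun e => hx.1.2 (smul_left_cancel s (e.trans (hp s hs).symm))⟩, ?_⟩) fun x hx => horb x hx.1.2
    rw [← mul_smul, ← hzc s hs, mul_smul, hx.2]
  have hcardF : Nat.card {x : P // (x ∈ l ∧ x ≠ p) ∧ z • x = x} = m := by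
    have hpz : ∀ g ∈ Subgroup.zpowers z, g • p = p := fix_zpowers_iff.mpr (hp z hz)
    have hlz : ∀ g ∈ Subgroup.zpowers z, g • l = l := fix_zpowers_line_iff.mpr (hl z hz)
    rw [hm', ← card_mem_ne (P := FixP (Subgroup.zpowers z))
      (l := (⟨l, hlz⟩ : FixL (Subgroup.zpowers z))) (c := ⟨p, hpz⟩) hpl]
    exact Nat.card_congr
      { toFun := fun x => ⟨⟨x.1, fix_zpowers_iff.mpr x.2.2⟩, x.2.1.1,
          fun e => x.2.1.2 (congrArg Subtype.val e)⟩
        invFun := fun x => ⟨x.1.1, ⟨x.2.1, fun e => x.2.2 (Subtype.ext e)⟩,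
          fix_zpowers_iff.mp x.1.2⟩
        left_inv := fun _ => rfl
        right_inv := fun _ => rfl }
  rw [hcardF, hbc] at hdF
  have h3 : 2 ^ (b + 1) ∣ 2 ^ b * c := (pow_dvd_pow 2 (by omega)).trans hdF
  rw [pow_succ] at h3
  exact hc ((Nat.mul_dvd_mul_iff_left (Nat.two_pow_pos b)).mp h3)

/-- Without perspectivities the order is an odd prime power. -/
theorem primePow_of_noPersp (h : TwoTrans G) (hno : NoPersp G) : IsPrimePow (ord P L) := by
  classical
  haveI : Fact (Nat.Prime 2) := ⟨Nat.prime_two⟩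
  have hodd := odd_of_noPersp h hno
  let Cand : Subgroup (Coll P L) → Prop := fun T =>
    T ≤ G ∧ IsPGroup 2 T ∧ HasQuad L (fixSet T)
  obtain ⟨z₀, hz₀, h20, h10⟩ := exists_invol h
  have hcand : Cand (Subgroup.zpowers z₀) :=
    ⟨Subgroup.zpowers_le.mpr hz₀, IsPGroup.of_card (n := 1) (by
      rw [Nat.card_zpowers, orderOf_eq_prime (by rw [pow_two, h20]) h10, pow_one]),
      (hno.baer hz₀ h20 h10).1⟩
  obtain ⟨T, hT, hmax⟩ := Set.Finite.exists_maximalFor (fun T : Subgroup (Coll P L) => Nat.card T)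
    {T | Cand T} (Set.toFinite _) ⟨_, hcand⟩
  obtain ⟨hTG, hT2, hq⟩ := hT
  have grow : ∀ {g : Coll P L} {S : Set P}, g ∈ G → g ∈ Subgroup.normalizer (T : Set (Coll P L)) →
      IsPGroup 2 (Subgroup.zpowers g) → HasQuad L S → S ⊆ fixSet T → (∀ x ∈ S, g • x = x) →
      g ∈ T := by
    intro g S hg hgN hg2 hSq hST hgS
    set W := T ⊔ Subgroup.zpowers g with hW
    have hW2 : IsPGroup 2 W := hT2.to_sup_of_normal_left' hg2 (Subgroup.zpowers_le.mpr hgN)
    have hWq : HasQuad L (fixSet W) := by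
      refine hSq.mono fun x hx w hw => ?_
      have hle : W ≤ stabilizer (Coll P L) x :=
        sup_le (fun t ht => hST hx t ht) (Subgroup.zpowers_le.mpr (hgS x hx))
      exact hle hw
    have hle : Nat.card W ≤ Nat.card T :=
      hmax (show Cand W from ⟨sup_le hTG (Subgroup.zpowers_le.mpr hg), hW2, hWq⟩)
        (Subgroup.card_le_of_le le_sup_left)
    rw [Subgroup.eq_of_le_of_card_ge le_sup_left hle]
    exact (le_sup_right : Subgroup.zpowers g ≤ W) (Subgroup.mem_zpowers g)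
  letI := fixPlane T hq
  obtain ⟨j, hj⟩ := ord_eq_pow_fix T hT2 hq
  set X := indGroup G T with hX
  have lift : ∀ {g : Coll P L} (hg : g ∈ G) (hn : g ∈ Subgroup.normalizer (T : Set (Coll P L))),
      g ∉ T → IsPGroup 2 (Subgroup.zpowers g) →
      indHom T ⟨g, hn⟩ ≠ 1 ∧ Even (orderOf (indHom T ⟨g, hn⟩)) := by
    intro g hg hn hgT hg2
    have hne : indHom T ⟨g, hn⟩ ≠ 1 := fun e =>
      hgT (grow hg hn hg2 hq subset_rfl ((indHom_eq_one hq hn).mp e))
    refine ⟨hne, ?_⟩
    obtain ⟨k, hk⟩ := hg2 ⟨g, Subgroup.mem_zpowers g⟩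
    have hk' : (⟨g, hn⟩ : Subgroup.normalizer (T : Set (Coll P L))) ^ 2 ^ k = 1 :=
      Subtype.ext (congrArg Subtype.val hk :)
    have hdvd : orderOf (indHom T ⟨g, hn⟩) ∣ 2 ^ k :=
      orderOf_dvd_of_pow_eq_one (by rw [← map_pow, hk', map_one])
    obtain ⟨i, -, hi⟩ := (Nat.dvd_prime_pow Nat.prime_two).mp hdvd
    rw [hi]
    refine Nat.even_pow.mpr ⟨even_two, fun h0 => hne ?_⟩
    rw [← orderOf_eq_one_iff, hi, h0, pow_zero]
  have hR : ReflRich X := by
    refine ⟨?_, ?_, ?_, ?_⟩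
    · by_contra h'
      rw [Nat.not_odd_iff_even] at h'
      rw [← hj] at hodd
      exact (Nat.not_even_iff_odd.mpr hodd) (Nat.even_pow.mpr ⟨h', by positivity⟩)
    · intro x hx h2 h1
      refine ((invol_dichotomy h2 h1).resolve_right ?_)
      rintro ⟨hxq, -⟩
      obtain ⟨g, hn, hg, rfl⟩ := exists_of_mem_indGroup hx
      obtain ⟨i, hi1, hi2⟩ := exists_ppower_lift (p := 2) (indHom T) ⟨g, hn⟩ h1 (i := 1)
        (by rw [pow_one, pow_two, h2])
      set g' : Subgroup.normalizer (T : Set (Coll P L)) := ⟨g, hn⟩ ^ i with hg'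
      have hmem : (g' : Coll P L) ∈ T := by
        refine grow (show (g' : Coll P L) ∈ G from by rw [hg', Subgroup.coe_pow]; exact pow_mem hg i)
          g'.2 hi2 (hasQuad_of_sub T hq hxq) ?_ ?_
        · rintro _ ⟨y, -, rfl⟩; exact y.2
        · rintro _ ⟨y, hy, rfl⟩
          have e := indHom_point T g' y
          rw [hg', map_pow, fix_pow (fix_zpowers_iff.mp hy) i] at e
          exact e.symm
      exact hi1 ((indHom_eq_one hq g'.2).mpr fun p hp => hp _ hmem)
    · intro a b hab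
      have hab' : (a : P) ≠ b := fun e => hab (Subtype.ext e)
      rcases pair_alternative hT2 hTG h hab' a.2 b.2 with htr | ⟨g, hg, hn, hgT, ha, hb, hg2⟩
      · obtain ⟨g, hg, hn, e1, e2⟩ := htr b.1 a.1 hab'.symm b.2 a.2
        have he := even_orderOf_of_swap (x := indHom T ⟨g, hn⟩) (a := a) (b := b) hab
          (Subtype.ext e1) (Subtype.ext e2)
        obtain ⟨i, hi2, hi1⟩ := exists_invol_pow he
        obtain ⟨c, d, hcd, hc, hd⟩ := exists_fixed_pair hi2 hi1
        obtain ⟨u, hu, huN, u1, u2⟩ := htr c.1 d.1 (fun e => hcd (Subtype.ext e)) c.2 d.2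
        set v := indHom T ⟨u, huN⟩ with hv
        set y := indHom T ⟨g, hn⟩ ^ i with hy
        have hva : v • a = c := Subtype.ext u1
        have hvb : v • b = d := Subtype.ext u2
        have hvX : v ∈ X := mem_indGroup hu huN
        refine ⟨v⁻¹ * y * v, mul_mem (mul_mem (inv_mem hvX) (pow_mem (mem_indGroup hg hn) i)) hvX,
          ?_, ?_, ?_, ?_⟩
        · calc v⁻¹ * y * v * (v⁻¹ * y * v) = v⁻¹ * (y * y) * v := by group
            _ = 1 := by rw [hi2, mul_one, inv_mul_cancel]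
        · intro e
          apply hi1
          calc y = v * (v⁻¹ * y * v) * v⁻¹ := by group
            _ = 1 := by rw [e, mul_one, mul_inv_cancel]
        · rw [mul_smul, mul_smul, hva, hc, ← hva, inv_smul_smul]
        · rw [mul_smul, mul_smul, hvb, hd, ← hvb, inv_smul_smul]
      · obtain ⟨-, he⟩ := lift hg hn hgT hg2
        obtain ⟨i, hi2, hi1⟩ := exists_invol_pow he
        exact ⟨_, pow_mem (mem_indGroup hg hn) i, hi2, hi1, fix_pow (Subtype.ext ha) i,
          fix_pow (Subtype.ext hb) i⟩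
    · intro a b hab
      have hab' : (a : L) ≠ b := fun e => hab (Subtype.ext e)
      have h2L : ∀ ⦃l m l' m' : L⦄, l ≠ m → l' ≠ m' → ∃ g ∈ G, g • l = l' ∧ g • m = m' := by
        intro l m l' m' hlm hlm'
        obtain ⟨x, hx, e1, e2⟩ := h.dual (p := l) (q := m) (p' := l') (q' := m') hlm hlm'
        obtain ⟨g, hg, rfl⟩ := exists_of_mem_dualGroup hx
        exact ⟨g, hg, e1, e2⟩
      rcases pair_alternative hT2 hTG h2L hab' a.2 b.2 with htr | ⟨g, hg, hn, hgT, ha, hb, hg2⟩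
      · obtain ⟨g, hg, hn, e1, e2⟩ := htr b.1 a.1 hab'.symm b.2 a.2
        have he := even_orderOf_of_swap (x := indHom T ⟨g, hn⟩) (a := a) (b := b) hab
          (Subtype.ext e1) (Subtype.ext e2)
        obtain ⟨i, hi2, hi1⟩ := exists_invol_pow he
        set y := indHom T ⟨g, hn⟩ ^ i with hy
        obtain ⟨c, d, hcd, hc, hd⟩ : ∃ c d : FixL T, c ≠ d ∧ y • c = c ∧ y • d = d := by
          have h2' : dualEquiv y * dualEquiv y = 1 := by rw [← map_mul, hi2, map_one]
          have h1' : dualEquiv y ≠ 1 := fun e =>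
            hi1 ((dualEquiv (P := FixP T) (L := FixL T)).injective (e.trans (map_one _).symm))
          exact exists_fixed_pair (P := Dual (FixL T)) (L := Dual (FixP T)) h2' h1'
        obtain ⟨u, hu, huN, u1, u2⟩ := htr c.1 d.1 (fun e => hcd (Subtype.ext e)) c.2 d.2
        set v := indHom T ⟨u, huN⟩ with hv
        have hva : v • a = c := Subtype.ext u1
        have hvb : v • b = d := Subtype.ext u2
        have hvX : v ∈ X := mem_indGroup hu huN
        refine ⟨v⁻¹ * y * v, mul_mem (mul_mem (inv_mem hvX) (pow_mem (mem_indGroup hg hn) i)) hvX,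
          ?_, ?_, ?_, ?_⟩
        · calc v⁻¹ * y * v * (v⁻¹ * y * v) = v⁻¹ * (y * y) * v := by group
            _ = 1 := by rw [hi2, mul_one, inv_mul_cancel]
        · intro e
          apply hi1
          calc y = v * (v⁻¹ * y * v) * v⁻¹ := by group
            _ = 1 := by rw [e, mul_one, mul_inv_cancel]
        · rw [mul_smul, mul_smul, hva, hc, ← hva, inv_smul_smul]
        · rw [mul_smul, mul_smul, hvb, hd, ← hvb, inv_smul_smul]
      · obtain ⟨-, he⟩ := lift hg hn hgT hg2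
        obtain ⟨i, hi2, hi1⟩ := exists_invol_pow he
        exact ⟨_, pow_mem (mem_indGroup hg hn) i, hi2, hi1, fix_pow (Subtype.ext ha) i,
          fix_pow (Subtype.ext hb) i⟩
  rw [← hj]
  exact hR.isPrimePow_ord.pow (by positivity)

end Cfsg.Lib.Plane
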