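import Cfsg.Agent.Lib.Plane.Collineation

/-!
# Perspectivities, elation groups, the involution dichotomy
-/

set_option autoImplicit false
set_option linter.unusedSectionVars false
set_option linter.style.haveILetI false

namespace Cfsg.Lib.Plane

open Configuration

/-- A free action on a finite type: the group order divides the size. -/
theorem card_dvd_of_free {H : Type*} [Group H] [Finite H] {α : Type*} [Finite α] [MulAction H α]
    (hfree : ∀ (h : H) (a : α), h • a = a → h = 1) : Nat.card H ∣ Nat.card α := by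
  classical
  haveI := Fintype.ofFinite (MulAction.orbitRel.Quotient H α)
  rw [Nat.card_congr (MulAction.selfEquivSigmaOrbitsQuotientStabilizer H α), Nat.card_sigma]
  refine Finset.dvd_sum fun ω _ => ?_
  have hbot : MulAction.stabilizer H ω.out = ⊥ :=
    (Subgroup.eq_bot_iff_forall _).mpr fun h hh => hfree h _ hh
  rw [hbot, Nat.card_congr (QuotientGroup.quotientBot (G := H)).toEquiv]

variable {P L : Type*} [Membership P L]

/-- `g` fixes every point of `l`. -/
def Axis (g : Coll P L) (l : L) : Prop := ∀ p : P, p ∈ l → g • p = p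

/-- `g` fixes every line through `c`. -/
def Centre (g : Coll P L) (c : P) : Prop := ∀ l : L, c ∈ l → g • l = l

theorem axis_one (l : L) : Axis (1 : Coll P L) l := fun p _ => one_smul _ p

theorem centre_one (c : P) : Centre (1 : Coll P L) c := fun l _ => one_smul _ l

theorem Axis.mul {g h : Coll P L} {l : L} (hg : Axis g l) (hh : Axis h l) : Axis (g * h) l :=
  fun p hp => by rw [mul_smul, hh p hp, hg p hp]

theorem Axis.inv {g : Coll P L} {l : L} (hg : Axis g l) : Axis g⁻¹ l :=
  fun p hp => inv_smul_eq_iff.mpr (hg p hp).symm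

theorem Centre.mul {g h : Coll P L} {c : P} (hg : Centre g c) (hh : Centre h c) :
    Centre (g * h) c := fun l hl => by rw [mul_smul, hh l hl, hg l hl]

theorem Centre.inv {g : Coll P L} {c : P} (hg : Centre g c) : Centre g⁻¹ c :=
  fun l hl => inv_smul_eq_iff.mpr (hg l hl).symm

theorem Axis.conj {g : Coll P L} {l : L} (hg : Axis g l) (x : Coll P L) :
    Axis (x * g * x⁻¹) (x • l) := fun p hp => by
  have h1 : x⁻¹ • p ∈ l := (mem_smul_iff x).mp hp
  rw [mul_smul, mul_smul, hg _ h1, smul_inv_smul]

theorem Centre.conj {g : Coll P L} {c : P} (hg : Centre g c) (x : Coll P L) :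
    Centre (x * g * x⁻¹) (x • c) := fun l hl => by
  have h1 : c ∈ x⁻¹ • l := by rw [mem_smul_iff, inv_inv]; exact hl
  rw [mul_smul, mul_smul, hg _ h1, smul_inv_smul]

theorem mem_of_eq_pt {x y : P} {l : L} (e : x = y) (h : y ∈ l) : x ∈ l := e.symm ▸ h

theorem mem_of_eq_ln {x : P} {l m : L} (h : x ∈ l) (e : l = m) : x ∈ m := e ▸ h

theorem mem_of_fix {g : Coll P L} {p : P} {l : L} (e : g • p = p) (h : p ∈ l) : p ∈ g • l :=
  mem_of_eq_pt e.symm (smul_mem g h)

theorem smul_mem_fix {g : Coll P L} {p : P} {l : L} (e : g • l = l) (h : p ∈ l) : g • p ∈ l :=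
  mem_of_eq_ln (smul_mem g h) e

variable [ProjectivePlane P L] [Finite P] [Finite L]

theorem axis_fixed_line {g : Coll P L} {l : L} (hg : Axis g l) : g • l = l := by
  obtain ⟨a, ha, -, -⟩ := exists_mem_ne_ne l (nonempty_point P L).some (nonempty_point P L).some
  obtain ⟨b, hb, hba, -⟩ := exists_mem_ne_ne l a a
  exact line_unique hba (hg b hb ▸ smul_mem g hb) (hg a ha ▸ smul_mem g ha) hb ha

theorem centre_fixed_point {g : Coll P L} {c : P} (hg : Centre g c) : g • c = c := by
  obtain ⟨x, hx⟩ : ∃ x : P, x ≠ c := by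
    obtain ⟨l⟩ := nonempty_line (L := L) P
    obtain ⟨x, -, hx, -⟩ := exists_mem_ne_ne l c c
    exact ⟨x, hx⟩
  obtain ⟨y, hy, -⟩ := exists_notMem_two (P := P) (join L x c) (join L x c)
  have hyc : y ≠ c := fun e => hy (mem_of_eq_pt e (join_right hx))
  have hne : join L x c ≠ join L y c := fun e => hy (e ▸ join_left hyc)
  exact point_unique hne (hg _ (join_right hx) ▸ smul_mem g (join_right hx)) (join_right hx)
    (hg _ (join_right hyc) ▸ smul_mem g (join_right hyc)) (join_right hyc)

theorem axis_eq_one {g : Coll P L} {l : L} (hg : Axis g l) {p q : P} (hp : p ∉ l) (hq : q ∉ l)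
    (hpq : p ≠ q) (hgp : g • p = p) (hgq : g • q = q) : g = 1 := by
  have key : ∀ x : P, x ∉ l → x ∉ join L p q → g • x = x := by
    intro x hx hxpq
    have h1 : x ≠ p := fun e => hxpq (mem_of_eq_pt e (join_left hpq))
    have h2 : x ≠ q := fun e => hxpq (mem_of_eq_pt e (join_right hpq))
    have fixl : ∀ r : P, r ∉ l → g • r = r → x ≠ r → g • join L x r = join L x r := by
      intro r hr hgr hxr
      have hne : join L x r ≠ l := fun e => hr (e ▸ join_right hxr)
      set s : P := meet (join L x r) l
      have hs : s ∈ l := meet_right hne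
      have hrs : r ≠ s := fun e => hr (e ▸ hs)
      exact line_unique hrs (mem_of_fix hgr (join_right hxr))
        (hg s hs ▸ smul_mem g (meet_left hne)) (join_right hxr) (meet_left hne)
    have hne : join L x p ≠ join L x q := fun e =>
      hxpq (by rw [join_eq hpq (join_right h1) (e ▸ join_right h2)]; exact join_left h1)
    exact point_unique hne (fixl p hp hgp h1 ▸ smul_mem g (join_left h1)) (join_left h1)
      (fixl q hq hgq h2 ▸ smul_mem g (join_left h2)) (join_left h2)
  apply coll_eq_one
  intro x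
  by_cases hx : x ∈ l
  · exact hg x hx
  by_cases hxpq : x ∈ join L p q
  swap
  · exact key x hx hxpq
  by_cases hxp : x = p
  · exact hxp ▸ hgp
  obtain ⟨y, hy, hy'⟩ := exists_notMem_two (P := P) l (join L p q)
  have hxy : x ≠ y := fun e => hy' (e ▸ hxpq)
  set s : P := meet (join L x y) l with hs
  have hne : join L x y ≠ l := fun e => hx (e ▸ join_left hxy)
  have hys : y ≠ s := fun e => hy (e ▸ meet_right hne)
  have hfix : g • join L x y = join L x y :=
    line_unique hys (mem_of_fix (key y hy hy') (join_right hxy))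
      (hg s (meet_right hne) ▸ smul_mem g (meet_left hne)) (join_right hxy) (meet_left hne)
  have hline : g • join L p q = join L p q := by rw [smul_join g hpq, hgp, hgq]
  have hne2 : join L x y ≠ join L p q := fun e => hy' (e ▸ join_right hxy)
  exact point_unique hne2 (hfix ▸ smul_mem g (join_left hxy)) (join_left hxy)
    (hline ▸ smul_mem g hxpq) hxpq

theorem exists_centre {g : Coll P L} {l : L} (hg : Axis g l) (hg1 : g ≠ 1) :
    ∃ c : P, Centre g c := by
  by_cases hfix : ∃ c : P, c ∉ l ∧ g • c = c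
  · obtain ⟨c, hc, hgc⟩ := hfix
    refine ⟨c, fun m hm => ?_⟩
    have hne : m ≠ l := fun e => hc (e ▸ hm)
    have hcs : c ≠ meet m l := fun e => hc (e ▸ meet_right hne)
    exact line_unique hcs (hgc ▸ smul_mem g hm)
      (hg _ (meet_right hne) ▸ smul_mem g (meet_left hne)) hm (meet_left hne)
  push Not at hfix
  obtain ⟨x, hx⟩ := Nondegenerate.exists_point (P := P) l
  have hxg : x ≠ g • x := (hfix x hx).symm
  set m := join L x (g • x) with hm
  have hne : m ≠ l := fun e => hx (e ▸ join_left hxg)
  have hgx : g • x ∉ l := fun h => hx (by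
    have h2 := hg _ h
    rw [smul_left_cancel_iff] at h2
    exact h2 ▸ h)
  have hfixm : g • m = m := by
    have hxc : g • x ≠ meet m l := fun e => hgx (e ▸ meet_right hne)
    exact line_unique hxc (smul_mem g (join_left hxg))
      (hg _ (meet_right hne) ▸ smul_mem g (meet_left hne)) (join_right hxg) (meet_left hne)
  refine ⟨meet m l, fun k hk => ?_⟩
  by_cases hkl : k = l
  · subst hkl; exact axis_fixed_line hg
  by_cases hkm : k = m
  · rw [hkm]; exact hfixm
  obtain ⟨y, hy, hyc, -⟩ := exists_mem_ne_ne k (meet m l : P) (meet m l : P)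
  have hyl : y ∉ l := fun h => hkl (line_unique hyc hy hk h (meet_right hne))
  have hyg : y ≠ g • y := (hfix y hyl).symm
  set k' := join L y (g • y)
  have hne' : k' ≠ l := fun e => hyl (e ▸ join_left hyg)
  have hgy : g • y ∉ l := fun h => hyl (by
    have h2 := hg _ h
    rw [smul_left_cancel_iff] at h2
    exact h2 ▸ h)
  have hfixk : g • k' = k' := by
    have hyc' : g • y ≠ meet k' l := fun e => hgy (e ▸ meet_right hne')
    exact line_unique hyc' (smul_mem g (join_left hyg))
      (hg _ (meet_right hne') ▸ smul_mem g (meet_left hne')) (join_right hyg) (meet_left hne')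
  have hmk' : m ≠ k' := by
    intro e
    have hym : y ∈ m := e ▸ join_left hyg
    exact hkm (line_unique hyc hy hk hym (meet_left hne))
  have hz : g • (meet m k' : P) = meet m k' := by rw [smul_meet g hmk', hfixm, hfixk]
  have hzl : (meet m k' : P) ∈ l := by
    by_contra h
    exact hfix _ h hz
  have hck' : (meet m l : P) ∈ k' := by
    rw [meet_eq hne (meet_left hmk') hzl]
    exact meet_right hmk'
  rw [line_unique hyc hy hk (join_left hyg) hck']
  exact hfixk

theorem fixed_point_cases {g : Coll P L} {l : L} {c : P} (hl : Axis g l) (hc : Centre g c)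
    (hg : g ≠ 1) {p : P} (hp : g • p = p) : p = c ∨ p ∈ l := by
  by_contra h
  push Not at h
  by_cases hcl : c ∈ l
  swap
  · exact hg (axis_eq_one hl h.2 hcl h.1 hp (centre_fixed_point hc))
  obtain ⟨x, hx, hx'⟩ := exists_notMem_two (P := P) l (join L c p)
  have hcx : c ≠ x := fun e => hx (e ▸ hcl)
  have hxp : x ≠ p := fun e => hx' (mem_of_eq_pt e (join_right h.1.symm))
  have h1 : g • join L c x = join L c x := hc _ (join_left hcx)
  set m := join L x p with hm
  have hml : m ≠ l := fun e => h.2 (e ▸ join_right hxp)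
  have hps : p ≠ meet m l := fun e => h.2 (e ▸ meet_right hml)
  have h2 : g • m = m := line_unique hps (mem_of_fix hp (join_right hxp))
    (hl _ (meet_right hml) ▸ smul_mem g (meet_left hml)) (join_right hxp) (meet_left hml)
  have hne : join L c x ≠ m := fun e =>
    hx' (by rw [join_eq h.1.symm (join_left hcx) (e ▸ join_right hxp)]; exact join_right hcx)
  have hgx : g • x = x := point_unique hne (h1 ▸ smul_mem g (join_right hcx)) (join_right hcx)
    (h2 ▸ smul_mem g (join_left hxp)) (join_left hxp)
  exact hg (axis_eq_one hl hx h.2 hxp hgx hp)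

theorem fixed_line_cases {g : Coll P L} {l : L} {c : P} (hl : Axis g l) (hc : Centre g c)
    (hg : g ≠ 1) {m : L} (hm : g • m = m) : m = l ∨ c ∈ m := by
  by_contra h
  push Not at h
  obtain ⟨x, hx, hx1, -⟩ := exists_mem_ne_ne m (meet m l : P) (meet m l : P)
  have hxl : x ∉ l := fun e => hx1 (meet_eq h.1 hx e).symm
  have hcx : c ≠ x := fun e => h.2 (e ▸ hx)
  have hne : join L c x ≠ m := fun e => h.2 (e ▸ join_left hcx)
  have hgx : g • x = x := point_unique hne
    (hc _ (join_left hcx) ▸ smul_mem g (join_right hcx)) (join_right hcx) (hm ▸ smul_mem g hx) hx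
  rcases fixed_point_cases hl hc hg hgx with e | e
  · exact hcx e.symm
  · exact hxl e

theorem centre_unique {g : Coll P L} {l : L} {c c' : P} (hl : Axis g l) (hc : Centre g c)
    (hc' : Centre g c') (hg : g ≠ 1) : c = c' := by
  by_contra hne
  obtain ⟨x, hx, hx'⟩ := exists_notMem_two (P := P) l (join L c c')
  obtain ⟨m, hxm, -⟩ := exists_mem_pair L x x
  have hxc : x ≠ c := fun e => hx' (mem_of_eq_pt e (join_left hne))
  have hxc' : x ≠ c' := fun e => hx' (mem_of_eq_pt e (join_right hne))
  have hd : join L x c ≠ join L x c' := fun e =>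
    hx' (by rw [join_eq hne (join_right hxc) (e ▸ join_right hxc')]; exact join_left hxc)
  have hgx : g • x = x := point_unique hd
    (hc _ (join_right hxc) ▸ smul_mem g (join_left hxc)) (join_left hxc)
    (hc' _ (join_right hxc') ▸ smul_mem g (join_left hxc')) (join_left hxc')
  rcases fixed_point_cases hl hc hg hgx with e | e
  · exact hxc e
  · exact hx e

/-- Perspectivities with the same centre and axis agreeing at one further point coincide. -/
theorem persp_eq {g h : Coll P L} {l : L} {c x : P} (hgl : Axis g l) (hhl : Axis h l)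
    (hgc : Centre g c) (hhc : Centre h c) (hx : x ∉ l) (hxc : x ≠ c) (e : g • x = h • x) :
    g = h := by
  by_contra hne
  have h1 : h⁻¹ * g ≠ 1 := fun e' => hne (by rw [inv_mul_eq_one] at e'; exact e'.symm)
  rcases fixed_point_cases (hhl.inv.mul hgl) (hhc.inv.mul hgc) h1 (p := x)
    (by rw [mul_smul, e, inv_smul_smul]) with e' | e'
  · exact hxc e'
  · exact hx e'

theorem smul_mem_line_centre {g : Coll P L} {c x : P} (hc : Centre g c) {m : L} (hcm : c ∈ m)
    (hx : x ∈ m) : g • x ∈ m := hc m hcm ▸ smul_mem g hx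

/-- An elation with axis `l`. -/
def IsElation (g : Coll P L) (l : L) : Prop :=
  Axis g l ∧ ∀ p : P, p ∉ l → g • p = p → g = 1

theorem IsElation.exists_centre {g : Coll P L} {l : L} (hg : IsElation g l) (hg1 : g ≠ 1) :
    ∃ c : P, c ∈ l ∧ Centre g c := by
  obtain ⟨c, hc⟩ := Cfsg.Lib.Plane.exists_centre hg.1 hg1
  refine ⟨c, ?_, hc⟩
  by_contra hcl
  exact hg1 (hg.2 c hcl (centre_fixed_point hc))

theorem isElation_of_centre {g : Coll P L} {l : L} {c : P} (hl : Axis g l) (hc : Centre g c)
    (hcl : c ∈ l) : IsElation g l := by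
  refine ⟨hl, fun p hp hgp => ?_⟩
  by_contra hg
  rcases fixed_point_cases hl hc hg hgp with e | e
  · exact hp (e ▸ hcl)
  · exact hp e

theorem IsElation.mul {g h : Coll P L} {l : L} (hg : IsElation g l) (hh : IsElation h l) :
    IsElation (g * h) l := by
  refine ⟨hg.1.mul hh.1, fun d hd hfix => ?_⟩
  by_cases hg1 : g = 1
  · subst hg1; rw [one_mul] at hfix ⊢; exact hh.2 d hd hfix
  by_cases hh1 : h = 1
  · subst hh1; rw [mul_one] at hfix ⊢; exact hg.2 d hd hfix
  obtain ⟨a, hal, ha⟩ := hg.exists_centre hg1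
  obtain ⟨b, hbl, hb⟩ := hh.exists_centre hh1
  by_cases hab : a = b
  · subst hab
    exact (isElation_of_centre (hg.1.mul hh.1) (ha.mul hb) hal).2 d hd hfix
  exfalso
  have hda : a ≠ d := fun e => hd (e ▸ hal)
  have hdb : b ≠ d := fun e => hd (e ▸ hbl)
  have h1 : h • d = g⁻¹ • d := by rw [mul_smul] at hfix; exact eq_inv_smul_iff.mpr hfix
  have m1 : h • d ∈ join L a d :=
    h1 ▸ smul_mem_line_centre ha.inv (join_left hda) (join_right hda)
  have m2 : h • d ∈ join L b d := smul_mem_line_centre hb (join_left hdb) (join_right hdb)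
  have hne : join L a d ≠ join L b d := fun e => hd (by
    have hbm : b ∈ join L a d := e ▸ join_left hdb
    have := line_unique hab (join_left hda) hbm hal hbl
    exact this ▸ join_right hda)
  exact hh1 (hh.2 d hd (point_unique hne m1 (join_right hda) m2 (join_right hdb)))

theorem IsElation.inv {g : Coll P L} {l : L} (hg : IsElation g l) : IsElation g⁻¹ l := by
  refine ⟨hg.1.inv, fun p hp h => ?_⟩
  rw [hg.2 p hp (inv_smul_eq_iff.mp h).symm, inv_one]

theorem IsElation.conj {g : Coll P L} {l : L} (hg : IsElation g l) (x : Coll P L) :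
    IsElation (x * g * x⁻¹) (x • l) := by
  refine ⟨hg.1.conj x, fun p hp h => ?_⟩
  have hp' : x⁻¹ • p ∉ l := fun h' => hp ((mem_smul_iff x).mpr h')
  have h2 := hg.2 _ hp' (by
    rw [mul_smul, mul_smul] at h
    exact smul_left_cancel x (h.trans (smul_inv_smul x p).symm))
  rw [h2, mul_one, mul_inv_cancel]

/-- The elations with axis `l` in `G`. -/
def elat (G : Subgroup (Coll P L)) (l : L) : Subgroup (Coll P L) where
  carrier := {g | g ∈ G ∧ IsElation g l}
  one_mem' := ⟨one_mem G, axis_one l, fun _ _ _ => rfl⟩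
  mul_mem' h1 h2 := ⟨mul_mem h1.1 h2.1, h1.2.mul h2.2⟩
  inv_mem' h := ⟨inv_mem h.1, h.2.inv⟩

/-- The elations with centre `c` and axis `l` in `G`. -/
def elatC (G : Subgroup (Coll P L)) (c : P) (l : L) : Subgroup (Coll P L) where
  carrier := {g | g ∈ elat G l ∧ Centre g c}
  one_mem' := ⟨one_mem _, centre_one c⟩
  mul_mem' h1 h2 := ⟨mul_mem h1.1 h2.1, h1.2.mul h2.2⟩
  inv_mem' h := ⟨inv_mem h.1, h.2.inv⟩

theorem elatC_le (G : Subgroup (Coll P L)) (c : P) (l : L) : elatC G c l ≤ elat G l :=
  fun _ h => h.1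

theorem elatC_inf_eq_bot (G : Subgroup (Coll P L)) {c d : P} (l : L) (h : c ≠ d) :
    elatC G c l ⊓ elatC G d l = ⊥ := by
  rw [Subgroup.eq_bot_iff_forall]
  intro g hg
  by_contra hg1
  exact h (centre_unique hg.1.1.2.1 hg.1.2 hg.2.2 hg1)

theorem elat_smul_fixed {G : Subgroup (Coll P L)} {l : L} {g : Coll P L} (hg : g ∈ elat G l)
    {x : P} (hx : x ∉ l) (h : g • x = x) : g = 1 := hg.2.2 x hx h

theorem elat_eq_of_smul {G : Subgroup (Coll P L)} {l : L} {g h : Coll P L} (hg : g ∈ elat G l)
    (hh : h ∈ elat G l) {x : P} (hx : x ∉ l) (e : g • x = h • x) : g = h := by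
  have h1 := elat_smul_fixed (mul_mem (inv_mem hh) hg) hx (by rw [mul_smul, e, inv_smul_smul])
  exact (inv_mul_eq_one.mp h1).symm

theorem card_elat_dvd (G : Subgroup (Coll P L)) (l : L) :
    Nat.card (elat G l) ∣ ord P L ^ 2 := by
  rw [← card_off l]
  letI : MulAction (elat G l) {p : P // p ∉ l} :=
    { smul := fun g p => ⟨(g : Coll P L) • p.1,
        fun h => smul_notMem _ p.2 (mem_of_eq_ln h (axis_fixed_line g.2.2.1).symm)⟩
      one_smul := fun p => Subtype.ext (one_smul _ p.1)
      mul_smul := fun a b p => Subtype.ext (mul_smul (a : Coll P L) b p.1) }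
  exact card_dvd_of_free fun g p h => Subtype.ext (elat_smul_fixed g.2 p.2 (congrArg Subtype.val h))

theorem card_elatC_dvd (G : Subgroup (Coll P L)) {c : P} {l : L} (hcl : c ∈ l) :
    Nat.card (elatC G c l) ∣ ord P L := by
  obtain ⟨x, hx⟩ := Nondegenerate.exists_point (P := P) l
  have hcx : c ≠ x := fun e => hx (e ▸ hcl)
  set m := join L c x with hm
  have hml : m ≠ l := fun e => hx (e ▸ join_right hcx)
  rw [← card_mem_ne (l := m) (join_left hcx)]
  letI : MulAction (elatC G c l) {p : P // p ∈ m ∧ p ≠ c} :=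
    { smul := fun g p => ⟨(g : Coll P L) • p.1,
        smul_mem_line_centre g.2.2 (join_left hcx) p.2.1,
        fun h => p.2.2 (smul_left_cancel (g : Coll P L)
          (h.trans (centre_fixed_point g.2.2).symm))⟩
      one_smul := fun p => Subtype.ext (one_smul _ p.1)
      mul_smul := fun a b p => Subtype.ext (mul_smul (a : Coll P L) b p.1) }
  refine card_dvd_of_free fun g p h => Subtype.ext (elat_smul_fixed g.2.1 ?_ (congrArg Subtype.val h))
  exact fun hpl => p.2.2 (point_unique hml p.2.1 (join_left hcx) hpl hcl)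

/-- Elation groups with different centres commute. -/
theorem elatC_commute {G : Subgroup (Coll P L)} {l : L} {c d : P} (hc : c ∈ l) (hd : d ∈ l)
    (hcd : c ≠ d) {g h : Coll P L} (hg : g ∈ elatC G c l) (hh : h ∈ elatC G d l) :
    Commute g h := by
  set k := g * h * g⁻¹ * h⁻¹ with hk
  have hkE : k ∈ elat G l :=
    mul_mem (mul_mem (mul_mem hg.1 hh.1) (inv_mem hg.1)) (inv_mem hh.1)
  have hkc : Centre k c := by
    have h1 := hg.2.inv.conj h
    rw [hh.1.2.1 c hc] at h1
    have h2 := hg.2.mul h1
    have e : g * (h * g⁻¹ * h⁻¹) = k := by rw [hk]; group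
    rwa [e] at h2
  have hkd : Centre k d := by
    have h1 := hh.2.conj g
    rw [hg.1.2.1 d hd] at h1
    exact h1.mul hh.2.inv
  have h1 : k = 1 := by
    by_contra hne
    exact hcd (centre_unique hkE.2.1 hkc hkd hne)
  change g * h = h * g
  calc g * h = k * (h * g) := by rw [hk]; group
    _ = h * g := by rw [h1, one_mul]

end Cfsg.Lib.Plane
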