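import Cfsg.Agent.Lib.Plane.FieldAux

/-!
# Splitting endomorphisms into semilinear components over a finite field of operators
-/

set_option autoImplicit false
set_option linter.unusedSectionVars false
set_option linter.style.haveILetI false

namespace Cfsg.Lib.Plane

open Polynomial Finset

variable {K : Type*} [Field K] [Finite K] {W : Type*} [AddCommGroup W]
variable (ρ : K →+* AddMonoid.End W)

/-- `X` is semilinear with companion automorphism `σ`. -/
def IsComp (σ : RingAut K) (X : AddMonoid.End W) : Prop := ∀ a, X * ρ a = ρ (σ a) * X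

variable {ρ}

theorem IsComp.mul {σ τ : RingAut K} {X Y : AddMonoid.End W} (hX : IsComp ρ σ X)
    (hY : IsComp ρ τ Y) : IsComp ρ (σ * τ) (X * Y) := fun a => by
  rw [mul_assoc, hY, ← mul_assoc, hX, mul_assoc]
  rfl

theorem isComp_one_rho (a : K) : IsComp ρ 1 (ρ a) := fun b => by
  rw [← map_mul, mul_comm, map_mul]
  rfl

theorem IsComp.smul {σ : RingAut K} {X : AddMonoid.End W} (hX : IsComp ρ σ X) (a : K) :
    IsComp ρ σ (ρ a * X) := by
  simpa using (isComp_one_rho (ρ := ρ) a).mul hX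

theorem isComp_zero (σ : RingAut K) : IsComp ρ σ 0 := fun a => by simp

theorem isComp_one_one : IsComp ρ 1 (1 : AddMonoid.End W) := fun a => by simp

theorem IsComp.pow {σ : RingAut K} {Y : AddMonoid.End W} (hY : IsComp ρ σ Y) :
    ∀ j : ℕ, IsComp ρ (σ ^ j) (Y ^ j)
  | 0 => by simpa using isComp_one_one (ρ := ρ)
  | j + 1 => by
    rw [pow_succ σ, pow_succ Y]
    exact (hY.pow j).mul hY

/-- Powers of `ρ w * Y`. -/
theorem IsComp.smul_pow {σ : RingAut K} {Y : AddMonoid.End W} (hY : IsComp ρ σ Y) (w : K) :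
    ∀ j : ℕ, (ρ w * Y) ^ j = ρ (normPow σ j w) * Y ^ j
  | 0 => by simp [normPow_zero]
  | j + 1 => by
    rw [pow_succ', hY.smul_pow w j, normPow_succ, map_mul, mul_assoc, ← mul_assoc Y, hY,
      mul_assoc, ← pow_succ' Y, ← mul_assoc]

/-- Powers of a semilinear map at an eigenvector. -/
theorem IsComp.pow_eigen {σ : RingAut K} {Y : AddMonoid.End W} (hY : IsComp ρ σ Y) {b : K}
    {v : W} (hv : Y v = ρ b v) : ∀ j : ℕ, (Y ^ j) v = ρ (normPow σ j b) v
  | 0 => by simp [normPow_zero]
  | j + 1 => by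
    rw [pow_succ']
    change Y ((Y ^ j) v) = _
    rw [hY.pow_eigen hv j]
    change (Y * ρ (normPow σ j b)) v = _
    rw [hY]
    change ρ (σ (normPow σ j b)) (Y v) = _
    rw [hv, normPow_succ, mul_comm, map_mul]
    rfl

variable (K)

/-- A chosen generator of the units of `K`. -/
noncomputable def gen : K := (exists_gen (K := K)).choose

variable {K}

theorem gen_ne_zero : gen K ≠ 0 := (exists_gen (K := K)).choose_spec.1

theorem gen_spec : ∀ a : K, a ≠ 0 → ∃ m : ℕ, gen K ^ m = a := (exists_gen (K := K)).choose_spec.2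

theorem isComp_of_gen {σ : RingAut K} {X : AddMonoid.End W}
    (h : X * ρ (gen K) = ρ (σ (gen K)) * X) : IsComp ρ σ X := by
  intro a
  by_cases ha : a = 0
  · simp [ha]
  obtain ⟨m, rfl⟩ := gen_spec a ha
  clear ha
  induction m with
  | zero => simp
  | succ m ih =>
    rw [pow_succ, map_mul, ← mul_assoc, ih, mul_assoc, h, ← mul_assoc, ← map_mul, map_mul σ]

/-- The selector of an automorphism. -/
noncomputable def sel (σ : RingAut K) : K[X] :=
  (exists_selector (gen_spec (K := K)) σ).choose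

open scoped Classical in
theorem sel_eval (σ τ : RingAut K) :
    (sel σ).eval (τ (gen K)) = if τ = σ then 1 else 0 :=
  (exists_selector (gen_spec (K := K)) σ).choose_spec τ

variable (ρ)

theorem end_sum_apply {A : Type*} [AddCommGroup A] {ι : Type*} (s : Finset ι)
    (f : ι → AddMonoid.End A) (x : A) : (∑ i ∈ s, f i) x = ∑ i ∈ s, f i x :=
  AddMonoidHom.finsetSum_apply f s x

/-- Left multiplication by scalars. -/
noncomputable def lmul : K →+* AddMonoid.End (AddMonoid.End W) :=
  (Module.toAddMonoidEnd (AddMonoid.End W) (AddMonoid.End W)).comp ρ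

theorem lmul_apply (c : K) (X : AddMonoid.End W) : lmul ρ c X = ρ c * X := rfl

/-- Right multiplication by the generator. -/
noncomputable def rgen : AddMonoid.End (AddMonoid.End W) := AddMonoidHom.mulRight (ρ (gen K))

theorem rgen_apply (X : AddMonoid.End W) : rgen ρ X = X * ρ (gen K) := rfl

/-- The quadratic operator of the generator. -/
noncomputable def ugen : AddMonoid.End (AddMonoid.End W) :=
  lmul ρ (gen K) * rgen ρ

theorem ugen_apply (X : AddMonoid.End W) : ugen ρ X = ρ (gen K) * (X * ρ (gen K)) := rfl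

theorem commute_rgen (c : K) : Commute (lmul ρ c) (rgen ρ) :=
  AddMonoidHom.ext fun X => (mul_assoc (ρ c) X (ρ (gen K))).symm

theorem commute_ugen (c : K) : Commute (lmul ρ c) (ugen ρ) := by
  have h : Commute (lmul ρ c) (lmul ρ (gen K)) := (Commute.all c (gen K)).map _
  exact h.mul_right (commute_rgen ρ c)

/-- Evaluation at right multiplication. -/
noncomputable def evR : K[X] →+* AddMonoid.End (AddMonoid.End W) :=
  Polynomial.eval₂RingHom' (lmul ρ) (rgen ρ) (commute_rgen ρ)

/-- Evaluation at the quadratic operator. -/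
noncomputable def evU : K[X] →+* AddMonoid.End (AddMonoid.End W) :=
  Polynomial.eval₂RingHom' (lmul ρ) (ugen ρ) (commute_ugen ρ)

variable {ρ}

theorem eval₂_eigen (F : AddMonoid.End (AddMonoid.End W)) (hF : ∀ c, Commute (lmul ρ c) F)
    {X : AddMonoid.End W} {lam : K} (hX : F X = ρ lam * X) (P : K[X]) :
    Polynomial.eval₂RingHom' (lmul ρ) F hF P X = ρ (P.eval lam) * X := by
  induction P using Polynomial.induction_on with
  | C a => simp [eval₂RingHom', eval₂_C, lmul_apply]
  | add p q hp hq =>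
    rw [map_add, eval_add, map_add, add_mul, ← hp, ← hq]
    rfl
  | monomial m a ih =>
    rw [pow_succ, ← mul_assoc, map_mul]
    change Polynomial.eval₂RingHom' (lmul ρ) F hF (C a * Polynomial.X ^ m)
      (Polynomial.eval₂RingHom' (lmul ρ) F hF Polynomial.X X) = _
    have e : Polynomial.eval₂RingHom' (lmul ρ) F hF Polynomial.X = F := by
      simp [eval₂RingHom']
    rw [e, hX]
    have hc : Commute (Polynomial.eval₂RingHom' (lmul ρ) F hF (C a * Polynomial.X ^ m))
        (lmul ρ lam) := by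
      have h2 := (Commute.all (C a * Polynomial.X ^ m) (C lam)).map
        (Polynomial.eval₂RingHom' (lmul ρ) F hF)
      simpa [eval₂RingHom'] using h2
    have := DFunLike.congr_fun hc.eq X
    change Polynomial.eval₂RingHom' (lmul ρ) F hF (C a * Polynomial.X ^ m) (ρ lam * X)
      = ρ lam * _ at this
    refine this.trans ((congrArg (ρ lam * ·) ih).trans ?_)
    rw [eval_mul (p := C a * Polynomial.X ^ m), eval_X, ← mul_assoc, ← map_mul, mul_comm lam]

theorem evR_comp {σ : RingAut K} {X : AddMonoid.End W} (hX : IsComp ρ σ X) (P : K[X]) :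
    evR ρ P X = ρ (P.eval (σ (gen K))) * X :=
  eval₂_eigen (rgen ρ) (commute_rgen ρ) (by rw [rgen_apply, hX]) P

theorem evU_comp {σ : RingAut K} {X : AddMonoid.End W} (hX : IsComp ρ σ X) (P : K[X]) :
    evU ρ P X = ρ (P.eval (gen K * σ (gen K))) * X :=
  eval₂_eigen (ugen ρ) (commute_ugen ρ) (by rw [ugen_apply, hX, ← mul_assoc, ← map_mul]) P

theorem evR_natCoeff {P : K[X]} (hP : ∀ i, ∃ m : ℕ, (m : K) = P.coeff i)
    (X : AddMonoid.End W) : evR ρ P X = X * ρ (P.eval (gen K)) := by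
  have hpow : ∀ m : ℕ, (rgen ρ ^ m) X = X * ρ (gen K) ^ m := by
    intro m
    induction m with
    | zero => simp
    | succ m ih =>
      rw [pow_succ']
      change rgen ρ ((rgen ρ ^ m) X) = _
      rw [ih, rgen_apply, mul_assoc, ← pow_succ]
  conv_lhs => rw [P.as_sum_range_C_mul_X_pow]
  rw [map_sum, eval_eq_sum_range, map_sum, mul_sum]
  refine (end_sum_apply _ _ X).trans (sum_congr rfl fun i _ => ?_)
  obtain ⟨m, hm⟩ := hP i
  rw [map_mul]
  simp only [evR, eval₂RingHom']
  change (eval₂ (lmul ρ) (rgen ρ) (C (P.coeff i))) (eval₂ (lmul ρ) (rgen ρ) (Polynomial.X ^ i) X) = _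
  rw [eval₂_C, eval₂_X_pow, lmul_apply, hpow, ← hm, map_mul, map_natCast, map_pow,
    ← mul_assoc, (Nat.cast_commute m X).eq, mul_assoc]

theorem evR_eq_zero {P : K[X]} (hP : ∀ τ : RingAut K, P.eval (τ (gen K)) = 0) :
    evR ρ P = 0 := by
  classical
  letI := Fintype.ofFinite (RingAut K)
  have hinj : Function.Injective fun τ : RingAut K => τ (gen K) :=
    fun a b h => aut_ext_gen gen_spec h
  have hco : ((univ : Finset (RingAut K)) : Set (RingAut K)).Pairwise
      (Function.onFun IsCoprime fun τ => (Polynomial.X - C (τ (gen K)))) :=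
    (pairwise_coprime_X_sub_C hinj).set_pairwise _
  have hdvd : orbitPoly (gen K) ∣ P := by
    rw [orbitPoly]
    convert Finset.prod_dvd_of_coprime hco fun τ _ => dvd_iff_isRoot.mpr (hP τ) using 2
  obtain ⟨Q, rfl⟩ := hdvd
  rw [map_mul]
  apply AddMonoidHom.ext
  intro X
  change evR ρ (orbitPoly (gen K)) (evR ρ Q X) = 0
  rw [evR_natCoeff (coeff_natCast_of_invariant (orbitPoly_map _)), orbitPoly_eval_self,
    map_zero, mul_zero]

variable (ρ)

/-- The component of an endomorphism. -/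
noncomputable def comp (σ : RingAut K) : AddMonoid.End (AddMonoid.End W) := evR ρ (sel σ)

variable {ρ}

open scoped Classical in
theorem comp_of_isComp {σ τ : RingAut K} {X : AddMonoid.End W} (hX : IsComp ρ τ X) :
    comp ρ σ X = if τ = σ then X else 0 := by
  rw [comp, evR_comp hX, sel_eval]
  split <;> simp

theorem comp_self {σ : RingAut K} {X : AddMonoid.End W} (hX : IsComp ρ σ X) :
    comp ρ σ X = X := by
  classical
  rw [comp_of_isComp hX, if_pos rfl]

theorem comp_other {σ τ : RingAut K} {X : AddMonoid.End W} (hX : IsComp ρ τ X) (h : τ ≠ σ) :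
    comp ρ σ X = 0 := by
  classical
  rw [comp_of_isComp hX, if_neg h]

theorem isComp_comp (σ : RingAut K) (X : AddMonoid.End W) : IsComp ρ σ (comp ρ σ X) := by
  classical
  apply isComp_of_gen
  have h := evR_eq_zero (ρ := ρ) (P := (Polynomial.X - C (σ (gen K))) * sel σ) fun τ => by
    rw [eval_mul, sel_eval]
    by_cases hτ : τ = σ
    · subst hτ; simp
    · simp [hτ]
  have h2 := DFunLike.congr_fun h X
  rw [map_mul, map_sub] at h2
  change evR ρ Polynomial.X (comp ρ σ X) - evR ρ (C (σ (gen K))) (comp ρ σ X) = 0 at h2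
  simp only [evR, eval₂RingHom', RingHom.coe_mk, MonoidHom.coe_mk, OneHom.coe_mk, eval₂_X,
    eval₂_C] at h2
  exact sub_eq_zero.mp h2

theorem sum_comp [Fintype (RingAut K)] (X : AddMonoid.End W) : ∑ σ, comp ρ σ X = X := by
  classical
  have h := evR_eq_zero (ρ := ρ) (P := (∑ σ : RingAut K, sel σ) - 1) fun τ => by
    rw [eval_sub, eval_finsetSum, eval_one]
    simp [sel_eval]
  rw [map_sub, map_one, map_sum, sub_eq_zero] at h
  have h2 := DFunLike.congr_fun h X
  exact (end_sum_apply _ _ X).symm.trans h2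

theorem evU_mem {S : AddSubgroup (AddMonoid.End W)}
    (hU : ∀ a, ∀ X ∈ S, ρ a * X * ρ a ∈ S) {P : K[X]}
    (hP : ∀ i, ∃ m : ℕ, (m : K) = P.coeff i) {X : AddMonoid.End W} (hX : X ∈ S) :
    evU ρ P X ∈ S := by
  have hpow : ∀ i : ℕ, (ugen ρ ^ i) X ∈ S := by
    intro i
    induction i with
    | zero => simpa using hX
    | succ i ih =>
      rw [pow_succ']
      change ugen ρ ((ugen ρ ^ i) X) ∈ S
      rw [ugen_apply, ← mul_assoc]
      exact hU _ _ ih
  rw [P.as_sum_range_C_mul_X_pow, map_sum]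
  rw [end_sum_apply]
  refine sum_mem fun i _ => ?_
  obtain ⟨m, hm⟩ := hP i
  rw [map_mul]
  simp only [evU, eval₂RingHom']
  change (eval₂ (lmul ρ) (ugen ρ) (C (P.coeff i))) (eval₂ (lmul ρ) (ugen ρ) (Polynomial.X ^ i) X) ∈ S
  rw [eval₂_C, eval₂_X_pow, lmul_apply, ← hm, map_natCast, ← nsmul_eq_mul]
  exact nsmul_mem (hpow i) m

theorem prod_orbitPoly_map {ι : Type*} (s : Finset ι) (f : ι → K) (τ : RingAut K) :
    (∏ i ∈ s, orbitPoly (f i)).map (τ : K →+* K) = ∏ i ∈ s, orbitPoly (f i) := by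
  rw [Polynomial.map_prod]
  exact prod_congr rfl fun i _ => orbitPoly_map _ _

/-- Projection of a member of `S` to the class of `σ` (`σ` and its inverse). -/
theorem exists_class {S : AddSubgroup (AddMonoid.End W)}
    (hU : ∀ a, ∀ X ∈ S, ρ a * X * ρ a ∈ S) (σ : RingAut K) (hσ : σ ≠ 1)
    {X : AddMonoid.End W} (hX : X ∈ S) (hne : comp ρ σ X ≠ 0) :
    ∃ Y Z : AddMonoid.End W, IsComp ρ σ Y ∧ IsComp ρ σ⁻¹ Z ∧ (σ * σ = 1 → Z = 0) ∧
      Y + Z ∈ S ∧ Y ≠ 0 := by
  classical
  letI := Fintype.ofFinite (RingAut K)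
  set g := gen K with hg
  let bad := (univ : Finset (RingAut K)).filter fun τ => τ ≠ σ ∧ τ ≠ σ⁻¹
  let Q : K[X] := ∏ τ ∈ bad, orbitPoly (g * τ g)
  have hmem : evU ρ Q X ∈ S :=
    evU_mem hU (coeff_natCast_of_invariant (prod_orbitPoly_map bad _)) hX
  have hQ0 : ∀ τ ∈ bad, Q.eval (g * τ g) = 0 := fun τ hτ => by
    rw [eval_prod]
    exact prod_eq_zero hτ (orbitPoly_eval_self _)
  have hQσ : Q.eval (g * σ g) ≠ 0 := by
    rw [eval_prod]
    refine prod_ne_zero_iff.mpr fun τ hτ => orbitPoly_eval_ne _ _ fun μ h => ?_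
    simp only [bad, mem_filter, mem_univ, true_and] at hτ
    rw [map_mul] at h
    rcases pair_eq gen_spec hσ (τ := μ) (ρ := μ * τ) h with ⟨h1, h2⟩ | ⟨h1, h2⟩
    · rw [h1, one_mul] at h2; exact hτ.1 h2
    · rw [h2] at h1; exact hτ.2 (inv_eq_of_mul_eq_one_right h1).symm
  have heval : evU ρ Q X = ∑ τ, ρ (Q.eval (g * τ g)) * comp ρ τ X := by
    conv_lhs => rw [← sum_comp (ρ := ρ) X]
    rw [map_sum]
    exact sum_congr rfl fun τ _ => evU_comp (isComp_comp τ X) Q
  have hY0 : ρ (Q.eval (g * σ g)) * comp ρ σ X ≠ 0 := by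
    intro h
    apply hne
    have := congrArg (fun T => ρ (Q.eval (g * σ g))⁻¹ * T) h
    simpa [← mul_assoc, ← map_mul, inv_mul_cancel₀ hQσ] using this
  by_cases hσσ : σ * σ = 1
  · refine ⟨_, 0, (isComp_comp σ X).smul _, isComp_zero _, fun _ => rfl, ?_, hY0⟩
    rw [add_zero]
    convert hmem
    rw [heval, sum_eq_single σ]
    · intro τ _ hτ
      rw [hQ0 τ (by simp [bad, hτ, inv_eq_of_mul_eq_one_right hσσ]), map_zero, zero_mul]
    · exact fun h => absurd (mem_univ _) h
  · have hne' : σ⁻¹ ≠ σ := fun h => hσσ (by nth_rw 1 [← h]; exact inv_mul_cancel σ)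
    refine ⟨_, _, (isComp_comp σ X).smul (Q.eval (g * σ g)),
      (isComp_comp σ⁻¹ X).smul (Q.eval (g * σ⁻¹ g)), fun h => absurd h hσσ, ?_, hY0⟩
    convert hmem
    rw [heval, ← sum_subset (subset_univ ({σ, σ⁻¹} : Finset (RingAut K))), sum_pair hne'.symm]
    intro τ _ hτ
    simp only [mem_insert, mem_singleton, not_or] at hτ
    rw [hQ0 τ (by simp [bad, hτ]), map_zero, zero_mul]

/-- The linear component of a member of `S` is a scalar. -/
theorem comp_one_mem_range {S : AddSubgroup (AddMonoid.End W)}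
    (hU : ∀ a, ∀ X ∈ S, ρ a * X * ρ a ∈ S)
    (hmax : ∀ X ∈ S, IsComp ρ 1 X → ∃ a, ρ a = X)
    {X : AddMonoid.End W} (hX : X ∈ S) : ∃ a, ρ a = comp ρ 1 X := by
  classical
  letI := Fintype.ofFinite (RingAut K)
  set g := gen K with hg
  let bad := (univ : Finset (RingAut K)).filter fun τ => τ ≠ 1
  let Q : K[X] := ∏ τ ∈ bad, orbitPoly (g * τ g)
  have hmem : evU ρ Q X ∈ S :=
    evU_mem hU (coeff_natCast_of_invariant (prod_orbitPoly_map bad _)) hX
  have hQ1 : Q.eval (g * g) ≠ 0 := by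
    rw [eval_prod]
    refine prod_ne_zero_iff.mpr fun τ hτ => orbitPoly_eval_ne _ _ fun μ h => ?_
    simp only [bad, mem_filter, mem_univ, true_and] at hτ
    have h' := congrArg (μ⁻¹ : RingAut K) h
    simp only [map_mul] at h'
    have e : ∀ x, (μ⁻¹ : RingAut K) (μ x) = x := fun x => μ.symm_apply_apply x
    rw [e, e] at h'
    rcases pair_eq gen_spec hτ (τ := μ⁻¹) (ρ := μ⁻¹) h'.symm with ⟨h1, h2⟩ | ⟨h1, h2⟩ <;>
      exact hτ (h2.symm.trans h1)
  have heval : evU ρ Q X = ρ (Q.eval (g * g)) * comp ρ 1 X := by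
    conv_lhs => rw [← sum_comp (ρ := ρ) X]
    rw [map_sum, sum_congr rfl fun τ _ => evU_comp (isComp_comp τ X) Q, sum_eq_single 1]
    · rfl
    · intro τ _ hτ
      have : Q.eval (g * τ g) = 0 := by
        rw [eval_prod]
        exact prod_eq_zero (by simp [bad, hτ]) (orbitPoly_eval_self _)
      rw [this, map_zero, zero_mul]
    · exact fun h => absurd (mem_univ _) h
  obtain ⟨a, ha⟩ := hmax _ hmem (by rw [heval]; exact (isComp_comp 1 X).smul _)
  refine ⟨(Q.eval (g * g))⁻¹ * a, ?_⟩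
  rw [map_mul, ha, heval, ← mul_assoc, ← map_mul, inv_mul_cancel₀ hQ1, map_one, one_mul]

end Cfsg.Lib.Plane
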